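import Cfsg.Agent.TAB.Use.Defs_m3
import Cfsg.Agent.H985.VZ.GTwo_m3
import Cfsg.Agent.H664.R1.U3Iso
import Cfsg.Agent.LieRecognition.SzMatrix
import Cfsg.Agent.ChevalleyStructure.BNOrder
import Cfsg.Agent.Characters.Ito
import Cfsg.Agent.Nodes.RGDLib
import Cfsg.Agent.Lib.Zsigmondy
import Cfsg.Agent.Nodes.CardSup_m3
import Cfsg.Agent.H866.OZ.Elts2
import Cfsg.Agent.H866.OZ.KawTwo
import Cfsg.Agent.H120.OZ.ChevEl
import Cfsg.Agent.FastGrp
import Cfsg.Agent.Prune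
set_option linter.all false

section
prune_inst 0x7ffcecf8abaca9dfdfff7e3faed8dff831808fffa6dff943ffe0619f8bdf038209c56b850de010fe0ed7e2b410b87803fb7eeeffe86bdc7ffffd57b41ffbee0fa5e7b50851d4883406ac0ff603f057086f3ffff7ffffffffffffffffffffffbefffdebfeffff

-- part: VAN/Rk/One
section
set_option linter.all false
open scoped Cfsg.Agent.FastGrp

/-!
# S4942, groups of rank one: Suzuki, Ree, `U₃(q)` (helper77)

The three elements are a regular element of the torus, an element of prime order `r` (a primitive prime divisor of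
`|U|² - 1`) and a non-trivial unipotent element.
-/

set_option autoImplicit false

namespace Cfsg.Agent.VAN.Rk

open Cfsg Cfsg.Agent.H664.R1 Cfsg.Agent.H956.OZ

universe u v

/-- `Van3` passes to quotients. -/
theorem van3_of_surj {G : Type u} {H : Type v} [Group G] [Group H] (h : Van3 G) (f : G →* H)
    (hf : Function.Surjective f) : Van3 H := by
  obtain ⟨g₁, g₂, g₃, h⟩ := h
  refine ⟨f g₁, f g₂, f g₃, fun χ hχ h1 => h _ (Characters.Core.isIrr_comp f hf hχ) ?_⟩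
  intro h2
  apply h1
  funext x
  obtain ⟨y, rfl⟩ := hf x
  exact congrFun h2 y

/-- non-abelian simple groups are perfect -/
theorem perfect_of_simple {G : Type u} [Group G] [IsSimpleGroup G] (h : ¬ IsMulCommutative G) :
    commutator G = ⊤ := by
  rcases IsSimpleGroup.eq_bot_or_eq_top_of_normal (commutator G) inferInstance with h1 | h1
  · exfalso
    apply h
    refine ⟨⟨fun a b => ?_⟩⟩
    have h2 := Subgroup.commutator_mem_commutator (Subgroup.mem_top a) (Subgroup.mem_top b)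
    rw [← commutator_def, h1, Subgroup.mem_bot] at h2
    exact commutatorElement_eq_one_iff_mul_comm.1 h2
  · exact h1

theorem perfect_of_equiv {G : Type u} {H : Type v} [Group G] [Group H] (h : commutator G = ⊤) (e : G ≃* H) :
    commutator H = ⊤ := by
  have h1 := Subgroup.map_commutator (⊤ : Subgroup G) ⊤ e.toMonoidHom
  rw [← commutator_def, h, Subgroup.map_top_of_surjective _ e.surjective] at h1
  exact h1.symm

/-- a character whose degree contains the full `r`-part of the order vanishes on the `r`-singular elements -/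
theorem zero_of_dvd {G : Type u} [Group G] [Finite G] {χ : G → ℂ} (hχ : IsIrrCharacter G χ) {d r : ℕ}
    (hr : r.Prime) (hd : χ 1 = d) (h : ∀ c, r ^ c ∣ Nat.card G → r ^ c ∣ d) {g : G} (hg : r ∣ orderOf g) :
    χ g = 0 := by
  obtain ⟨c, b, hrb, hcb⟩ := Nat.exists_eq_pow_mul_and_not_dvd (n := Nat.card G) Nat.card_pos.ne' r hr.ne_one
  refine H732.VZ.zero_of_defect hr hcb hrb ⟨χ, hχ⟩ ?_ hg
  have h1 : charDegree χ = d := by
    have h2 := H686.CharKit.charDegree_irr ⟨χ, hχ⟩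
    have h3 : (charDegree χ : ℂ) = d := h2.trans hd
    exact_mod_cast h3
  show r ^ c ∣ charDegree χ
  rw [h1]
  exact h c (by rw [hcb]; exact Dvd.intro _ rfl)

/-- **Rank one.** -/
theorem van3_of_split {G : Type u} [Group G] [Finite G] (D : Split G) (hperf : commutator G = ⊤) {p v r : ℕ}
    (hp : p.Prime) (hv : v ≠ 0) (hU : Nat.card D.U = p ^ v) {t : G} (ht : t ∈ D.B)
    (hreg : ∀ u ∈ D.U, u * t = t * u → u = 1) (hr : r.Prime) (hr2 : r ≠ 2) (hrd : r ∣ p ^ v + 1)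
    (hrT : ¬ r ∣ Nat.card D.T) (hrk : ∀ k, 0 < k → k < v → ¬ r ∣ p ^ k + 1) : Van3 G := by
  classical
  have := Fintype.ofFinite G
  have : Fintype D.U := Fintype.ofFinite _
  have hrf : Fact r.Prime := ⟨hr⟩
  have hrU : ¬ r ∣ p ^ v := by
    intro h1
    exact hr.one_lt.ne' (Nat.dvd_one.1 ((Nat.dvd_add_right h1).1 hrd))
  have hrB : ¬ r ∣ Nat.card D.B := by
    rw [D.card_B, hU]
    intro h1
    rcases hr.dvd_mul.1 h1 with h2 | h2
    · exact hrU h2
    · exact hrT h2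
  have hcG : Nat.card G = (p ^ v + 1) * Nat.card D.B := by rw [D.card_G, hU]
  obtain ⟨z, hz⟩ := exists_prime_orderOf_dvd_card' (G := G) r (by rw [hcG]; exact hrd.mul_right _)
  have hnt : Nontrivial D.U := by
    rw [← Finite.one_lt_card_iff_nontrivial, hU]
    exact Nat.one_lt_pow hv hp.one_lt
  obtain ⟨y, hy⟩ := exists_ne (1 : D.U)
  have hy1 : (y : G) ≠ 1 := fun h => hy (Subtype.ext h)
  refine ⟨t, z, y, fun χ hχ hne1 => ?_⟩
  rcases R1.cases D hχ with h0 | ⟨f, hf⟩ | h1 | hst | ⟨f, χ', d, d', -, -, -, hχ', hne, hne', hd, hd', hdd, hdv, hdv'⟩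
  · exact Or.inl (R1.cusp_zero hχ h0 (fun u hu => D.nU _ ht u hu) hreg)
  · refine Or.inr (Or.inl ?_)
    rw [hf]
    apply R1.ps_zero
    apply Ree.not_mem_of_coprime
    · rw [hz]; exact hr.ne_one
    · rw [hz]; exact (Nat.Prime.coprime_iff_not_dvd hr).2 hrB
  · exact absurd h1 hne1
  · refine Or.inr (Or.inr ?_)
    have h1 := D.ps_U 1 (fun _ _ => rfl) y.2 hy1
    rw [hst, Pi.add_apply, Pi.one_apply] at h1
    linear_combination h1
  · refine Or.inr (Or.inl ?_)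
    have hd1 : d ≠ 1 := fun h1 => hne (Ree.eq_one_of_perfect hperf hχ (by rw [hd, h1, Nat.cast_one]))
    have hd1' : d' ≠ 1 := fun h1 => hne' (Ree.eq_one_of_perfect hperf hχ' (by rw [hd', h1, Nat.cast_one]))
    refine zero_of_dvd hχ hr hd (fun c hc => ?_) (by rw [hz])
    have hrc : r ^ c ∣ p ^ v + 1 := by
      rw [hcG] at hc
      exact (Nat.Coprime.pow_left c ((Nat.Prime.coprime_iff_not_dvd hr).2 hrB)).dvd_of_dvd_mul_right hc
    exact (R1.arith hp hr hr2 hrk (by rw [← hU]; exact hdv) (by rw [← hU]; exact hdv')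
      (by rw [← hU]; exact hdd) hd1 hd1' hrc).1

/-- a primitive prime divisor of `p ^ (2 v) - 1` -/
theorem exists_r {p v : ℕ} (hp : 2 ≤ p) (hv : 2 ≤ v) (h6 : ¬ (p = 2 ∧ v = 3)) :
    ∃ r : ℕ, r.Prime ∧ r ≠ 2 ∧ r ∣ p ^ v + 1 ∧ (∀ k, 0 < k → k < 2 * v → ¬ r ∣ p ^ k - 1) ∧
      ∀ k, 0 < k → k < v → ¬ r ∣ p ^ k + 1 := by
  obtain ⟨r, hr, h1, h2, -⟩ := Cfsg.Agent.Lib.Zsigmondy.exists_primitive (a := p) (n := 2 * v) hp (by omega)
    (by omega) (by omega)
  have hr1 : 2 * v ≤ r - 1 := Nat.le_of_dvd (by have := hr.two_le; omega) h2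
  have e : ∀ k, p ^ (2 * k) - 1 = (p ^ k + 1) * (p ^ k - 1) := by
    intro k
    rw [two_mul, pow_add]
    have := Nat.mul_self_sub_mul_self_eq (p ^ k) 1
    simpa using this
  have h4 : ∀ k, 0 < k → k < 2 * v → ¬ r ∣ p ^ k - 1 := by
    intro k hk hk2 hd
    have h6 := Nat.le_of_dvd hk ((h1 _).1 hd)
    omega
  refine ⟨r, hr, by omega, ?_, h4, ?_⟩
  · have h5 : r ∣ p ^ (2 * v) - 1 := (h1 _).2 dvd_rfl
    rw [e] at h5
    rcases (hr.dvd_mul).1 h5 with h6 | h6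
    · exact h6
    · exact absurd h6 (h4 v (by omega) (by omega))
  · intro k hk hk2 hd
    refine h4 (2 * k) (by omega) (by omega) ?_
    rw [e]
    exact hd.mul_right _

/-- a generator of the multiplicative group -/
theorem exists_unit_pow_ne {K : Type*} [Field K] [Fintype K] {n : ℕ} (hn : 0 < n) (h : n < Fintype.card K - 1) :
    ∃ a : Kˣ, a ^ n ≠ 1 := by
  obtain ⟨a, ha⟩ := IsCyclic.exists_generator (α := Kˣ)
  have hao : orderOf a = Fintype.card K - 1 := by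
    rw [orderOf_eq_card_of_forall_mem_zpowers ha, Nat.card_units, Nat.card_eq_fintype_card]
  refine ⟨a, fun h1 => ?_⟩
  have := Nat.le_of_dvd hn (orderOf_dvd_of_pow_eq_one h1)
  omega

/-! ### The small Ree groups -/

theorem van3_ree {K : Type*} [Field K] [Fintype K] {m : ℕ} (hm : 1 ≤ m) (hK : Fintype.card K = 3 ^ (2 * m + 1)) :
    Van3 ↥(Cfsg.Lie.twistedG2 K (3 ^ m)) := by
  obtain ⟨U, h, n, D⟩ := Cfsg.Agent.ChevalleyStructure.Ree.Data.exists_data hK
  have : Finite ↥(Cfsg.Lie.twistedG2 K (3 ^ m)) := inferInstance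
  obtain ⟨r, hr, hr2, hrd, hrm, hrk⟩ := exists_r (p := 3) (v := 3 * (2 * m + 1)) (by norm_num) (by omega) (by omega)
  have h27 : 3 ^ 3 ≤ 3 ^ (2 * m + 1) := Nat.pow_le_pow_right (by norm_num) (by omega)
  obtain ⟨a, ha⟩ := exists_unit_pow_ne (K := K) (n := 2) (by norm_num) (by rw [hK]; omega)
  refine van3_of_split (Ree.spl D) (Cfsg.Agent.S1116.result hK hm) Nat.prime_three (v := 3 * (2 * m + 1)) (by omega)
    ?_ (Cfsg.Agent.LieRecognition.ReeSplit.h_mem_bSub D a) (Ree.reg D hK (by rwa [pow_two] at ha)) hr hr2 hrd ?_ hrk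
  · have h1 : Nat.card (Ree.spl D).U = Fintype.card K ^ 3 := Cfsg.Agent.LieRecognition.ReeSylowThree.card_uSub D
    rw [h1, hK, ← pow_mul, mul_comm]
  · have h1 : Nat.card (Ree.spl D).T = Fintype.card K - 1 := Cfsg.Agent.H71.ReeOut.card_hSub D
    rw [h1, hK]
    exact hrm _ (by omega) (by omega)

/-- **The row of the small Ree groups.** -/
theorem row_ree : Row.{u} (fun G _ => Lie.IsoRee G) := by
  rintro G _ _ _ _ ⟨K, _, _, m, hm, hK, ⟨e⟩⟩
  exact (van3_ree hm hK).of_equiv e.symm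

/-! ### The Suzuki groups -/

section Sz

open Cfsg.Agent.LieRecognition.SzMatrix

variable {F : Type*} [Field F] {θ : F →+* F} {e : ℕ}

/-- the diagonal subgroup of the Suzuki group -/
def szT (H : Good F θ e) : Subgroup ↥(Cfsg.Lie.Sz F e) := (MonoidHom.mk' H.d fun k l => (H.d_mul k l).symm).range

theorem mem_szT (H : Good F θ e) {g : ↥(Cfsg.Lie.Sz F e)} : g ∈ szT H ↔ ∃ k, H.d k = g := Iff.rfl

theorem card_szT [Finite F] (H : Good F θ e) : Nat.card (szT H) = Nat.card F - 1 := by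
  rw [← Nat.card_units]
  exact (Nat.card_congr (MonoidHom.ofInjective
    (f := MonoidHom.mk' H.d fun k l => (H.d_mul k l).symm) (fun _ _ h => H.d_inj h)).toEquiv).symm

theorem sz_w_conj (H : Good F θ e) (k : Fˣ) : H.w * H.d k * H.w = H.d k⁻¹ := by
  rw [H.w_mul_d, mul_assoc, H.w_mul_w, mul_one]

/-- the split BN pair of rank one of the Suzuki groups -/
def szSplit (H : Good F θ e) : Split ↥(Cfsg.Lie.Sz F e) where
  B := H.borel
  U := H.unip
  T := szT H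
  w := H.w
  UB := H.unip_le_borel
  TB := by
    rintro _ ⟨k, rfl⟩
    exact H.d_mem_borel k
  nU := fun b hb u hu => H.borel_normalizes b hb u hu
  dec := by
    intro b hb
    obtain ⟨x, y, k, rfl⟩ := (H.mem_borel_iff' b).1 hb
    exact ⟨_, H.u_mem_unip x y, _, ⟨k, rfl⟩, rfl⟩
  disj := by
    intro u hu ht
    obtain ⟨x, y, rfl⟩ := (H.mem_unip_iff u).1 hu
    obtain ⟨k, hk⟩ := (mem_szT H).1 ht
    have h1 : H.u x y * H.d 1 = H.u 0 0 * H.d k := by rw [H.d_one, mul_one, H.u_zero, one_mul, hk]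
    obtain ⟨rfl, rfl, -⟩ := H.u_mul_d_inj h1
    exact H.u_zero
  comm := by
    intro s hs t ht
    obtain ⟨k, rfl⟩ := (mem_szT H).1 hs
    obtain ⟨l, rfl⟩ := (mem_szT H).1 ht
    rw [H.d_mul, H.d_mul, mul_comm]
  wT := by
    intro t ht
    obtain ⟨k, rfl⟩ := (mem_szT H).1 ht
    rw [H.w_inv, sz_w_conj]
    exact ⟨k⁻¹, rfl⟩
  wT' := by
    intro t ht
    obtain ⟨k, rfl⟩ := (mem_szT H).1 ht
    rw [H.w_inv, sz_w_conj]
    exact ⟨k⁻¹, rfl⟩
  cap := by
    intro b hb hb'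
    obtain ⟨x, y, k, rfl⟩ := (H.mem_borel_iff' b).1 hb
    have h1 : (H.w)⁻¹ * H.u x y * H.w ∈ H.borel := by
      have h2 : (H.w)⁻¹ * H.u x y * H.w = (H.w)⁻¹ * (H.u x y * H.d k) * H.w * (H.w * H.d k * H.w)⁻¹ := by
        rw [← H.w_inv]
        simp only [inv_inv]
        rw [H.w_inv]
        have h3 := H.w_mul_w
        calc H.w * H.u x y * H.w = H.w * (H.u x y * H.d k) * (H.d k)⁻¹ * H.w := by group
          _ = H.w * (H.u x y * H.d k) * (H.w * H.w) * (H.d k)⁻¹ * H.w := by rw [h3, mul_one]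
          _ = H.w * (H.u x y * H.d k) * H.w * (H.w⁻¹ * H.d k * H.w⁻¹)⁻¹ := by group
          _ = _ := by rw [H.w_inv]
      rw [h2, sz_w_conj]
      exact H.borel.mul_mem hb' (H.borel.inv_mem (H.d_mem_borel _))
    rw [H.inter_trivial _ (H.u_mem_unip x y) h1, one_mul]
    exact ⟨k, rfl⟩
  big := by
    intro x hx
    obtain ⟨s, hs, h⟩ := H.bruhat_sz x hx
    exact ⟨s, H.unip_le_borel hs, _, h, by group⟩
  wB := H.w_not_mem_borel

/-- every non-trivial diagonal element is regular -/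
theorem sz_reg (H : Good F θ e) {k : Fˣ} (hk : k ≠ 1) : ∀ u ∈ H.unip, u * H.d k = H.d k * u → u = 1 := by
  intro u hu hc
  obtain ⟨x, y, rfl⟩ := (H.mem_unip_iff u).1 hu
  rw [H.d_mul_u] at hc
  obtain ⟨h1, h2, -⟩ := H.u_mul_d_inj hc
  have hθ : θ (k : F) ≠ 0 := theta_ne_zero θ k
  have hk1 : (k : F) ≠ 1 := fun h => hk (Units.ext h)
  have h3 : θ (k : F) ≠ 1 := by
    intro h
    apply hk1
    apply θ.injective
    rw [h, map_one]
  have h4 : (k : F) ^ 2 ≠ θ k := by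
    intro h
    apply hk1
    have h6 : θ (k : F) = k := by
      apply θ.injective
      rw [H.sq, ← h]
    rw [h6] at h
    have h7 : (k : F) * (k - 1) = 0 := by linear_combination h
    rcases mul_eq_zero.1 h7 with h8 | h8
    · exact absurd h8 k.ne_zero
    · exact sub_eq_zero.1 h8
  have hx : x = 0 := by
    by_contra hx
    apply h4
    field_simp at h1
    exact h1.symm
  have hy : y = 0 := by
    by_contra hy
    apply h3
    have : y * θ k = y * 1 := by rw [mul_one]; exact h2.symm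
    exact mul_left_cancel₀ hy this
  rw [hx, hy, H.u_zero]

theorem van3_sz [Fintype F] {m : ℕ} (hm : 1 ≤ m) (hF : Fintype.card F = 2 ^ (2 * m + 1))
    (hperf : commutator ↥(Cfsg.Lie.Sz F (2 ^ (m + 1))) = ⊤) : Van3 ↥(Cfsg.Lie.Sz F (2 ^ (m + 1))) := by
  have H := good hF
  have : Finite ↥(Cfsg.Lie.Sz F (2 ^ (m + 1))) := inferInstance
  obtain ⟨r, hr, hr2, hrd, hrm, hrk⟩ := exists_r (p := 2) (v := 2 * (2 * m + 1)) (by norm_num) (by omega) (by omega)
  have h8 : 2 ^ 3 ≤ 2 ^ (2 * m + 1) := Nat.pow_le_pow_right (by norm_num) (by omega)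
  obtain ⟨a, ha⟩ := exists_unit_pow_ne (K := F) (n := 1) (by norm_num) (by rw [hF]; omega)
  rw [pow_one] at ha
  refine van3_of_split (szSplit H) hperf Nat.prime_two (v := 2 * (2 * m + 1)) (by omega)
    ?_ (H.d_mem_borel a) (sz_reg H ha) hr hr2 hrd ?_ hrk
  · have h1 : Nat.card (szSplit H).U = Nat.card F ^ 2 := H.card_unip
    rw [h1, Nat.card_eq_fintype_card, hF, ← pow_mul, mul_comm]
  · have h1 : Nat.card (szSplit H).T = Nat.card F - 1 := card_szT H
    rw [h1, Nat.card_eq_fintype_card, hF]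
    exact hrm _ (by omega) (by omega)

/-- **The row of the Suzuki groups.** -/
theorem row_sz : Row.{u} (fun G _ => Lie.IsoSuzuki G) := by
  rintro G _ _ _ hna ⟨F, _, _, m, hm, hF, ⟨e⟩⟩
  exact (van3_sz hm hF (perfect_of_equiv (perfect_of_simple hna) e)).of_equiv e.symm

end Sz

/-! ### The unitary groups in dimension three -/

section U3

open Cfsg.Agent.H664.R1.U3

variable {F : Type*} [Field F] {σ : F →+* F} [hσ : Fact (∀ x, σ (σ x) = x)]

theorem u3_reg [Fintype F] {t : F} (ht : t ≠ 0) (h1 : t * σ t ≠ 1) :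
    ∀ u ∈ (spS σ).U, u * (⟨pr σ (dg t (σ t / t) ht (dgS_rel ht)), ⟨_, dgS_mem t ht _, rfl⟩⟩ : S σ) =
      ⟨pr σ (dg t (σ t / t) ht (dgS_rel ht)), ⟨_, dgS_mem t ht _, rfl⟩⟩ * u → u = 1 := by
  rintro ⟨_, hS⟩ ⟨u, hu, rfl⟩ hc
  obtain ⟨a, b, h, rfl⟩ := exists_un hu
  set z := dg t (σ t / t) ht (dgS_rel ht) with hz
  have h2 : pr σ (un a b h) * pr σ z = pr σ z * pr σ (un a b h) := congrArg Subtype.val hc
  have h3 : (z * un a b h * z⁻¹)⁻¹ * un a b h ∈ Sc σ := by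
    apply QuotientGroup.eq.1
    show pr σ (z * un a b h * z⁻¹) = pr σ (un a b h)
    rw [map_mul, map_mul, map_inv, ← h2, mul_inv_cancel_right]
  have h4 := dg_conj_un t (σ t / t) ht (dgS_rel ht) a b h (conj_rel (dgS_rel ht) h)
  rw [← hz] at h4
  have h5 := Un_disj ((Un σ).mul_mem ((Un σ).inv_mem (by rw [h4]; exact un_mem _ _ _)) (un_mem a b h)) h3
  rw [inv_mul_eq_one, h4] at h5
  have h6 := congrArg (mat σ) h5
  rw [mat_un, mat_un] at h6
  have h7 : t * σ (σ t / t) * a = a := congrFun (congrFun h6 0) 1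
  have h8 : t * σ t * b = b := congrFun (congrFun h6 0) 2
  have h0 : σ t ≠ 0 := (map_ne_zero σ).2 ht
  have ha : a = 0 := by
    by_contra ha
    apply h1
    have h9 : t * σ (σ t / t) = 1 := mul_right_cancel₀ ha (by rw [one_mul]; exact h7)
    rw [map_div₀, hσ.out] at h9
    field_simp at h9
    have h10 := congrArg σ h9
    rw [map_pow, hσ.out] at h10
    have h11 : t * (t * σ t - 1) = 0 := by linear_combination (σ t) * h9 + h10
    rcases mul_eq_zero.1 h11 with h12 | h12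
    · exact absurd h12 ht
    · exact sub_eq_zero.1 h12
  have hb : b = 0 := by
    by_contra hb
    exact h1 (mul_right_cancel₀ hb (by rw [one_mul]; exact h8))
  apply Subtype.ext
  show pr σ (un a b h) = 1
  have h9 : un a b h = 1 := by
    apply mat_inj
    rw [mat_un, mat_one, ha, hb, map_zero, neg_zero]
    exact Matrix.one_fin_three.symm
  rw [h9, map_one]

/-- `U₃(q)`, `q ≥ 3` -/
theorem van3_psu3 {F : Type*} [Field F] [Fintype F] {q : ℕ} (hF : Fintype.card F = q ^ 2) (hq : q ≠ 2)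
    (hperf : commutator (Cfsg.PSU 3 F q) = ⊤) : Van3 (Cfsg.PSU 3 F q) := by
  obtain ⟨σ, hσ, hs, ⟨e⟩⟩ := exists_iso hF
  refine Van3.of_equiv ?_ e.symm
  have : Finite (PG σ) := inferInstance
  obtain ⟨p, k, hp, -, hpk, hk⟩ := Cfsg.Agent.LieClassical.HermBasic.exists_prime_pow hF
  have hq3 : 3 ≤ q := by
    have h1 : 1 < p ^ k := Nat.one_lt_pow hk.ne' hp.one_lt
    omega
  obtain ⟨r, hr, hr2, hrd, hrm, hrk⟩ := exists_r (p := p) (v := 3 * k) hp.two_le (by omega) (by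
    rintro ⟨rfl, h1⟩
    have h2 : k = 1 := by omega
    rw [h2] at hpk
    exact hq hpk)
  obtain ⟨a, ha⟩ := exists_unit_pow_ne (K := F) (n := q + 1) (by omega) (by
    rw [hF]
    have : q + 1 + 1 < q ^ 2 := by nlinarith
    omega)
  have ha1 : (a : F) * σ a ≠ 1 := by
    intro h1
    apply ha
    apply Units.ext
    rw [Units.val_pow_eq_pow_val, pow_succ', ← hs, h1, Units.val_one]
  refine van3_of_split (spS σ) (perfect_of_equiv hperf e) hp (v := 3 * k) (by omega) ?_ ?_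
    (u3_reg a.ne_zero ha1) hr hr2 hrd ?_ hrk
  · rw [card_US hF hs, hpk, ← pow_mul, mul_comm]
  · exact (spS σ).TB ⟨_, dg_mem _ _ _ _, rfl⟩
  · intro h1
    have h2 := h1.trans (card_TS hF hs)
    rw [hpk, ← pow_mul] at h2
    exact hrm _ (by omega) (by omega) h2

end U3

end Cfsg.Agent.VAN.Rk

private theorem dce_af13e2863a8c : _root_.True := by
  try have : _root_.True := by simp only [_root_.Cfsg.Agent.LieRecognition.SzMatrix.Good.w.congr_simp]
  exact _root_.True.intro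
end

-- part: VAN/Rk/Rgd
section
prune_inst 0x300000010000000000001000000000000000000000000000800502010210200042000108000c000000000000000000001000000000000000000000000404010000100001000000000080001000000000000000000000000000000000041000200000000
set_option linter.all false
open scoped Cfsg.Agent.FastGrp

-- part: VAN/Rk/Dat
section
/-!
# S4942, rank two: the group theoretic datum (helper77)

`R2 G` : a split BN pair of rank two with dihedral Weyl group of order `2 m`.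
-/

set_option autoImplicit false

namespace Cfsg.Agent.VAN.Rk

open Cfsg Cfsg.Agent.LieExceptional.BNPairCore Cfsg.Agent.ChevalleyStructure.BNOrder

universe u

/-- the letters of the alternating word starting with `i` -/
def lt (i : Bool) : ℕ → Bool
  | 0 => i
  | j + 1 => !(lt i j)

theorem lt_zero (i : Bool) : lt i 0 = i := rfl
theorem lt_succ (i : Bool) (j : ℕ) : lt i (j + 1) = !(lt i j) := rfl

theorem lt_not (i : Bool) (j : ℕ) : lt (!i) j = !(lt i j) := by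
  induction j with
  | zero => rfl
  | succ j ih => rw [lt_succ, lt_succ, ih]

theorem lt_add_two (i : Bool) (j : ℕ) : lt i (j + 2) = lt i j := by
  rw [lt_succ, lt_succ, Bool.not_not]

theorem lt_add_two_mul (i : Bool) (j k : ℕ) : lt i (j + 2 * k) = lt i j := by
  induction k with
  | zero => rfl
  | succ k ih => rw [show j + 2 * (k + 1) = j + 2 * k + 2 by ring, lt_add_two, ih]

theorem lt_lt (i : Bool) (j : ℕ) : lt (lt i j) j = i := by
  induction j with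
  | zero => rfl
  | succ j ih => rw [lt_succ, lt_succ, lt_not, Bool.not_not, ih]

theorem lt_even (i : Bool) {j : ℕ} (h : Even j) : lt i j = i := by
  obtain ⟨k, rfl⟩ := h
  have := lt_add_two_mul i 0 k
  rwa [zero_add, two_mul] at this

theorem lt_odd (i : Bool) {j : ℕ} (h : Odd j) : lt i j = !i := by
  obtain ⟨k, rfl⟩ := h
  rw [lt_succ, lt_even i (even_two_mul k)]

/-- alternating words, the rightmost letter is `i` -/
def alt {G : Type u} [Group G] (n : Bool → G) (i : Bool) : ℕ → G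
  | 0 => 1
  | j + 1 => n (lt i j) * alt n i j

theorem alt_zero {G : Type u} [Group G] (n : Bool → G) (i : Bool) : alt n i 0 = 1 := rfl
theorem alt_succ {G : Type u} [Group G] (n : Bool → G) (i : Bool) (j : ℕ) :
    alt n i (j + 1) = n (lt i j) * alt n i j := rfl

theorem alt_succ' {G : Type u} [Group G] (n : Bool → G) (i : Bool) (j : ℕ) :
    alt n i (j + 1) = alt n (!i) j * n i := by
  induction j with
  | zero => rw [alt_succ, alt_zero, alt_zero, lt_zero, mul_one, one_mul]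
  | succ j ih => rw [alt_succ, ih, alt_succ, lt_succ, lt_not, mul_assoc]

/-- A split BN pair of rank two. -/
structure R2 (G : Type u) [Group G] where
  /-- the BN pair -/
  P : BNPair G
  /-- the unipotent subgroup -/
  U : Subgroup G
  /-- the torus -/
  T : Subgroup G
  /-- the simple root groups -/
  X : Bool → Subgroup G
  /-- the unipotent radicals -/
  V : Bool → Subgroup G
  /-- the simple reflections -/
  n : Bool → G
  /-- half the order of the Weyl group -/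
  m : ℕ
  mem_B : ∀ g, g ∈ P.B ↔ ∃ u ∈ U, ∃ t ∈ T, g = u * t
  S_eq : P.S = Set.range n
  TN : T ≤ P.N
  BN : ∀ g ∈ P.B, g ∈ P.N → g ∈ T
  comm : ∀ s ∈ T, ∀ t ∈ T, s * t = t * s
  TU : ∀ t ∈ T, ∀ u ∈ U, t * u * t⁻¹ ∈ U
  XU : ∀ i, X i ≤ U
  VU : ∀ i, V i ≤ U
  dec : ∀ i, ∀ u ∈ U, ∃ v ∈ V i, ∃ x ∈ X i, u = v * x
  UV : ∀ i, ∀ u ∈ U, ∀ v ∈ V i, u * v * u⁻¹ ∈ V i
  nV : ∀ i, ∀ v ∈ V i, n i * v * (n i)⁻¹ ∈ U
  rk1 : ∀ i, ∀ x ∈ X i, x ≠ 1 → ∃ u ∈ U, ∃ t ∈ T, ∃ u' ∈ U, (n i)⁻¹ * x * n i = u * t * n i * u'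
  rk1' : ∀ i, ∀ x ∈ X i, x ≠ 1 → ∃ u ∈ U, ∃ t ∈ T, ∃ u' ∈ U, n i * x * (n i)⁻¹ = u * t * n i * u'
  m_pos : 0 < m
  red : ∀ i j, j < m → ∀ x ∈ X (lt i j), (alt n i j)⁻¹ * x * alt n i j ∈ U
  braid : (alt n true m)⁻¹ * alt n false m ∈ T

namespace R2

variable {G : Type u} [Group G] (D : R2 G)

theorem UB : D.U ≤ D.P.B := fun u hu => (D.mem_B u).2 ⟨u, hu, 1, D.T.one_mem, (mul_one u).symm⟩

theorem TB : D.T ≤ D.P.B := fun t ht => (D.mem_B t).2 ⟨1, D.U.one_mem, t, ht, (one_mul t).symm⟩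

theorem nS (i : Bool) : D.n i ∈ D.P.S := by rw [D.S_eq]; exact ⟨i, rfl⟩

theorem nN (i : Bool) : D.n i ∈ D.P.N := mem_N (D.nS i)

theorem altN (i : Bool) (j : ℕ) : alt D.n i j ∈ D.P.N := by
  induction j with
  | zero => exact D.P.N.one_mem
  | succ j ih => exact D.P.N.mul_mem (D.nN _) ih

theorem NT {g t : G} (hg : g ∈ D.P.N) (ht : t ∈ D.T) : g⁻¹ * t * g ∈ D.T :=
  D.BN _ (conj_mem_inv hg (D.TB ht) (D.TN ht))
    (D.P.N.mul_mem (D.P.N.mul_mem (D.P.N.inv_mem hg) (D.TN ht)) hg)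

theorem NT' {g t : G} (hg : g ∈ D.P.N) (ht : t ∈ D.T) : g * t * g⁻¹ ∈ D.T := by
  have := D.NT (D.P.N.inv_mem hg) ht
  rwa [inv_inv] at this

theorem sq (i : Bool) : D.n i * D.n i ∈ D.T :=
  D.BN _ (D.P.sq_mem _ (D.nS i)) (D.P.N.mul_mem (D.nN i) (D.nN i))

theorem TU' {t u : G} (ht : t ∈ D.T) (hu : u ∈ D.U) : t⁻¹ * u * t ∈ D.U := by
  have := D.TU t⁻¹ (D.T.inv_mem ht) u hu
  rwa [inv_inv] at this

theorem BU {b u : G} (hb : b ∈ D.P.B) (hu : u ∈ D.U) : b * u * b⁻¹ ∈ D.U := by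
  obtain ⟨v, hv, t, ht, rfl⟩ := (D.mem_B b).1 hb
  have : v * t * u * (v * t)⁻¹ = v * (t * u * t⁻¹) * v⁻¹ := by group
  rw [this]
  exact D.U.mul_mem (D.U.mul_mem hv (D.TU t ht u hu)) (D.U.inv_mem hv)

theorem mem_B' {g : G} (hg : g ∈ D.P.B) : ∃ t ∈ D.T, ∃ u ∈ D.U, g = t * u := by
  obtain ⟨u, hu, t, ht, rfl⟩ := (D.mem_B g).1 hg
  exact ⟨t, ht, t⁻¹ * u * t, D.TU' ht hu, by group⟩

theorem braid' (i : Bool) : (alt D.n i D.m)⁻¹ * alt D.n (!i) D.m ∈ D.T := by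
  cases i
  · have := D.T.inv_mem D.braid
    rwa [mul_inv_rev, inv_inv] at this
  · exact D.braid

theorem eq_one_of_conj {i : Bool} {x : G} (hx : x ∈ D.X i) (h : (D.n i)⁻¹ * x * D.n i ∈ D.P.B) : x = 1 := by
  by_contra h1
  obtain ⟨u, hu, t, ht, u', hu', e⟩ := D.rk1 i x hx h1
  apply not_mem_B (D.nS i)
  have h2 : D.n i = (u * t)⁻¹ * ((D.n i)⁻¹ * x * D.n i) * u'⁻¹ := by rw [e]; group
  rw [h2]
  exact D.P.B.mul_mem (D.P.B.mul_mem (D.P.B.inv_mem (D.P.B.mul_mem (D.UB hu) (D.TB ht))) h)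
    (D.P.B.inv_mem (D.UB hu'))

theorem eq_one_of_conj' {i : Bool} {x : G} (hx : x ∈ D.X i) (h : D.n i * x * (D.n i)⁻¹ ∈ D.P.B) : x = 1 := by
  by_contra h1
  obtain ⟨u, hu, t, ht, u', hu', e⟩ := D.rk1' i x hx h1
  apply not_mem_B (D.nS i)
  have h2 : D.n i = (u * t)⁻¹ * (D.n i * x * (D.n i)⁻¹) * u'⁻¹ := by rw [e]; group
  rw [h2]
  exact D.P.B.mul_mem (D.P.B.mul_mem (D.P.B.inv_mem (D.P.B.mul_mem (D.UB hu) (D.TB ht))) h)
    (D.P.B.inv_mem (D.UB hu'))

theorem mem_V {i : Bool} {u : G} (hu : u ∈ D.U) (h : D.n i * u * (D.n i)⁻¹ ∈ D.U) : u ∈ D.V i := by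
  obtain ⟨v, hv, x, hx, rfl⟩ := D.dec i u hu
  have h1 : D.n i * x * (D.n i)⁻¹ = (D.n i * v * (D.n i)⁻¹)⁻¹ * (D.n i * (v * x) * (D.n i)⁻¹) := by group
  have h2 : x = 1 := D.eq_one_of_conj' hx (by
    rw [h1]
    exact D.UB (D.U.mul_mem (D.U.inv_mem (D.nV i v hv)) h))
  rw [h2, mul_one]
  exact hv

theorem TV {i : Bool} {t v : G} (ht : t ∈ D.T) (hv : v ∈ D.V i) : t * v * t⁻¹ ∈ D.V i := by
  refine D.mem_V (D.TU t ht v (D.VU i hv)) ?_
  have h1 : D.n i * (t * v * t⁻¹) * (D.n i)⁻¹ =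
      (D.n i * t * (D.n i)⁻¹) * (D.n i * v * (D.n i)⁻¹) * (D.n i * t * (D.n i)⁻¹)⁻¹ := by group
  rw [h1]
  exact D.TU _ (D.NT' (D.nN i) ht) _ (D.nV i v hv)

theorem BV {i : Bool} {b v : G} (hb : b ∈ D.P.B) (hv : v ∈ D.V i) : b * v * b⁻¹ ∈ D.V i := by
  obtain ⟨u, hu, t, ht, rfl⟩ := (D.mem_B b).1 hb
  have : u * t * v * (u * t)⁻¹ = u * (t * v * t⁻¹) * u⁻¹ := by group
  rw [this]
  exact D.UV i u hu _ (D.TV ht hv)

theorem nV' {i : Bool} {v : G} (hv : v ∈ D.V i) : D.n i * v * (D.n i)⁻¹ ∈ D.V i := by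
  refine D.mem_V (D.nV i v hv) ?_
  have h1 : D.n i * (D.n i * v * (D.n i)⁻¹) * (D.n i)⁻¹ = (D.n i * D.n i) * v * (D.n i * D.n i)⁻¹ := by group
  rw [h1]
  exact D.TU _ (D.sq i) _ (D.VU i hv)

theorem nV'' {i : Bool} {v : G} (hv : v ∈ D.V i) : (D.n i)⁻¹ * v * D.n i ∈ D.V i := by
  have h1 : (D.n i)⁻¹ * v * D.n i =
      (D.n i * D.n i)⁻¹ * (D.n i * v * (D.n i)⁻¹) * ((D.n i * D.n i)⁻¹)⁻¹ := by group
  rw [h1]
  exact D.TV (D.T.inv_mem (D.sq i)) (D.nV' hv)

theorem dec' (i : Bool) {u : G} (hu : u ∈ D.U) : ∃ x ∈ D.X i, ∃ v ∈ D.V i, u = x * v := by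
  obtain ⟨v, hv, x, hx, rfl⟩ := D.dec i u hu
  refine ⟨x, hx, x⁻¹ * v * x⁻¹⁻¹, D.UV i _ (D.U.inv_mem (D.XU i hx)) v hv, by group⟩

/-- the inverse of an alternating word -/
theorem alt_inv (i : Bool) (j : ℕ) : ∃ t ∈ D.T, (alt D.n i j)⁻¹ = alt D.n (lt i (j + 1)) j * t := by
  induction j with
  | zero => exact ⟨1, D.T.one_mem, by rw [alt_zero, alt_zero, inv_one, mul_one]⟩
  | succ j ih =>
    obtain ⟨t, ht, e⟩ := ih
    refine ⟨(D.n (lt i j))⁻¹ * t * D.n (lt i j) * (D.n (lt i j) * D.n (lt i j))⁻¹,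
      D.T.mul_mem (D.NT (D.nN _) ht) (D.T.inv_mem (D.sq _)), ?_⟩
    rw [alt_succ, mul_inv_rev, e, lt_add_two, alt_succ' D.n (lt i j), lt_succ]
    group

/-- the right handed form of `red` -/
theorem red' (i : Bool) {j : ℕ} (hj : j < D.m) {x : G} (hx : x ∈ D.X i) :
    alt D.n (!i) j * x * (alt D.n (!i) j)⁻¹ ∈ D.U := by
  obtain ⟨t, ht, e⟩ := D.alt_inv (!i) j
  have h1 : alt D.n (!i) j = t⁻¹ * (alt D.n (lt (!i) (j + 1)) j)⁻¹ := by
    rw [← mul_inv_rev, ← e, inv_inv]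
  have h2 : lt (lt (!i) (j + 1)) j = i := by rw [lt_succ, lt_not i, Bool.not_not, lt_lt]
  have h3 := D.red (lt (!i) (j + 1)) j hj x (by rw [h2]; exact hx)
  have h4 := D.TU' ht h3
  rw [e]
  nth_rewrite 1 [h1]
  have h5 : t⁻¹ * (alt D.n (lt (!i) (j + 1)) j)⁻¹ * x * (alt D.n (lt (!i) (j + 1)) j * t) =
      t⁻¹ * ((alt D.n (lt (!i) (j + 1)) j)⁻¹ * x * alt D.n (lt (!i) (j + 1)) j) * t := by group
  rw [h5]
  exact h4

/-- the two simple roots are not conjugate -/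
theorem cross (hm : Even D.m) (i : Bool) {j : ℕ} (hj : j < D.m) {x : G} (hx : x ∈ D.X i) :
    alt D.n (!i) j * x * (alt D.n (!i) j)⁻¹ ∈ D.V (!i) := by
  refine D.mem_V (D.red' i hj hx) ?_
  rcases Nat.even_or_odd j with h | h
  · have hj1 : j + 1 < D.m := by
      obtain ⟨a, ha⟩ := h
      obtain ⟨b, hb⟩ := hm
      omega
    have h1 := D.red' i hj1 hx
    rw [alt_succ, lt_even _ h] at h1
    have h2 : D.n (!i) * (alt D.n (!i) j * x * (alt D.n (!i) j)⁻¹) * (D.n (!i))⁻¹ =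
        D.n (!i) * alt D.n (!i) j * x * (D.n (!i) * alt D.n (!i) j)⁻¹ := by group
    rw [h2]
    exact h1
  · obtain ⟨k, rfl⟩ := h
    have h1 := D.red' i (j := 2 * k) (by omega) hx
    rw [alt_succ, lt_even _ (even_two_mul k)]
    have h2 : D.n (!i) * (D.n (!i) * alt D.n (!i) (2 * k) * x * (D.n (!i) * alt D.n (!i) (2 * k))⁻¹) * (D.n (!i))⁻¹ =
        (D.n (!i) * D.n (!i)) * (alt D.n (!i) (2 * k) * x * (alt D.n (!i) (2 * k))⁻¹) * (D.n (!i) * D.n (!i))⁻¹ := by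
      group
    rw [h2]
    exact D.TU _ (D.sq _) _ h1

/-! ### Double cosets -/

theorem hmul (i : Bool) {j : ℕ} (hj : j < D.m) :
    ∀ b ∈ D.P.B, D.n (lt i j) * b * alt D.n i j ∈ C D.P (D.n (lt i j) * alt D.n i j) := by
  intro b hb
  obtain ⟨u, hu, t, ht, rfl⟩ := (D.mem_B b).1 hb
  obtain ⟨v, hv, x, hx, rfl⟩ := D.dec (lt i j) u hu
  refine mem_C.2 ⟨D.n (lt i j) * v * (D.n (lt i j))⁻¹, D.UB (D.nV _ v hv),
    ((alt D.n i j)⁻¹ * x * alt D.n i j) * ((alt D.n i j)⁻¹ * t * alt D.n i j),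
    D.P.B.mul_mem (D.UB (D.red i j hj x hx)) (D.TB (D.NT (D.altN i j) ht)), by group⟩

theorem len_alt (i : Bool) {j : ℕ} (hj : j ≤ D.m) : len D.P (alt D.n i j) = j := by
  induction j with
  | zero => exact len_one
  | succ j ih =>
    rw [alt_succ]
    rcases len_mul_left_cases (P := D.P) (D.nS (lt i j)) (D.altN i j) with h | h
    · rw [h, ih (by omega)]
    · exfalso
      obtain ⟨b, hb, h1⟩ := exists_mul_mem_C (P := D.P) (D.nS (lt i j)) (D.altN i j) (by omega)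
      exact not_C_mul_left_eq (D.nS _) (D.altN i j) (C_eq_of_mem_mem (D.hmul i (by omega) b hb) h1)

theorem alt_ne (i : Bool) {j : ℕ} (h0 : 0 < j) (hj : j < D.m) : (alt D.n i j)⁻¹ * alt D.n (!i) j ∉ D.P.B := by
  intro h
  obtain ⟨k, rfl⟩ : ∃ k, j = k + 1 := ⟨j - 1, by omega⟩
  have h1 := D.len_alt i (j := k + 1 + 1) (by omega)
  have h2 := D.len_alt (!i) (j := k) (by omega)
  have h3 : lt (!i) k = lt i (k + 1) := by rw [lt_not, lt_succ]
  have h4 := len_congr (rel_mul_left (P := D.P) (D.n (lt i (k + 1))) h)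
  rw [← alt_succ, h1, alt_succ, h3, len_congr (rel_sq_mul (D.nS _) (D.altN _ _)), h2] at h4
  omega

/-- the representatives of the double cosets -/
def rp (i : Bool) (a : ℕ × Bool) : G := if a.2 then alt D.n i (a.1 + 1) else alt D.n (!i) a.1

theorem rp_true (i : Bool) (j : ℕ) : D.rp i (j, true) = alt D.n i (j + 1) := rfl
theorem rp_false (i : Bool) (j : ℕ) : D.rp i (j, false) = alt D.n (!i) j := rfl

theorem rpN (i : Bool) (a : ℕ × Bool) : D.rp i a ∈ D.P.N := by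
  unfold rp
  split_ifs
  · exact D.altN _ _
  · exact D.altN _ _

theorem rp_inj (i : Bool) {a b : ℕ × Bool} (ha : a.1 < D.m) (hb : b.1 < D.m)
    (h : C D.P (D.rp i a) = C D.P (D.rp i b)) : a = b := by
  have h1 := rel_of_C_eq (D.rpN i a) (D.rpN i b) h
  have h2 := len_congr h1
  obtain ⟨j, c⟩ := a
  obtain ⟨k, d⟩ := b
  simp only at ha hb
  cases c <;> cases d
  · rw [rp_false, rp_false, D.len_alt _ ha.le, D.len_alt _ hb.le] at h2
    rw [h2]
  · rw [rp_false, rp_true] at h1 h2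
    rw [D.len_alt _ ha.le, D.len_alt _ (by omega)] at h2
    subst h2
    exact absurd (rel_symm h1) (D.alt_ne i (by omega) ha)
  · rw [rp_true, rp_false] at h1 h2
    rw [D.len_alt _ hb.le, D.len_alt _ (by omega)] at h2
    subst h2
    exact absurd h1 (D.alt_ne i (by omega) hb)
  · rw [rp_true, rp_true, D.len_alt _ (by omega), D.len_alt _ (by omega)] at h2
    have : j = k := by omega
    rw [this]

theorem exists_alt {g : G} (hg : g ∈ D.P.N) : ∃ i j, j ≤ D.m ∧ (alt D.n i j)⁻¹ * g ∈ D.P.B := by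
  obtain ⟨l, hl, h⟩ := exists_word (P := D.P) hg
  suffices H : ∃ i j, j ≤ D.m ∧ (alt D.n i j)⁻¹ * l.prod ∈ D.P.B by
    obtain ⟨i, j, hj, h1⟩ := H
    exact ⟨i, j, hj, rel_trans h1 h⟩
  clear h hg
  induction l with
  | nil => exact ⟨true, 0, Nat.zero_le _, by simp [alt_zero]⟩
  | cons s l ih =>
    obtain ⟨i, j, hj, h1⟩ := ih fun t ht => hl t (List.mem_cons_of_mem _ ht)
    have hs := hl s List.mem_cons_self
    rw [D.S_eq] at hs
    obtain ⟨c, rfl⟩ := hs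
    rw [List.prod_cons]
    have back : ∀ i k, lt i k = c → k + 1 ≤ D.m → (alt D.n i (k + 1))⁻¹ * l.prod ∈ D.P.B →
        ∃ i j, j ≤ D.m ∧ (alt D.n i j)⁻¹ * (D.n c * l.prod) ∈ D.P.B := by
      intro i k hc hk h2
      refine ⟨i, k, by omega, ?_⟩
      have h3 := rel_mul_left (P := D.P) (D.n c) h2
      rw [alt_succ, hc] at h3
      exact rel_trans (rel_symm (rel_sq_mul (D.nS c) (D.altN i k))) h3
    rcases Nat.eq_zero_or_pos j with rfl | h0
    · refine ⟨c, 1, D.m_pos, ?_⟩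
      have h3 := rel_mul_left (P := D.P) (D.n c) h1
      exact h3
    obtain ⟨k, rfl⟩ : ∃ k, j = k + 1 := ⟨j - 1, by omega⟩
    by_cases hc : lt i k = c
    · exact back i k hc hj h1
    have hc' : lt i (k + 1) = c := by
      rw [lt_succ]
      cases c <;> simpa using hc
    rcases hj.lt_or_eq with h2 | h2
    · refine ⟨i, k + 1 + 1, h2, ?_⟩
      rw [alt_succ, hc']
      exact rel_mul_left _ h1
    · refine back (!i) k (by rw [lt_not, ← lt_succ, hc']) hj ?_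
      have h3 := D.TB (D.braid' i)
      rw [← h2] at h3
      exact rel_trans (rel_symm h3) h1

theorem exists_rp (i : Bool) (g : G) : ∃ a : ℕ × Bool, a.1 < D.m ∧ g ∈ C D.P (D.rp i a) := by
  obtain ⟨w, hw, hg⟩ := bruhat (P := D.P) g
  obtain ⟨c, j, hj, h⟩ := D.exists_alt hw
  rw [← C_eq_of_rel h] at hg
  have key : ∀ j, j ≤ D.m → g ∈ C D.P (alt D.n i j) → ∃ a : ℕ × Bool, a.1 < D.m ∧ g ∈ C D.P (D.rp i a) := by
    intro j hj hg
    rcases Nat.eq_zero_or_pos j with rfl | h0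
    · exact ⟨(0, false), D.m_pos, hg⟩
    · obtain ⟨k, rfl⟩ : ∃ k, j = k + 1 := ⟨j - 1, by omega⟩
      exact ⟨(k, true), hj, hg⟩
  by_cases hc : c = i
  · exact key j hj (hc ▸ hg)
  have hc' : c = !i := by cases c <;> cases i <;> simp_all only [_root_.Prod.exists, _root_.exists_and_left, _root_.Bool.exists_bool, _root_.or_self, _root_.not_true_eq_false, _root_.Bool.false_eq_true, _root_.not_false_eq_true, _root_.Bool.not_true, _root_.Bool.true_eq_false, _root_.Bool.not_false]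
  subst hc'
  rcases hj.lt_or_eq with h1 | h1
  · exact ⟨(j, false), h1, hg⟩
  · subst h1
    rw [← C_eq_of_rel (D.TB (D.braid' i))] at hg
    exact key _ le_rfl hg

/-- the order of the root group -/
noncomputable def q (i : Bool) : ℕ := Nat.card (D.X i)

/-- the number of cosets in a double coset -/
noncomputable def Q (i : Bool) (j : ℕ) : ℕ := ∏ k ∈ Finset.range j, D.q (lt i k)

theorem Q_zero (i : Bool) : D.Q i 0 = 1 := Finset.prod_range_zero _

theorem Q_succ (i : Bool) (j : ℕ) : D.Q i (j + 1) = D.q (lt i j) * D.Q i j := by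
  unfold Q
  rw [Finset.prod_range_succ, mul_comm]

theorem Q_succ' (i : Bool) (j : ℕ) : D.Q i (j + 1) = D.Q (!i) j * D.q i := by
  induction j with
  | zero => rw [Q_succ, Q_zero, Q_zero, lt_zero, mul_one, one_mul]
  | succ j ih => rw [Q_succ, ih, Q_succ, lt_succ, lt_not, mul_assoc]

theorem card_C_n (i : Bool) : Nat.card (C D.P (D.n i)) = D.q i * Nat.card D.P.B := by
  refine card_C_of_complement (D.X i : Set G) (fun x hx => D.UB (D.XU i hx)) ?_ ?_
  · intro b hb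
    obtain ⟨u, hu, t, ht, rfl⟩ := (D.mem_B b).1 hb
    obtain ⟨x, hx, v, hv, rfl⟩ := D.dec' i hu
    refine ⟨x, hx, v * t, ?_, by group⟩
    have : (D.n i)⁻¹ * (v * t) * D.n i = ((D.n i)⁻¹ * v * D.n i) * ((D.n i)⁻¹ * t * D.n i) := by group
    rw [this]
    exact D.P.B.mul_mem (D.UB (D.VU i (D.nV'' hv))) (D.TB (D.NT (D.nN i) ht))
  · intro x hx x' hx' h
    have h1 := D.eq_one_of_conj ((D.X i).mul_mem ((D.X i).inv_mem hx') hx) h
    exact (inv_mul_eq_one.1 h1).symm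

theorem card_C_alt [Finite G] (i : Bool) {j : ℕ} (hj : j ≤ D.m) :
    Nat.card (C D.P (alt D.n i j)) = D.Q i j * Nat.card D.P.B := by
  induction j with
  | zero =>
    rw [Q_zero, one_mul, alt_zero]
    exact Nat.card_congr (Equiv.subtypeEquivRight fun g => mem_C_one)
  | succ j ih =>
    have h1 := card_C_mul (D.nS (lt i j)) (D.altN i j) (D.hmul i (j := j) (by omega))
    rw [D.card_C_n, ih (by omega), ← alt_succ] at h1
    apply Nat.eq_of_mul_eq_mul_right (Nat.card_pos (α := D.P.B))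
    rw [h1, Q_succ]
    ring

/-- **The sum of a bi-invariant function.** -/
theorem sum_eq [Fintype G] (i : Bool) (F : G → ℂ) (hF : ∀ b ∈ D.P.B, ∀ b' ∈ D.P.B, ∀ g, F (b * g * b') = F g) :
    ∑ g, F g = Nat.card D.P.B * ∑ j ∈ Finset.range D.m,
      (D.Q (!i) j : ℂ) * (F (alt D.n (!i) j) + D.q i * F (alt D.n (!i) j * D.n i)) := by
  classical
  choose f hf1 hf2 using D.exists_rp i
  rw [← Finset.sum_fiberwise_of_maps_to (s := Finset.univ) (t := Finset.range D.m ×ˢ (Finset.univ : Finset Bool))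
    (g := f) (fun g _ => Finset.mem_product.2 ⟨Finset.mem_range.2 (hf1 g), Finset.mem_univ _⟩)]
  have key : ∀ a : ℕ × Bool, a.1 < D.m → ∑ g with f g = a, F g = Nat.card (C D.P (D.rp i a)) * F (D.rp i a) := by
    intro a ha
    have h1 : ∀ g, f g = a ↔ g ∈ C D.P (D.rp i a) := fun g =>
      ⟨fun h => h ▸ hf2 g, fun h => D.rp_inj i (hf1 g) ha (C_eq_of_mem_mem (hf2 g) h)⟩
    rw [Finset.sum_congr rfl (g := fun _ => F (D.rp i a)), Finset.sum_const, nsmul_eq_mul]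
    · congr 2
      rw [Nat.card_eq_fintype_card, Fintype.card_subtype]
      congr 1
      exact Finset.filter_congr fun g _ => h1 g
    · intro g hg
      obtain ⟨b, hb, b', hb', rfl⟩ := mem_C.1 ((h1 g).1 (Finset.mem_filter.1 hg).2)
      exact hF b hb b' hb' _
  rw [Finset.sum_product, Finset.mul_sum]
  refine Finset.sum_congr rfl fun j hj => ?_
  have hj := Finset.mem_range.1 hj
  rw [Fintype.sum_bool, key _ hj, key _ hj, rp_true, rp_false, D.card_C_alt _ hj.le, D.card_C_alt _ hj, Q_succ',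
    alt_succ']
  push_cast
  ring

theorem card_G [Finite G] (i : Bool) :
    Nat.card G = Nat.card D.P.B * ∑ j ∈ Finset.range D.m, D.Q (!i) j * (1 + D.q i) := by
  have := Fintype.ofFinite G
  have h1 := D.sum_eq i (fun _ => 1) (fun _ _ _ _ _ => rfl)
  rw [Finset.sum_const, Finset.card_univ, nsmul_eq_mul, mul_one, ← Nat.card_eq_fintype_card] at h1
  simp only [mul_one] at h1
  exact_mod_cast h1

/-! ### The minimal parabolic subgroups -/

theorem C_inv (i : Bool) : C D.P (D.n i)⁻¹ = C D.P (D.n i) :=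
  C_eq_of_rel (by rw [inv_inv]; exact D.TB (D.sq i))

/-- the minimal parabolic subgroups -/
def Par (i : Bool) : Subgroup G where
  carrier := {g | g ∈ D.P.B ∨ g ∈ C D.P (D.n i)}
  one_mem' := Or.inl D.P.B.one_mem
  mul_mem' := by
    rintro a b (ha | ha) (hb | hb)
    · exact Or.inl (D.P.B.mul_mem ha hb)
    · exact Or.inr (mul_mem_C_left ha hb)
    · exact Or.inr (mul_mem_C_right hb ha)
    · obtain ⟨x, hx, y, hy, rfl⟩ := mem_C.1 ha
      obtain ⟨z, hz, w, hw, rfl⟩ := mem_C.1 hb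
      have e : x * D.n i * y * (z * D.n i * w) = x * (D.n i * (y * z) * D.n i) * w := by group
      rw [e]
      rcases axiom_left (P := D.P) (D.nS i) (D.nN i) (D.P.B.mul_mem hy hz) with h | h
      · exact Or.inl (D.P.B.mul_mem (D.P.B.mul_mem hx (mem_B_of_mem_C (D.TB (D.sq i)) h)) hw)
      · exact Or.inr (mul_mem_C_right hw (mul_mem_C_left hx h))
  inv_mem' := by
    rintro a (ha | ha)
    · exact Or.inl (D.P.B.inv_mem ha)
    · exact Or.inr (D.C_inv i ▸ inv_mem_C ha)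

theorem mem_Par {i : Bool} {g : G} : g ∈ D.Par i ↔ g ∈ D.P.B ∨ g ∈ C D.P (D.n i) := Iff.rfl

theorem B_le_Par (i : Bool) : D.P.B ≤ D.Par i := fun _ h => Or.inl h

theorem n_mem_Par (i : Bool) : D.n i ∈ D.Par i := Or.inr (self_mem_C _)

theorem ParV {i : Bool} {g v : G} (hg : g ∈ D.Par i) (hv : v ∈ D.V i) : g * v * g⁻¹ ∈ D.V i := by
  rcases hg with hg | hg
  · exact D.BV hg hv
  · obtain ⟨x, hx, y, hy, rfl⟩ := mem_C.1 hg
    have : x * D.n i * y * v * (x * D.n i * y)⁻¹ = x * (D.n i * (y * v * y⁻¹) * (D.n i)⁻¹) * x⁻¹ := by group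
    rw [this]
    exact D.BV hx (D.nV' (D.BV hy hv))

/-- the big cell of the parabolic subgroup -/
theorem exists_of_mem_C {i : Bool} {g : G} (hg : g ∈ C D.P (D.n i)) :
    ∃ u ∈ D.U, ∃ t ∈ D.T, ∃ u' ∈ D.U, g = u * D.n i * t * u' := by
  obtain ⟨x, hx, y, hy, rfl⟩ := mem_C.1 hg
  obtain ⟨u, hu, t, ht, rfl⟩ := (D.mem_B x).1 hx
  obtain ⟨s, hs, v, hv, rfl⟩ := D.mem_B' hy
  exact ⟨u, hu, (D.n i)⁻¹ * t * D.n i * s, D.T.mul_mem (D.NT (D.nN i) ht) hs, v, hv, by group⟩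

/-- every element lies in a double coset `B a P` -/
theorem exists_alt_Par (i : Bool) (g : G) :
    ∃ j < D.m, ∃ b ∈ D.P.B, ∃ y ∈ D.Par i, g = b * alt D.n (!i) j * y := by
  obtain ⟨⟨j, c⟩, hj, hg⟩ := D.exists_rp i g
  obtain ⟨x, hx, y, hy, rfl⟩ := mem_C.1 hg
  cases c
  · exact ⟨j, hj, x, hx, y, D.B_le_Par i hy, rfl⟩
  · refine ⟨j, hj, x, hx, D.n i * y, (D.Par i).mul_mem (D.n_mem_Par i) (D.B_le_Par i hy), ?_⟩
    rw [rp_true, alt_succ']
    group

/-- the sum of a bi-invariant function over the parabolic subgroup -/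
theorem sum_Par [Finite G] (i : Bool) [Fintype (D.Par i)] {E : Type*} [AddCommMonoid E] (F : G → E) (a b : E)
    (ha : ∀ g ∈ D.P.B, F g = a) (hb : ∀ g ∈ C D.P (D.n i), F g = b) :
    ∑ y : D.Par i, F y = Nat.card D.P.B • a + (D.q i * Nat.card D.P.B) • b := by
  classical
  rw [← Finset.sum_filter_add_sum_filter_not Finset.univ (fun y : D.Par i => (y : G) ∈ D.P.B)]
  have hC : ∀ y : D.Par i, ¬ (y : G) ∈ D.P.B ↔ (y : G) ∈ C D.P (D.n i) := fun y =>
    ⟨fun h => y.2.resolve_left h, fun h h1 => not_mem_B (D.nS i) (mem_of_mem_C le_rfl h h1)⟩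
  congr 1
  · rw [Finset.sum_congr rfl (g := fun _ => a) (fun y hy => ha _ (Finset.mem_filter.1 hy).2), Finset.sum_const]
    congr 1
    rw [← Fintype.card_subtype, ← Nat.card_eq_fintype_card]
    exact Nat.card_congr (Equiv.subtypeSubtypeEquivSubtype fun h => D.B_le_Par i h)
  · rw [Finset.sum_congr rfl (g := fun _ => b) (fun y hy => hb _ ((hC y).1 (Finset.mem_filter.1 hy).2)),
      Finset.sum_const]
    congr 1
    rw [← Fintype.card_subtype, ← Nat.card_eq_fintype_card, ← D.card_C_n]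
    exact Nat.card_congr ((Equiv.subtypeEquivRight hC).trans
      (Equiv.subtypeSubtypeEquivSubtype (p := fun g => g ∈ D.Par i) (q := fun g => g ∈ C D.P (D.n i))
        fun h => Or.inr h))

theorem card_Par [Finite G] (i : Bool) : Nat.card (D.Par i) = (1 + D.q i) * Nat.card D.P.B := by
  have := Fintype.ofFinite (D.Par i)
  have h1 := D.sum_Par i (fun _ => (1 : ℕ)) 1 1 (fun _ _ => rfl) (fun _ _ => rfl)
  rw [Finset.sum_const, Finset.card_univ, ← Nat.card_eq_fintype_card] at h1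
  simp only [smul_eq_mul, mul_one] at h1
  rw [h1]
  ring

end R2

end Cfsg.Agent.VAN.Rk
end

-- part: VAN/Rk/Rep
section
/-!
# S4942, rank two: representation theoretic tools (helper77)

Invariant hermitian forms, averaging projections, linear algebra of quadratic operators.
-/

set_option autoImplicit false

namespace Cfsg.Agent.VAN.Rk

open Module
open scoped ComplexConjugate ComplexOrder

universe u

variable {G : Type u} [Group G] {V : Type} [AddCommGroup V] [Module ℂ V]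

/-- an invariant positive definite hermitian form -/
structure Uni (ρ : Representation ℂ G V) where
  /-- the form -/
  B : V →ₗ⋆[ℂ] V →ₗ[ℂ] ℂ
  symm : ∀ v w, conj (B v w) = B w v
  inv : ∀ g v w, B (ρ g v) (ρ g w) = B v w
  pos : ∀ v, 0 ≤ B v v
  dfn : ∀ v, B v v = 0 → v = 0

theorem exists_uni [Finite G] {n : ℕ} (ρ : Representation ℂ G (Fin n → ℂ)) : Nonempty (Uni ρ) := by
  have := Fintype.ofFinite G
  have hp : ∀ (v : Fin n → ℂ) g i, 0 ≤ conj (ρ g v i) * ρ g v i := fun v g i => by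
    rw [Complex.conj_mul']
    positivity
  refine ⟨⟨LinearMap.mk₂'ₛₗ (starRingEnd ℂ) (RingHom.id ℂ) (fun v w => ∑ g, ∑ i, conj (ρ g v i) * ρ g w i)
    ?_ ?_ ?_ ?_, ?_, ?_, ?_, ?_⟩⟩
  · intro a b w
    simp only [add_mul, Finset.sum_add_distrib, _root_.map_add, _root_.Pi.add_apply]
  · intro c v w
    simp only [Finset.mul_sum, mul_assoc, _root_.map_smul, _root_.Pi.smul_apply, _root_.smul_eq_mul, _root_.map_mul]
  · intro v a b
    simp only [mul_add, Finset.sum_add_distrib, _root_.map_add, _root_.Pi.add_apply]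
  · intro c v w
    simp only [Finset.mul_sum, mul_left_comm, _root_.map_smul, _root_.Pi.smul_apply, _root_.smul_eq_mul, _root_.RingHom.id_apply]
  · intro v w
    simp only [mul_comm, _root_.LinearMap.mk₂'ₛₗ_apply, _root_.map_sum, _root_.map_mul, _root_.RingHomCompTriple.comp_apply, _root_.RingHom.id_apply]
  · intro g v w
    simp only [LinearMap.mk₂'ₛₗ_apply]
    refine Fintype.sum_equiv (Equiv.mulRight g) _ _ fun h => ?_
    simp only [_root_.Equiv.coe_mulRight, _root_.map_mul, _root_.Module.End.mul_apply]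
  · intro v
    simp only [LinearMap.mk₂'ₛₗ_apply]
    exact Finset.sum_nonneg fun g _ => Finset.sum_nonneg fun i _ => hp v g i
  · intro v hv
    simp only [LinearMap.mk₂'ₛₗ_apply] at hv
    have h1 := (Finset.sum_eq_zero_iff_of_nonneg fun g _ => Finset.sum_nonneg fun i _ => hp v g i).1 hv 1
      (Finset.mem_univ _)
    funext i
    have h2 := (Finset.sum_eq_zero_iff_of_nonneg fun i _ => hp v 1 i).1 h1 i (Finset.mem_univ _)
    simpa only [_root_.Pi.zero_apply, _root_.map_one, _root_.Module.End.one_apply, _root_.mul_eq_zero, _root_.map_eq_zero, _root_.or_self] using h2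

theorem rho_mul (ρ : Representation ℂ G V) (a b : G) (v : V) : ρ a (ρ b v) = ρ (a * b) v := by
  rw [map_mul, Module.End.mul_apply]

namespace Uni

variable {ρ : Representation ℂ G V} (F : Uni ρ)

theorem adj (g : G) (v w : V) : F.B (ρ g v) w = F.B v (ρ g⁻¹ w) := by
  rw [← F.inv g v, rho_mul, mul_inv_cancel, map_one, Module.End.one_apply]

theorem smul_left (c : ℂ) (v w : V) : F.B (c • v) w = conj c * F.B v w := by
  rw [LinearMap.map_smulₛₗ₂, smul_eq_mul]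

theorem smul_right (c : ℂ) (v w : V) : F.B v (c • w) = c * F.B v w := by
  rw [map_smul, smul_eq_mul]

include F in
/-- eigenvalues have absolute value one -/
theorem eig {g : G} {v : V} {c : ℂ} (hv : v ≠ 0) (h : ρ g v = c • v) : conj c * c = 1 := by
  have h1 := F.inv g v v
  rw [h, smul_left, smul_right, ← mul_assoc] at h1
  exact mul_right_cancel₀ (fun h2 => hv (F.dfn v h2)) (h1.trans (one_mul _).symm)

/-- eigenvectors for different eigenvalues are orthogonal -/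
theorem orth {g : G} {v w : V} {c d : ℂ} (hv : ρ g v = c • v) (hw : ρ g w = d • w) (h : c ≠ d) : F.B v w = 0 := by
  by_cases h0 : v = 0
  · rw [h0, map_zero, LinearMap.zero_apply]
  have h1 := F.inv g v w
  rw [hv, hw, smul_left, smul_right, ← mul_assoc] at h1
  by_contra h2
  have h3 : conj c * d = 1 := mul_right_cancel₀ h2 (h1.trans (one_mul _).symm)
  have h4 := F.eig h0 hv
  have h5 : conj c ≠ 0 := left_ne_zero_of_mul_eq_one h4
  exact h (mul_left_cancel₀ h5 (h4.trans h3.symm))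

end Uni

theorem eig_integral [Finite G] {ρ : Representation ℂ G V} {g : G} {v : V} {c : ℂ} (hv : v ≠ 0)
    (h : ρ g v = c • v) : IsIntegral ℤ c := by
  have h1 : ∀ k : ℕ, ρ (g ^ k) v = c ^ k • v := by
    intro k
    induction k with
    | zero => simp only [_root_.pow_zero, _root_.map_one, _root_.Module.End.one_apply, _root_.one_smul]
    | succ k ih => rw [pow_succ, ← rho_mul, h, map_smul, ih, smul_smul, pow_succ']
  have h2 := h1 (orderOf g)
  rw [pow_orderOf_eq_one, map_one, Module.End.one_apply] at h2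
  have h3 : c ^ orderOf g = 1 := by
    have h4 : (c ^ orderOf g - 1) • v = 0 := by rw [sub_smul, ← h2, one_smul, sub_self]
    exact sub_eq_zero.1 ((smul_eq_zero.1 h4).resolve_right hv)
  exact IsIntegral.of_pow (orderOf_pos g) (by rw [h3]; exact isIntegral_one)

/-! ### Averaging -/

/-- the projection onto the fixed vectors of `H` -/
noncomputable def av [Finite G] (ρ : Representation ℂ G V) (H : Subgroup G) : Module.End ℂ V :=
  (Nat.card H : ℂ)⁻¹ • ∑ᶠ h : H, ρ h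

section av

variable [Finite G] (ρ : Representation ℂ G V) {H : Subgroup G}

theorem av_def (H : Subgroup G) [Fintype H] : av ρ H = (Nat.card H : ℂ)⁻¹ • ∑ h : H, ρ h := by
  rw [av, finsum_eq_sum_of_fintype]

theorem card_ne (H : Subgroup G) : (Nat.card H : ℂ) ≠ 0 := Nat.cast_ne_zero.2 Nat.card_pos.ne'

theorem lin_av {E : Type*} [AddCommGroup E] [Module ℂ E] (L : Module.End ℂ V →ₗ[ℂ] E) {c : E}
    (h : ∀ x ∈ H, L (ρ x) = c) : L (av ρ H) = c := by
  have := Fintype.ofFinite H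
  rw [av_def, map_smul, map_sum, Finset.sum_congr rfl fun (x : H) _ => h x x.2, Finset.sum_const, Finset.card_univ,
    ← Nat.card_eq_fintype_card, ← Nat.cast_smul_eq_nsmul ℂ, smul_smul, inv_mul_cancel₀ (card_ne H), one_smul]

theorem mul_av_of {f : Module.End ℂ V} (h : ∀ x ∈ H, f * ρ x = f) : f * av ρ H = f :=
  lin_av ρ (LinearMap.mulLeft ℂ f) h

theorem av_mul_of {f : Module.End ℂ V} (h : ∀ x ∈ H, ρ x * f = f) : av ρ H * f = f :=
  lin_av ρ (LinearMap.mulRight ℂ f) h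

theorem app_av (f : Module.End ℂ V) {v c : V} (h : ∀ x ∈ H, f (ρ x v) = c) : f (av ρ H v) = c :=
  lin_av ρ (f ∘ₗ LinearMap.applyₗ v) h

theorem av_fix {v : V} (h : ∀ x ∈ H, ρ x v = v) : av ρ H v = v := app_av ρ 1 h

theorem rho_av {x : G} (hx : x ∈ H) : ρ x * av ρ H = av ρ H := by
  have := Fintype.ofFinite H
  rw [av_def, mul_smul_comm, Finset.mul_sum]
  congr 1
  refine Fintype.sum_equiv (Equiv.mulLeft (⟨x, hx⟩ : H)) _ _ fun y => ?_
  rw [← map_mul]
  rfl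

theorem av_rho {x : G} (hx : x ∈ H) : av ρ H * ρ x = av ρ H := by
  have := Fintype.ofFinite H
  rw [av_def, smul_mul_assoc, Finset.sum_mul]
  congr 1
  refine Fintype.sum_equiv (Equiv.mulRight (⟨x, hx⟩ : H)) _ _ fun y => ?_
  rw [← map_mul]
  rfl

theorem rho_av_app {x : G} (hx : x ∈ H) (v : V) : ρ x (av ρ H v) = av ρ H v := by
  rw [← Module.End.mul_apply, rho_av ρ hx]

theorem av_rho_app {x : G} (hx : x ∈ H) (v : V) : av ρ H (ρ x v) = av ρ H v := by
  rw [← Module.End.mul_apply, av_rho ρ hx]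

theorem av_av {K : Subgroup G} (h : H ≤ K) : av ρ H * av ρ K = av ρ K := av_mul_of ρ fun _ hx => rho_av ρ (h hx)

theorem av_av' {K : Subgroup G} (h : H ≤ K) : av ρ K * av ρ H = av ρ K := mul_av_of ρ fun _ hx => av_rho ρ (h hx)

theorem av_comm {g : G} (h1 : ∀ x ∈ H, g * x * g⁻¹ ∈ H) (h2 : ∀ x ∈ H, g⁻¹ * x * g ∈ H) :
    ρ g * av ρ H = av ρ H * ρ g := by
  have e1 : av ρ H * (ρ g * av ρ H) = ρ g * av ρ H := av_mul_of ρ fun x hx => by
    rw [← mul_assoc, ← map_mul, show x * g = g * (g⁻¹ * x * g) by group, map_mul, mul_assoc, rho_av ρ (h2 x hx)]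
  have e2 : av ρ H * ρ g * av ρ H = av ρ H * ρ g := mul_av_of ρ fun x hx => by
    rw [mul_assoc, ← map_mul, show g * x = (g * x * g⁻¹) * g by group, map_mul, ← mul_assoc, av_rho ρ (h1 x hx)]
  rw [← e1, ← mul_assoc, e2]

variable {ρ} in
theorem Uni.av_adj (F : Uni ρ) (v w : V) : F.B (av ρ H v) w = F.B v (av ρ H w) := by
  have key : ∀ v w, F.B (av ρ H v) (av ρ H w) = F.B (av ρ H v) w := fun v w =>
    lin_av ρ (F.B (av ρ H v) ∘ₗ LinearMap.applyₗ w) fun x hx => by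
      show F.B (av ρ H v) (ρ x w) = _
      rw [← inv_inv x, ← F.adj, rho_av_app ρ (H.inv_mem hx)]
  rw [← key, ← F.symm, key, F.symm]

/-- the character value at an element without fixed points on `H` -/
theorem trace_fpf {g : G} (h1 : ∀ x ∈ H, g⁻¹ * x * g ∈ H) (h2 : ∀ x ∈ H, g * x = x * g → x = 1) :
    LinearMap.trace ℂ V (ρ g * av ρ H) = LinearMap.trace ℂ V (ρ g) := by
  refine lin_av ρ (LinearMap.trace ℂ V ∘ₗ LinearMap.mulLeft ℂ (ρ g)) fun x hx => ?_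
  let f : H → H := fun v => ⟨g⁻¹ * v⁻¹ * g * v, H.mul_mem (h1 _ (H.inv_mem v.2)) v.2⟩
  have hf : Function.Injective f := by
    intro v w h
    have h3 : g⁻¹ * (v : G)⁻¹ * g * v = g⁻¹ * (w : G)⁻¹ * g * w := congrArg Subtype.val h
    have h4 := h2 (w * (v : G)⁻¹) (H.mul_mem w.2 (H.inv_mem v.2)) (by
      calc g * (w * (v : G)⁻¹) = w * g * (g⁻¹ * (w : G)⁻¹ * g * w) * (v : G)⁻¹ := by group
        _ = w * (v : G)⁻¹ * g := by rw [← h3]; group)
    exact Subtype.ext (mul_inv_eq_one.1 h4).symm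
  obtain ⟨v, hv⟩ := Finite.injective_iff_surjective.1 hf ⟨x, hx⟩
  have h5 : g * x = (v : G)⁻¹ * g * v := by
    have h6 : g⁻¹ * (v : G)⁻¹ * g * v = x := congrArg Subtype.val hv
    rw [← h6]; group
  show LinearMap.trace ℂ V (ρ g * ρ x) = _
  rw [← map_mul, h5, map_mul, LinearMap.trace_mul_comm, ← map_mul, ← mul_assoc, mul_inv_cancel, one_mul]

end av

/-! ### Linear algebra -/

section lin

variable [FiniteDimensional ℂ V]

theorem trace_idem {e : Module.End ℂ V} (h : e * e = e) : LinearMap.trace ℂ V e = finrank ℂ (LinearMap.range e) :=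
  (LinearMap.IsIdempotentElem.isProj_range e h).trace

/-- an operator with a quadratic relation has an eigenvector in a large subspace -/
theorem exists_eig {W S : Submodule ℂ V} (hS : S ≤ W) (hd : finrank ℂ W < 2 * finrank ℂ S) (L : Module.End ℂ V)
    (hL : ∀ w ∈ W, L w ∈ W) {a b : ℂ} (hq : ∀ w ∈ W, L (L w) = a • L w + b • w) :
    ∃ w ∈ S, w ≠ 0 ∧ ∃ μ : ℂ, L w = μ • w := by
  obtain ⟨s, hs⟩ := IsAlgClosed.exists_pow_nat_eq (a ^ 2 + 4 * b) (n := 2) two_pos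
  have key : ∀ μ ν : ℂ, μ + ν = a → μ * ν = -b →
      finrank ℂ W ≤ finrank ℂ ↥(W ⊓ LinearMap.ker (L - μ • 1)) + finrank ℂ ↥(W ⊓ LinearMap.ker (L - ν • 1)) := by
    intro μ ν h1 h2
    have h3 := LinearMap.finrank_range_add_finrank_ker ((L - ν • 1).domRestrict W)
    have h4 : LinearMap.range ((L - ν • 1).domRestrict W) ≤ W ⊓ LinearMap.ker (L - μ • 1) := by
      rintro _ ⟨w, rfl⟩
      have e : (L - ν • 1).domRestrict W w = L w - ν • (w : V) := rfl
      rw [e]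
      refine ⟨W.sub_mem (hL _ w.2) (W.smul_mem _ w.2), ?_⟩
      show L (L w - ν • (w : V)) - μ • (L w - ν • (w : V)) = 0
      rw [map_sub, map_smul, hq _ w.2, ← h1, ← neg_eq_iff_eq_neg.2 h2]
      module
    have h5 : finrank ℂ ↥(LinearMap.ker ((L - ν • 1).domRestrict W)) ≤
        finrank ℂ ↥(W ⊓ LinearMap.ker (L - ν • 1)) := by
      rw [← Submodule.finrank_map_subtype_eq]
      apply Submodule.finrank_mono
      rintro _ ⟨w, hw, rfl⟩
      exact ⟨w.2, hw⟩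
    have h6 := Submodule.finrank_mono h4
    omega
  have key2 : ∀ μ : ℂ, finrank ℂ W ≤ 2 * finrank ℂ ↥(W ⊓ LinearMap.ker (L - μ • 1)) →
      ∃ w ∈ S, w ≠ 0 ∧ ∃ μ : ℂ, L w = μ • w := by
    intro μ h1
    have h2 := Submodule.finrank_sup_add_finrank_inf_eq S (W ⊓ LinearMap.ker (L - μ • 1))
    have h3 : finrank ℂ ↥(S ⊔ W ⊓ LinearMap.ker (L - μ • 1)) ≤ finrank ℂ W :=
      Submodule.finrank_mono (sup_le hS inf_le_left)
    have h4 : S ⊓ (W ⊓ LinearMap.ker (L - μ • 1)) ≠ ⊥ := by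
      intro h5
      rw [h5, finrank_bot] at h2
      omega
    obtain ⟨w, ⟨hw1, -, hw2⟩, hw3⟩ := Submodule.exists_mem_ne_zero_of_ne_bot h4
    exact ⟨w, hw1, hw3, μ, sub_eq_zero.1 hw2⟩
  have h1 := key ((a + s) / 2) ((a - s) / 2) (by ring) (by linear_combination (-1 / 4 : ℂ) * hs)
  rcases le_total (finrank ℂ ↥(W ⊓ LinearMap.ker (L - ((a + s) / 2) • 1)))
    (finrank ℂ ↥(W ⊓ LinearMap.ker (L - ((a - s) / 2) • 1))) with h | h
  · exact key2 ((a - s) / 2) (by omega)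
  · exact key2 ((a + s) / 2) (by omega)

/-- an operator `K` with `K ^ 2 = δ` on the range of `π` and non-zero trace has a large eigenspace -/
theorem exists_large {π K : Module.End ℂ V} (hπ : π * π = π) (h1 : π * K = K) (h2 : K * π = K) {δ : ℂ}
    (hK : K * K = δ • π) (hδ : δ ≠ 0) (ht : LinearMap.trace ℂ V K ≠ 0) :
    ∃ s : ℂ, ∃ S ≤ LinearMap.range π, finrank ℂ (LinearMap.range π) < 2 * finrank ℂ S ∧ ∀ w ∈ S, K w = s • w := by
  have key : ∀ s : ℂ, s ^ 2 = δ → ∃ S ≤ LinearMap.range π, (∀ w ∈ S, K w = s • w) ∧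
      (2 * finrank ℂ S : ℂ) = finrank ℂ (LinearMap.range π) + s⁻¹ * LinearMap.trace ℂ V K := by
    intro s hs
    have hs0 : s ≠ 0 := by
      rintro rfl
      exact hδ (by rw [← hs]; ring)
    have hKP : K * ((2 : ℂ)⁻¹ • (π + s⁻¹ • K)) = s • ((2 : ℂ)⁻¹ • (π + s⁻¹ • K)) := by
      rw [mul_smul_comm, mul_add, mul_smul_comm, h2, hK, ← hs]
      match_scalars <;> field_simp
    have hπP : π * ((2 : ℂ)⁻¹ • (π + s⁻¹ • K)) = (2 : ℂ)⁻¹ • (π + s⁻¹ • K) := by
      rw [mul_smul_comm, mul_add, mul_smul_comm, h1, hπ]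
    have hP : ((2 : ℂ)⁻¹ • (π + s⁻¹ • K)) * ((2 : ℂ)⁻¹ • (π + s⁻¹ • K)) = (2 : ℂ)⁻¹ • (π + s⁻¹ • K) := by
      nth_rewrite 1 [smul_mul_assoc]
      rw [add_mul, smul_mul_assoc, hKP, hπP]
      match_scalars <;> field_simp <;> ring
    refine ⟨LinearMap.range ((2 : ℂ)⁻¹ • (π + s⁻¹ • K)), ?_, ?_, ?_⟩
    · rintro _ ⟨w, rfl⟩
      exact ⟨_, by rw [← Module.End.mul_apply, hπP]⟩
    · rintro _ ⟨w, rfl⟩
      rw [← Module.End.mul_apply, hKP, LinearMap.smul_apply]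
    · rw [← trace_idem hP, ← trace_idem hπ, map_smul, map_add, map_smul, smul_eq_mul, smul_eq_mul]
      field_simp
  obtain ⟨s, hs⟩ := IsAlgClosed.exists_pow_nat_eq δ (n := 2) two_pos
  have hs0 : s ≠ 0 := by
    rintro rfl
    exact hδ (by rw [← hs]; ring)
  obtain ⟨S, a1, a2, a3⟩ := key s hs
  obtain ⟨S', b1, b2, b3⟩ := key (-s) (by rw [← hs]; ring)
  have c1 : 2 * finrank ℂ S + 2 * finrank ℂ S' = 2 * finrank ℂ (LinearMap.range π) := by
    have : (2 * finrank ℂ S + 2 * finrank ℂ S' : ℂ) = 2 * finrank ℂ (LinearMap.range π) := by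
      rw [a3, b3, inv_neg]; ring
    exact_mod_cast this
  have c2 : 2 * finrank ℂ S ≠ finrank ℂ (LinearMap.range π) := by
    intro h
    have h3 : (2 * finrank ℂ S : ℂ) = finrank ℂ (LinearMap.range π) := by exact_mod_cast h
    rw [a3, add_eq_left] at h3
    exact mul_ne_zero (inv_ne_zero hs0) ht h3
  rcases lt_or_gt_of_ne c2 with h | h
  · exact ⟨-s, S', b1, by omega, b2⟩
  · exact ⟨s, S, a1, h, a2⟩

end lin

end Cfsg.Agent.VAN.Rk
end

-- part: VAN/Rk/Wt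
section
/-!
# S4942, rank two: weight spaces and the operators of the simple reflections (helper77)
-/

set_option autoImplicit false

namespace Cfsg.Agent.VAN.Rk

open Module Cfsg Cfsg.Agent.LieExceptional.BNPairCore
open scoped ComplexConjugate ComplexOrder

universe u

namespace R2

variable {G : Type u} [Group G] (D : R2 G) {V : Type} [AddCommGroup V] [Module ℂ V] (ρ : Representation ℂ G V)

/-- the weight spaces -/
def W (θ : D.T → ℂ) : Submodule ℂ V where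
  carrier := {v | (∀ u ∈ D.U, ρ u v = v) ∧ ∀ t : D.T, ρ t v = θ t • v}
  add_mem' := fun ha hb => ⟨fun u hu => by rw [map_add, ha.1 u hu, hb.1 u hu],
    fun t => by rw [map_add, ha.2 t, hb.2 t, smul_add]⟩
  zero_mem' := ⟨fun _ _ => map_zero _, fun t => by rw [map_zero, smul_zero]⟩
  smul_mem' := fun c v hv => ⟨fun u hu => by rw [map_smul, hv.1 u hu], fun t => by rw [map_smul, hv.2 t, smul_comm]⟩

/-- the action of `N` on the weights -/
def act (g : G) (hg : g ∈ D.P.N) (θ : D.T → ℂ) : D.T → ℂ := fun t => θ ⟨g⁻¹ * t * g, D.NT hg t.2⟩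

/-- the simple reflections on the weights -/
def s (i : Bool) (θ : D.T → ℂ) : D.T → ℂ := D.act (D.n i) (D.nN i) θ

/-- the value on the square of the simple reflection -/
def eps (i : Bool) (θ : D.T → ℂ) : ℂ := θ ⟨D.n i * D.n i, D.sq i⟩

theorem s_s (i : Bool) (θ : D.T → ℂ) : D.s i (D.s i θ) = θ := by
  funext t
  show θ _ = θ t
  congr 1
  apply Subtype.ext
  show (D.n i)⁻¹ * ((D.n i)⁻¹ * t * D.n i) * D.n i = t
  have h1 := D.comm _ (D.sq i) _ t.2
  calc _ = (D.n i * D.n i)⁻¹ * (t * (D.n i * D.n i)) := by group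
    _ = t := by rw [← h1]; group

theorem eps_s (i : Bool) (θ : D.T → ℂ) : D.eps i (D.s i θ) = D.eps i θ := by
  show θ _ = θ _
  congr 1
  apply Subtype.ext
  show (D.n i)⁻¹ * (D.n i * D.n i) * D.n i = D.n i * D.n i
  group

variable {D ρ}

theorem eq_zero_of_ne {θ η : D.T → ℂ} (h : θ ≠ η) {v : V} (h1 : v ∈ D.W ρ θ) (h2 : v ∈ D.W ρ η) : v = 0 := by
  obtain ⟨t, ht⟩ := Function.ne_iff.1 h
  have h3 : (θ t - η t) • v = 0 := by rw [sub_smul, ← h1.2 t, ← h2.2 t, sub_self]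
  exact (smul_eq_zero.1 h3).resolve_left (sub_ne_zero.2 ht)

theorem orth (F : Uni ρ) {θ η : D.T → ℂ} (h : θ ≠ η) {v w : V} (h1 : v ∈ D.W ρ θ) (h2 : w ∈ D.W ρ η) :
    F.B v w = 0 := by
  obtain ⟨t, ht⟩ := Function.ne_iff.1 h
  exact F.orth (h1.2 t) (h2.2 t) ht

theorem conj_mul (F : Uni ρ) {θ : D.T → ℂ} {v : V} (hv : v ∈ D.W ρ θ) (h0 : v ≠ 0) (t : D.T) :
    conj (θ t) * θ t = 1 := F.eig h0 (hv.2 t)

theorem B_apply {θ : D.T → ℂ} {v : V} (hv : v ∈ D.W ρ θ) {b : G} (hb : b ∈ D.P.B) : ∃ c : ℂ, ρ b v = c • v := by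
  obtain ⟨t, ht, u, hu, rfl⟩ := D.mem_B' hb
  exact ⟨θ ⟨t, ht⟩, by rw [← rho_mul, hv.1 u hu, hv.2 ⟨t, ht⟩]⟩

variable [Finite G] (D ρ)

/-- the operator of a simple reflection -/
noncomputable def A (i : Bool) : Module.End ℂ V := av ρ D.U * ρ (D.n i)

theorem A_apply (i : Bool) (v : V) : D.A ρ i v = av ρ D.U (ρ (D.n i) v) := rfl

theorem B_av {b : G} (hb : b ∈ D.P.B) : ρ b * av ρ D.U = av ρ D.U * ρ b :=
  av_comm ρ (fun _ hx => D.BU hb hx) fun x hx => by
    have := D.BU (D.P.B.inv_mem hb) hx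
    rwa [inv_inv] at this

theorem Par_av {i : Bool} {g : G} (hg : g ∈ D.Par i) : ρ g * av ρ (D.V i) = av ρ (D.V i) * ρ g :=
  av_comm ρ (fun _ hx => D.ParV hg hx) fun x hx => by
    have := D.ParV ((D.Par i).inv_mem hg) hx
    rwa [inv_inv] at this

theorem av_X_V (i : Bool) : av ρ (D.X i) * av ρ (D.V i) = av ρ D.U := by
  have h1 : av ρ D.U * (av ρ (D.X i) * av ρ (D.V i)) = av ρ (D.X i) * av ρ (D.V i) := by
    refine av_mul_of ρ fun u hu => ?_
    obtain ⟨x, hx, v, hv, rfl⟩ := D.dec' i hu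
    have h2 : av ρ (D.X i) * av ρ (D.V i) = av ρ (D.V i) * av ρ (D.X i) := by
      have h3 : av ρ (D.X i) * (av ρ (D.V i) * av ρ (D.X i)) = av ρ (D.V i) * av ρ (D.X i) :=
        av_mul_of ρ fun y hy => by
          rw [← mul_assoc, D.Par_av ρ (D.B_le_Par i (D.UB (D.XU i hy))), mul_assoc, rho_av ρ hy]
      have h4 : av ρ (D.X i) * av ρ (D.V i) * av ρ (D.X i) = av ρ (D.X i) * av ρ (D.V i) :=
        mul_av_of ρ fun y hy => by
          rw [mul_assoc, ← D.Par_av ρ (D.B_le_Par i (D.UB (D.XU i hy))), ← mul_assoc, av_rho ρ hy]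
      rw [← h3, ← mul_assoc, h4]
    rw [map_mul, mul_assoc, h2, ← mul_assoc (ρ v), rho_av ρ hv, ← h2, ← mul_assoc, rho_av ρ hx]
  rw [← h1, ← mul_assoc, av_av' ρ (D.XU i), av_av' ρ (D.VU i)]

theorem av_V_X (i : Bool) : av ρ (D.V i) * av ρ (D.X i) = av ρ D.U := by
  rw [← D.av_X_V ρ i]
  have h3 : av ρ (D.X i) * (av ρ (D.V i) * av ρ (D.X i)) = av ρ (D.V i) * av ρ (D.X i) :=
    av_mul_of ρ fun y hy => by
      rw [← mul_assoc, D.Par_av ρ (D.B_le_Par i (D.UB (D.XU i hy))), mul_assoc, rho_av ρ hy]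
  have h4 : av ρ (D.X i) * av ρ (D.V i) * av ρ (D.X i) = av ρ (D.X i) * av ρ (D.V i) :=
    mul_av_of ρ fun y hy => by
      rw [mul_assoc, ← D.Par_av ρ (D.B_le_Par i (D.UB (D.XU i hy))), ← mul_assoc, av_rho ρ hy]
  rw [← h3, ← mul_assoc, h4]

theorem A_av (i : Bool) : D.A ρ i * av ρ D.U = D.A ρ i * av ρ (D.X i) := by
  rw [← D.av_V_X ρ i, ← mul_assoc, A, mul_assoc _ (ρ (D.n i)), D.Par_av ρ (D.n_mem_Par i), ← mul_assoc,
    av_av' ρ (D.VU i)]

variable {D ρ}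

theorem av_B_app {b : G} (hb : b ∈ D.P.B) (v : V) : av ρ D.U (ρ b v) = ρ b (av ρ D.U v) := by
  rw [← Module.End.mul_apply, ← D.B_av ρ hb, Module.End.mul_apply]

theorem A_mem (i : Bool) {θ : D.T → ℂ} {v : V} (hv : v ∈ D.W ρ θ) : D.A ρ i v ∈ D.W ρ (D.s i θ) := by
  refine ⟨fun u hu => rho_av_app ρ hu _, fun t => ?_⟩
  rw [A_apply, ← av_B_app (D.TB t.2), rho_mul, show (t : G) * D.n i = D.n i * ((D.n i)⁻¹ * t * D.n i) by group,
    ← rho_mul, hv.2 ⟨_, D.NT (D.nN i) t.2⟩, map_smul, map_smul]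
  rfl

/-- the quadratic relation -/
theorem quad (i : Bool) (θ : D.T → ℂ) : ∃ c : ℂ, ((∀ t, IsIntegral ℤ (θ t)) → IsIntegral ℤ c) ∧
    ∀ v ∈ D.W ρ θ, (D.q i : ℂ) • D.A ρ i (D.A ρ i v) = D.eps i θ • (v + c • D.A ρ i v) := by
  classical
  have := Fintype.ofFinite (D.X i)
  have key : ∀ x : D.X i, ∃ c : ℂ, ((∀ t, IsIntegral ℤ (θ t)) → IsIntegral ℤ c) ∧ ∀ v ∈ D.W ρ θ,
      D.A ρ i (ρ x (ρ (D.n i) v)) = D.eps i θ • ((if x = 1 then v else 0) + c • D.A ρ i v) := by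
    intro x
    by_cases hx : x = 1
    · refine ⟨0, fun _ => isIntegral_zero, fun v hv => ?_⟩
      rw [if_pos hx, hx, zero_smul, add_zero, OneMemClass.coe_one, map_one, Module.End.one_apply, A_apply, rho_mul,
        hv.2 ⟨_, D.sq i⟩, map_smul, av_fix ρ hv.1]
      rfl
    · obtain ⟨u, hu, t, ht, u', hu', e⟩ := D.rk1' i x x.2 fun h => hx (Subtype.ext h)
      refine ⟨D.s i θ ⟨t, ht⟩, fun h => h _, fun v hv => ?_⟩
      have e2 : D.n i * (x * D.n i) = u * (t * (D.n i * (u' * (D.n i * D.n i)))) := by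
        calc _ = D.n i * x * (D.n i)⁻¹ * (D.n i * D.n i) := by group
          _ = _ := by rw [e]; group
      rw [if_neg hx, zero_add, A_apply, rho_mul, rho_mul, mul_assoc, e2, ← rho_mul, av_rho_app ρ hu, ← rho_mul,
        av_B_app (D.TB ht), ← rho_mul, ← rho_mul, hv.2 ⟨_, D.sq i⟩, map_smul, hv.1 u' hu', map_smul, map_smul,
        map_smul, ← A_apply, (A_mem i hv).2 ⟨t, ht⟩]
      rfl
  choose c hc1 hc2 using key
  refine ⟨∑ x, c x, fun h => IsIntegral.sum _ fun x _ => hc1 x h, fun v hv => ?_⟩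
  have h1 : D.A ρ i (D.A ρ i v) = D.A ρ i (av ρ (D.X i) (ρ (D.n i) v)) := by
    rw [A_apply D ρ i v, ← Module.End.mul_apply, A_av, Module.End.mul_apply]
  rw [h1, av_def, LinearMap.smul_apply, map_smul, smul_smul, q, mul_inv_cancel₀ (card_ne _), one_smul,
    LinearMap.sum_apply, map_sum, Finset.sum_congr rfl fun x _ => hc2 x v hv, ← Finset.smul_sum,
    Finset.sum_add_distrib, Finset.sum_ite_eq' Finset.univ, if_pos (Finset.mem_univ _), Finset.sum_smul]

theorem quad_ne {i : Bool} {θ : D.T → ℂ} (h : D.s i θ ≠ θ) {v : V} (hv : v ∈ D.W ρ θ) :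
    (D.q i : ℂ) • D.A ρ i (D.A ρ i v) = D.eps i θ • v := by
  obtain ⟨c, -, hc⟩ := quad (ρ := ρ) i θ
  have h1 := hc v hv
  have h2 := A_mem i (A_mem i hv)
  rw [s_s] at h2
  have h3 : D.eps i θ • c • D.A ρ i v = 0 := by
    refine eq_zero_of_ne h ((D.W ρ _).smul_mem _ ((D.W ρ _).smul_mem _ (A_mem i hv))) ?_
    have h4 : D.eps i θ • c • D.A ρ i v = (D.q i : ℂ) • D.A ρ i (D.A ρ i v) - D.eps i θ • v := by
      rw [h1, smul_add, add_sub_cancel_left]
    rw [h4]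
    exact (D.W ρ _).sub_mem ((D.W ρ _).smul_mem _ h2) ((D.W ρ _).smul_mem _ hv)
  rw [h1, smul_add, h3, add_zero]

theorem q_ne (i : Bool) : (D.q i : ℂ) ≠ 0 := card_ne _

omit [Finite G] in
theorem eps_ne (F : Uni ρ) (i : Bool) {θ : D.T → ℂ} {v : V} (hv : v ∈ D.W ρ θ) (h0 : v ≠ 0) : D.eps i θ ≠ 0 :=
  right_ne_zero_of_mul_eq_one (conj_mul F hv h0 _)

omit [Finite G] in
theorem inv_apply (i : Bool) {θ : D.T → ℂ} {v : V} (hv : v ∈ D.W ρ θ) :
    D.eps i θ • ρ (D.n i)⁻¹ v = ρ (D.n i) v := by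
  rw [← map_smul, eps, ← hv.2 ⟨_, D.sq i⟩, rho_mul, inv_mul_cancel_left]

theorem norm_A (F : Uni ρ) {i : Bool} {θ : D.T → ℂ} (h : D.s i θ ≠ θ) {v : V} (hv : v ∈ D.W ρ θ) :
    (D.q i : ℂ) * F.B (D.A ρ i v) (D.A ρ i v) = F.B v v := by
  by_cases h0 : v = 0
  · simp [h0]
  have h1 := A_mem i hv
  have h2 : D.eps i θ * F.B (D.A ρ i v) (D.A ρ i v) = F.B v (D.A ρ i (D.A ρ i v)) := by
    nth_rewrite 1 [A_apply]
    rw [F.av_adj, av_fix ρ h1.1, F.adj, ← F.smul_right, ← D.eps_s, inv_apply i h1, A_apply D ρ i (D.A ρ i v),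
      ← F.av_adj, av_fix ρ hv.1]
  apply mul_left_cancel₀ (eps_ne F i hv h0)
  rw [mul_left_comm, h2, ← F.smul_right, quad_ne h hv, F.smul_right]

/-- large subspaces are transported -/
theorem large_map [FiniteDimensional ℂ V] (F : Uni ρ) {i : Bool} {θ : D.T → ℂ} (h : D.s i θ ≠ θ) {S : Submodule ℂ V}
    (hS : S ≤ D.W ρ θ) (hd : finrank ℂ (D.W ρ θ) < 2 * finrank ℂ S) :
    finrank ℂ (D.W ρ (D.s i θ)) < 2 * finrank ℂ (S.map (D.A ρ i)) := by
  have key : ∀ η, D.s i η ≠ η → ∀ v ∈ D.W ρ η, ∃ c : ℂ, v = D.A ρ i (D.A ρ i (c • v)) := by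
    intro η hη v hv
    by_cases h0 : v = 0
    · exact ⟨0, by simp [h0]⟩
    refine ⟨(D.eps i η)⁻¹ * D.q i, ?_⟩
    rw [map_smul, map_smul, mul_smul, quad_ne hη hv, smul_smul, inv_mul_cancel₀ (eps_ne F i hv h0), one_smul]
  have h1 : S ≤ (S.map (D.A ρ i)).map (D.A ρ i) := fun v hv => by
    obtain ⟨c, hc⟩ := key θ h v (hS hv)
    exact ⟨_, ⟨_, S.smul_mem c hv, rfl⟩, hc.symm⟩
  have h2 : D.W ρ (D.s i θ) ≤ (D.W ρ θ).map (D.A ρ i) := fun v hv => by
    obtain ⟨c, hc⟩ := key (D.s i θ) (by rw [s_s]; exact h.symm) v hv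
    refine ⟨_, ?_, hc.symm⟩
    have h3 := A_mem i ((D.W ρ _).smul_mem c hv)
    rwa [s_s] at h3
  have h3 := (Submodule.finrank_mono h1).trans (Submodule.finrank_map_le _ _)
  have h4 := (Submodule.finrank_mono h2).trans (Submodule.finrank_map_le _ _)
  omega

end R2

end Cfsg.Agent.VAN.Rk
end

-- part: VAN/Rk/Ell
section
/-!
# S4942, rank two: the character value at an elliptic element (helper77)
-/

set_option autoImplicit false

namespace Cfsg.Agent.VAN.Rk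

open Module Cfsg Cfsg.Agent.LieExceptional.BNPairCore Cfsg.Agent.Characters
open scoped ComplexConjugate ComplexOrder

universe u

theorem eq_zero_of_conj {G : Type u} [Group G] [Finite G] {V : Type} [AddCommGroup V] [Module ℂ V]
    [FiniteDimensional ℂ V] (ρ : Representation ℂ G V) [ρ.IsIrreducible] {e : Module.End ℂ V} (he : e * e = e)
    (h0 : e ≠ 0) {E : Type*} [AddCommGroup E] [Module ℂ E] (L : Module.End ℂ V →ₗ[ℂ] E)
    (h : ∀ g, L (ρ g * e * ρ g⁻¹) = 0) : L 1 = 0 := by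
  have := Fintype.ofFinite G
  have h1 := congrArg L (Ito.sum_conj ρ e)
  rw [map_sum, Finset.sum_eq_zero fun g _ => h g, map_smul] at h1
  refine (smul_eq_zero.1 h1.symm).resolve_left ?_
  refine div_ne_zero (mul_ne_zero (Nat.cast_ne_zero.2 Fintype.card_ne_zero) fun h2 => h0 ?_)
    (Nat.cast_ne_zero.2 (Ito.finrank_pos_of_irreducible ρ).ne')
  exact LinearMap.IsIdempotentElem.eq_zero_of_trace_eq_zero he h2

namespace R2

variable {G : Type u} [Group G] [Finite G] {D : R2 G} {V : Type} [AddCommGroup V] [Module ℂ V]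
  [FiniteDimensional ℂ V] {ρ : Representation ℂ G V}

/-- if `U` has no fixed vectors then one of the unipotent radicals has none -/
theorem cross_zero [ρ.IsIrreducible] (hm : Even D.m) (i : Bool) (hU : av ρ D.U = 0) (hV : av ρ (D.V i) ≠ 0) :
    av ρ (D.V (!i)) = 0 := by
  have h1 := eq_zero_of_conj ρ (av_av ρ le_rfl) hV (LinearMap.mulLeft ℂ (av ρ (D.V (!i)))) fun g => by
    obtain ⟨j, hj, b, hb, y, hy, rfl⟩ := D.exists_alt_Par i g
    have h2 : av ρ (D.V (!i)) * ρ (alt D.n (!i) j) * av ρ (D.X i) = av ρ (D.V (!i)) * ρ (alt D.n (!i) j) :=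
      mul_av_of ρ fun x hx => by
        rw [mul_assoc, ← map_mul, show alt D.n (!i) j * x = alt D.n (!i) j * x * (alt D.n (!i) j)⁻¹ * alt D.n (!i) j by
          group, map_mul, ← mul_assoc, av_rho ρ (D.cross hm i hj hx)]
    have h3 : av ρ (D.V (!i)) * ρ (alt D.n (!i) j) * av ρ (D.V i) = 0 := by
      rw [← h2, mul_assoc, D.av_X_V ρ i, hU, mul_zero]
    show av ρ (D.V (!i)) * (ρ (b * alt D.n (!i) j * y) * av ρ (D.V i) * _) = 0
    rw [map_mul, map_mul, mul_assoc _ (ρ y), D.Par_av ρ hy, ← mul_assoc, ← mul_assoc, ← mul_assoc, ← mul_assoc,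
      ← D.Par_av ρ (D.B_le_Par (!i) hb), mul_assoc (ρ b), mul_assoc (ρ b), h3, mul_zero, zero_mul, zero_mul]
  simpa using h1

theorem nocusp [ρ.IsIrreducible] (i : Bool) (hU : av ρ D.U ≠ 0) {w : V} (hw : av ρ (D.V i) w = w)
    (h : ∀ y ∈ D.Par i, av ρ D.U (ρ y w) = 0) : w = 0 := by
  refine eq_zero_of_conj ρ (av_av ρ le_rfl) hU (LinearMap.applyₗ w) fun g => ?_
  obtain ⟨j, hj, b, hb, y, hy, e⟩ := D.exists_alt_Par i g⁻¹
  have h2 : av ρ D.U * ρ (alt D.n (!i) j) * av ρ (D.X i) = av ρ D.U * ρ (alt D.n (!i) j) :=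
    mul_av_of ρ fun x hx => by
      rw [mul_assoc, ← map_mul, show alt D.n (!i) j * x = alt D.n (!i) j * x * (alt D.n (!i) j)⁻¹ * alt D.n (!i) j by
        group, map_mul, ← mul_assoc, av_rho ρ (D.red' i hj hx)]
  have h3 : av ρ (D.V i) (ρ y w) = ρ y w := by
    rw [← Module.End.mul_apply, ← D.Par_av ρ hy, Module.End.mul_apply, hw]
  have h4 : av ρ D.U (ρ (alt D.n (!i) j) (ρ y w)) = 0 := by
    rw [← Module.End.mul_apply, ← h2, ← h3, ← Module.End.mul_apply, mul_assoc, D.av_X_V ρ i, Module.End.mul_apply,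
      h y hy, map_zero]
  show ρ g (av ρ D.U (ρ g⁻¹ w)) = 0
  rw [e, ← rho_mul, ← rho_mul, av_B_app hb, h4, map_zero, map_zero]

omit [Finite G] [FiniteDimensional ℂ V] in
theorem comm_sum (H : Subgroup G) [Fintype H] (e : Module.End ℂ V) {g : G} (hg : g ∈ H) :
    ρ g * ∑ y : H, ρ y * e * ρ (y : G)⁻¹ = (∑ y : H, ρ y * e * ρ (y : G)⁻¹) * ρ g := by
  rw [Finset.mul_sum, Finset.sum_mul]
  refine Fintype.sum_equiv (Equiv.mulLeft (⟨g, hg⟩ : H)) _ _ fun y => ?_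
  show _ = ρ (g * y) * e * ρ (g * y)⁻¹ * ρ g
  rw [mul_assoc _ _ (ρ g), ← map_mul, mul_inv_rev, inv_mul_cancel_right, map_mul, mul_assoc, mul_assoc, mul_assoc]

omit [FiniteDimensional ℂ V] in
theorem comm_av {H : Subgroup G} {f : Module.End ℂ V} (h : ∀ x ∈ H, ρ x * f = f * ρ x) :
    av ρ H * f = f * av ρ H := by
  have h1 := lin_av ρ (H := H) (LinearMap.mulRight ℂ f - LinearMap.mulLeft ℂ f) (c := 0) fun x hx =>
    sub_eq_zero.2 (h x hx)
  exact sub_eq_zero.1 h1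

omit [FiniteDimensional ℂ V] in
theorem Z_apply (i : Bool) [Fintype (D.Par i)] {θ : D.T → ℂ} {v : V} (hv : v ∈ D.W ρ θ) :
    D.eps i θ • (∑ y : D.Par i, ρ y * av ρ D.U * ρ (y : G)⁻¹) v =
      (Nat.card D.P.B : ℂ) • (D.eps i θ • v + (D.q i : ℂ) • D.A ρ i (D.A ρ i v)) := by
  have h1 : (∑ y : D.Par i, ρ y * av ρ D.U * ρ (y : G)⁻¹) v =
      av ρ D.U ((∑ y : D.Par i, ρ y * av ρ D.U * ρ (y : G)⁻¹) v) := by
    rw [← Module.End.mul_apply, comm_av fun x hx => comm_sum _ _ (D.B_le_Par i (D.UB hx)), Module.End.mul_apply,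
      av_fix ρ hv.1]
  rw [h1, LinearMap.sum_apply, map_sum]
  have h2 := D.sum_Par i (fun y => av ρ D.U ((ρ y * av ρ D.U * ρ y⁻¹) v)) v (D.A ρ i (av ρ D.U (ρ (D.n i)⁻¹ v)))
    (fun g hg => by
      rw [D.B_av ρ hg, mul_assoc, ← map_mul, mul_inv_cancel, map_one, mul_one, av_fix ρ hv.1, av_fix ρ hv.1])
    (fun g hg => by
      obtain ⟨u, hu, t, ht, u', hu', rfl⟩ := D.exists_of_mem_C hg
      have hb : t * u' ∈ D.P.B := D.P.B.mul_mem (D.TB ht) (D.UB hu')
      have e1 : u * D.n i * t * u' = u * (D.n i * (t * u')) := by group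
      have e2 : (u * D.n i * t * u')⁻¹ = (t * u')⁻¹ * ((D.n i)⁻¹ * u⁻¹) := by group
      rw [Module.End.mul_apply, Module.End.mul_apply, e2, e1, ← rho_mul, av_rho_app ρ hu, ← rho_mul,
        ← av_B_app hb, rho_mul ρ (t * u'), mul_inv_cancel_left, ← rho_mul, hv.1 _ (D.U.inv_mem hu), A_apply])
  have h3 : D.eps i θ • D.A ρ i (av ρ D.U (ρ (D.n i)⁻¹ v)) = D.A ρ i (D.A ρ i v) := by
    rw [← map_smul, ← map_smul, inv_apply i hv, ← A_apply]
  rw [h2, ← h3, ← Nat.cast_smul_eq_nsmul ℂ, ← Nat.cast_smul_eq_nsmul ℂ, Nat.cast_mul]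
  module

/-- **Elliptic elements.** -/
theorem exists_weight [ρ.IsIrreducible] (F : Uni ρ) (i : Bool) (hU : av ρ D.U ≠ 0) {g : G} (hg : g ∈ D.Par i)
    (hell : ∀ y ∈ D.Par i, y⁻¹ * g * y ∉ D.P.B) (ht : LinearMap.trace ℂ V (ρ g * av ρ (D.V i)) ≠ 0) :
    ∃ θ, D.s i θ = θ ∧ ∃ l : ℂ, ∃ S ≤ D.W ρ θ, finrank ℂ (D.W ρ θ) < 2 * finrank ℂ S ∧
      ∀ w ∈ S, D.A ρ i w = l • w := by
  classical
  have := Fintype.ofFinite (D.Par i)
  have := Fintype.ofFinite D.T
  obtain ⟨Z, hZ⟩ : ∃ Z, Z = ∑ y : D.Par i, ρ y * av ρ D.U * ρ (y : G)⁻¹ := ⟨_, rfl⟩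
  have cZ : ∀ y ∈ D.Par i, ρ y * Z = Z * ρ y := fun y hy => hZ ▸ comm_sum _ _ hy
  have hVZ : av ρ (D.V i) * Z = Z := by
    rw [hZ, Finset.mul_sum]
    refine Finset.sum_congr rfl fun y _ => ?_
    rw [← mul_assoc, ← mul_assoc, ← D.Par_av ρ y.2, mul_assoc (ρ y), av_av ρ (D.VU i)]
  have hVV : av ρ (D.V i) * av ρ (D.V i) = av ρ (D.V i) := av_av ρ le_rfl
  have hVZ' : av ρ (D.V i) * (Z + (1 - av ρ (D.V i))) = Z := by
    rw [mul_add, mul_sub, hVZ, hVV, mul_one, sub_self, add_zero]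
  have hinj : LinearMap.ker (Z + (1 - av ρ (D.V i))) = ⊥ := by
    rw [LinearMap.ker_eq_bot']
    intro w hw
    have h1 : Z w = 0 := by rw [← hVZ', Module.End.mul_apply, hw, map_zero]
    have h2 : av ρ (D.V i) w = w := by
      rw [LinearMap.add_apply, h1, zero_add, LinearMap.sub_apply, Module.End.one_apply] at hw
      exact (sub_eq_zero.1 hw).symm
    have h3 : ∑ y : D.Par i, F.B (av ρ D.U (ρ (y : G)⁻¹ w)) (av ρ D.U (ρ (y : G)⁻¹ w)) = 0 := by
      have h4 : F.B w (Z w) = 0 := by rw [h1, map_zero]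
      rw [hZ, LinearMap.sum_apply, map_sum] at h4
      rw [← h4]
      refine Finset.sum_congr rfl fun y _ => ?_
      rw [F.av_adj, ← Module.End.mul_apply (av ρ D.U) (av ρ D.U), av_av ρ le_rfl, F.adj, inv_inv]
      rfl
    refine nocusp i hU h2 fun y hy => F.dfn _ ?_
    have h5 := (Finset.sum_eq_zero_iff_of_nonneg fun y _ => F.pos _).1 h3 ⟨y⁻¹, (D.Par i).inv_mem hy⟩
      (Finset.mem_univ _)
    simpa only [_root_.inv_inv] using h5
  obtain ⟨z, hz⟩ := (LinearMap.isUnit_iff_ker_eq_bot _).2 hinj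
  obtain ⟨u, hu⟩ : ∃ u : Module.End ℂ V, u = ↑z⁻¹ := ⟨_, rfl⟩
  have hzu : (Z + (1 - av ρ (D.V i))) * u = 1 := by rw [← hz, hu, Units.mul_inv]
  have huz : u * (Z + (1 - av ρ (D.V i))) = 1 := by rw [← hz, hu, Units.inv_mul]
  have cz : ∀ y ∈ D.Par i, ρ y * (Z + (1 - av ρ (D.V i))) = (Z + (1 - av ρ (D.V i))) * ρ y := fun y hy => by
    rw [mul_add, add_mul, mul_sub, sub_mul, cZ y hy, D.Par_av ρ hy, mul_one, one_mul]
  have cu' : ∀ f : Module.End ℂ V, f * (Z + (1 - av ρ (D.V i))) = (Z + (1 - av ρ (D.V i))) * f → f * u = u * f :=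
    fun f hf => by
      calc f * u = u * (Z + (1 - av ρ (D.V i))) * f * u := by rw [huz, one_mul]
        _ = u * f := by rw [mul_assoc u, ← hf, mul_assoc, mul_assoc, hzu, mul_one]
  have cu : ∀ y ∈ D.Par i, ρ y * u = u * ρ y := fun y hy => cu' _ (cz y hy)
  have cUu : av ρ D.U * u = u * av ρ D.U := comm_av fun x hx => cu x (D.B_le_Par i (D.UB hx))
  have h1 : av ρ (D.V i) = Z * u := by rw [← hVZ', mul_assoc, hzu, mul_one]
  rw [h1, hZ, Finset.sum_mul, Finset.mul_sum, map_sum] at ht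
  obtain ⟨y, -, hy⟩ := Finset.exists_ne_zero_of_sum_ne_zero ht
  have hy' : (y : G)⁻¹ * g * y ∈ D.Par i := (D.Par i).mul_mem ((D.Par i).mul_mem ((D.Par i).inv_mem y.2) hg) y.2
  obtain ⟨a, ha, t, htT, a', ha', e⟩ := D.exists_of_mem_C (hy'.resolve_left (hell y y.2))
  have h2 : LinearMap.trace ℂ V (D.A ρ i * ρ t * av ρ D.U * u) ≠ 0 := by
    intro h3
    apply hy
    have e1 : ρ g * (ρ y * av ρ D.U * ρ (y : G)⁻¹ * u) = (ρ g * ρ y * av ρ D.U * u) * ρ (y : G)⁻¹ := by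
      rw [mul_assoc _ _ u, cu _ ((D.Par i).inv_mem y.2)]
      simp only [mul_assoc]
    have e2 : ρ (y : G)⁻¹ * (ρ g * ρ y * av ρ D.U * u) = (ρ a * ρ (D.n i) * ρ t * av ρ D.U * u) * av ρ D.U := by
      rw [← mul_assoc, ← mul_assoc, ← mul_assoc, ← map_mul, ← map_mul, e, map_mul, mul_assoc _ (ρ a'),
        rho_av ρ ha', mul_assoc _ u, ← cUu, ← mul_assoc, mul_assoc _ (av ρ D.U) (av ρ D.U), av_av ρ le_rfl,
        map_mul, map_mul]
    rw [e1, LinearMap.trace_mul_comm, e2, LinearMap.trace_mul_comm, ← h3, A]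
    simp only [← mul_assoc]
    rw [av_rho ρ ha]
  let _ : CommGroup D.T := { (inferInstance : Group D.T) with mul_comm := fun a b => Subtype.ext (D.comm _ a.2 _ b.2) }
  let σ : Representation ℂ D.T V := ρ.comp D.T.subtype
  have h3 : D.A ρ i * ρ t * av ρ D.U * u = ∑ l, D.A ρ i * (ρ t * Ito.wt σ l) * av ρ D.U * u := by
    rw [← Finset.sum_mul, ← Finset.sum_mul, ← Finset.mul_sum, ← Finset.mul_sum, Ito.sum_wt, mul_one]
  rw [h3, map_sum] at h2
  obtain ⟨l, -, hl⟩ := Finset.exists_ne_zero_of_sum_ne_zero h2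
  have hw1 : ∀ t : D.T, ρ t * Ito.wt σ l = l (Additive.ofMul t) • Ito.wt σ l := fun t => Ito.mul_wt σ l t
  have hw2 : ∀ t : D.T, Ito.wt σ l * ρ t = l (Additive.ofMul t) • Ito.wt σ l := fun t => Ito.wt_mul σ l t
  have cw : ∀ f : Module.End ℂ V, (∀ t : D.T, ρ t * f = f * ρ t) → Ito.wt σ l * f = f * Ito.wt σ l := fun f hf => by
    rw [Ito.wt_def, smul_mul_assoc, mul_smul_comm, Finset.sum_mul, Finset.mul_sum]
    congr 1
    refine Finset.sum_congr rfl fun t _ => ?_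
    rw [smul_mul_assoc, mul_smul_comm]
    exact congrArg _ (hf t)
  have hww : Ito.wt σ l * Ito.wt σ l = Ito.wt σ l := by rw [Ito.wt_mul_wt, if_pos rfl]
  obtain ⟨π, hπ⟩ : ∃ π, π = Ito.wt σ l * av ρ D.U := ⟨_, rfl⟩
  have cwU : Ito.wt σ l * av ρ D.U = av ρ D.U * Ito.wt σ l := cw _ fun t => D.B_av ρ (D.TB t.2)
  have cπ : ∀ f : Module.End ℂ V, (∀ y ∈ D.Par i, ρ y * f = f * ρ y) → π * f = f * π := fun f hf => by
    rw [hπ, mul_assoc, comm_av fun x hx => hf x (D.B_le_Par i (D.UB hx)), ← mul_assoc,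
      cw f fun t => hf t (D.B_le_Par i (D.TB t.2)), mul_assoc]
  have hl' : LinearMap.trace ℂ V (D.A ρ i * π * u) ≠ 0 := by
    intro h4
    apply hl
    rw [hw1 ⟨t, htT⟩, mul_smul_comm, smul_mul_assoc, smul_mul_assoc, map_smul, mul_assoc (D.A ρ i), ← hπ, h4,
      smul_zero]
  let θ : D.T → ℂ := fun t => l (Additive.ofMul t)
  have m1 : ∀ v, π v ∈ D.W ρ θ := fun v =>
    ⟨fun x hx => by rw [hπ, cwU, Module.End.mul_apply, rho_av_app ρ hx], fun t => by
      rw [hπ, Module.End.mul_apply, ← Module.End.mul_apply (ρ t), hw1, LinearMap.smul_apply]⟩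
  have m2 : ∀ η, ∀ v ∈ D.W ρ η, π v ∈ D.W ρ η := fun η v hv =>
    ⟨(m1 v).1, fun t => by
      rw [hπ, Module.End.mul_apply, av_fix ρ hv.1, ← Module.End.mul_apply, hw1, ← hw2, Module.End.mul_apply,
        hv.2, map_smul]⟩
  have m3 : ∀ v ∈ D.W ρ θ, π v = v := fun v hv => by
    rw [hπ, Module.End.mul_apply, av_fix ρ hv.1, Ito.wt_def, LinearMap.smul_apply, LinearMap.sum_apply]
    have h4 : ∀ t : D.T, (l (Additive.ofMul t⁻¹) • σ t) v = v := fun t => by
      show l (Additive.ofMul t⁻¹) • ρ t v = v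
      rw [hv.2 t, smul_smul, Ito.char_inv_mul_self, one_smul]
    rw [Finset.sum_congr rfl fun t _ => h4 t, Finset.sum_const, Finset.card_univ, ← Nat.cast_smul_eq_nsmul ℂ,
      smul_smul, inv_mul_cancel₀ (Nat.cast_ne_zero.2 Fintype.card_ne_zero), one_smul]
  have hππ : π * π = π := LinearMap.ext fun v => m3 _ (m1 v)
  have hr : LinearMap.range π = D.W ρ θ := le_antisymm (by rintro _ ⟨v, rfl⟩; exact m1 v) fun v hv => ⟨v, m3 v hv⟩
  have hs : D.s i θ = θ := by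
    by_contra h4
    apply hl'
    have h5 : π * D.A ρ i * π = 0 := LinearMap.ext fun v =>
      eq_zero_of_ne h4 (m2 _ _ (A_mem i (m1 v))) (m1 _)
    rw [← hππ, ← mul_assoc, mul_assoc _ π u, cπ u cu, ← mul_assoc, LinearMap.trace_mul_comm, ← mul_assoc,
      ← mul_assoc, h5, zero_mul, map_zero]
  have m4 : ∀ v ∈ D.W ρ θ, D.A ρ i v ∈ D.W ρ θ := fun v hv => by
    have h4 := A_mem i hv
    rwa [hs] at h4
  have hπ0 : π ≠ 0 := by
    rintro h4
    apply hl'
    rw [h4, mul_zero, zero_mul, map_zero]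
  have he : D.eps i θ ≠ 0 := by
    obtain ⟨v, hv⟩ : ∃ v, π v ≠ 0 := by
      by_contra h4
      push Not at h4
      exact hπ0 (LinearMap.ext h4)
    exact eps_ne F i (m1 v) hv
  obtain ⟨c, -, hc⟩ := quad (ρ := ρ) i θ
  have hq := q_ne (D := D) i
  have hAA : ∀ v ∈ D.W ρ θ, D.A ρ i (D.A ρ i v) = (D.eps i θ / D.q i) • (v + c • D.A ρ i v) := fun v hv => by
    rw [div_eq_inv_mul, mul_smul, ← hc v hv, smul_smul, inv_mul_cancel₀ hq, one_smul]
  obtain ⟨K, hK⟩ : ∃ K, K = (2 * D.q i / D.eps i θ) • (D.A ρ i * π) - c • π := ⟨_, rfl⟩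
  have hKv : ∀ v ∈ D.W ρ θ, K v = (2 * D.q i / D.eps i θ) • D.A ρ i v - c • v := fun v hv => by
    rw [hK, LinearMap.sub_apply, LinearMap.smul_apply, LinearMap.smul_apply, Module.End.mul_apply, m3 v hv]
  have hKπ : K * π = K := by rw [hK, sub_mul, smul_mul_assoc, smul_mul_assoc, mul_assoc, hππ]
  have m5 : ∀ v, K v ∈ D.W ρ θ := fun v => by
    rw [← hKπ, Module.End.mul_apply, hKv _ (m1 v)]
    exact (D.W ρ θ).sub_mem ((D.W ρ θ).smul_mem _ (m4 _ (m1 v))) ((D.W ρ θ).smul_mem _ (m1 v))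
  have hπK : π * K = K := LinearMap.ext fun v => m3 _ (m5 v)
  have hKK : K * K = (4 * D.q i / D.eps i θ + c ^ 2) • π := LinearMap.ext fun v => by
    rw [Module.End.mul_apply, hKv _ (m5 v), ← hKπ, Module.End.mul_apply, hKv _ (m1 v), map_sub, map_smul, map_smul,
      hAA _ (m1 v), LinearMap.smul_apply]
    match_scalars <;> field_simp <;> ring
  have hKZ : K * (Z + (1 - av ρ (D.V i))) = (Nat.card D.P.B * (4 * D.q i / D.eps i θ + c ^ 2)) • (D.A ρ i * π) := by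
    rw [← hKπ, mul_assoc, cπ _ cz]
    refine LinearMap.ext fun v => ?_
    have h4 : Z (π v) = (Nat.card D.P.B : ℂ) • ((2 : ℂ) • π v + c • D.A ρ i (π v)) := by
      have h5 := Z_apply i (m1 v)
      rw [← hZ, hc _ (m1 v)] at h5
      apply smul_right_injective V he
      show D.eps i θ • _ = D.eps i θ • _
      rw [h5]
      module
    have h5 : av ρ (D.V i) (π v) = π v := av_fix ρ fun x hx => (m1 v).1 x (D.VU i hx)
    rw [Module.End.mul_apply, Module.End.mul_apply, LinearMap.add_apply, LinearMap.sub_apply, Module.End.one_apply,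
      h5, sub_self, add_zero, h4, map_smul, map_add, map_smul, map_smul, hKv _ (m1 v), hKv _ (m4 _ (m1 v)),
      hAA _ (m1 v), LinearMap.smul_apply, Module.End.mul_apply]
    match_scalars <;> field_simp <;> ring
  have hKu : K = (Nat.card D.P.B * (4 * D.q i / D.eps i θ + c ^ 2)) • (D.A ρ i * π * u) := by
    rw [← smul_mul_assoc, ← hKZ, mul_assoc, hzu, mul_one]
  have fin : ∀ s : ℂ, ∀ w ∈ D.W ρ θ, K w = s • w → D.A ρ i w = ((s + c) * D.eps i θ / (2 * D.q i)) • w := by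
    intro s w hw h4
    rw [hKv w hw, sub_eq_iff_eq_add] at h4
    have h5 : D.A ρ i w = (D.eps i θ / (2 * D.q i)) • (2 * D.q i / D.eps i θ) • D.A ρ i w := by
      rw [smul_smul]
      match_scalars
      field_simp
    rw [h5, h4]
    match_scalars
    field_simp
  refine ⟨θ, hs, ?_⟩
  by_cases hδ : 4 * D.q i / D.eps i θ + c ^ 2 = 0
  · rw [hδ, mul_zero, zero_smul] at hKu
    refine ⟨_, D.W ρ θ, le_rfl, ?_, fun w hw => fin 0 w hw (by rw [hKu, zero_smul, LinearMap.zero_apply])⟩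
    have h4 : finrank ℂ (D.W ρ θ) ≠ 0 := by
      rw [← hr, Ne, Submodule.finrank_eq_zero, LinearMap.range_eq_bot]
      exact hπ0
    omega
  · obtain ⟨s, S, a1, a2, a3⟩ := exists_large hππ hπK hKπ hKK hδ (by
      rw [hKu, map_smul, smul_eq_mul]
      exact mul_ne_zero (mul_ne_zero (card_ne _) hδ) hl')
    rw [hr] at a1 a2
    exact ⟨_, S, a1, a2, fun w hw => fin s w (a1 hw) (a3 w hw)⟩

omit [FiniteDimensional ℂ V] in
theorem av_Par {i : Bool} {θ : D.T → ℂ} {v : V} (hv : v ∈ D.W ρ θ) (F : Uni ρ) (h0 : v ≠ 0) {l : ℂ}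
    (hA : D.A ρ i v = l • v) {g : G} (hg : g ∈ C D.P (D.n i)) :
    ∃ c : ℂ, conj c * c = conj l * l ∧ av ρ D.U (ρ g v) = c • v := by
  obtain ⟨u, hu, t, ht, u', hu', rfl⟩ := D.exists_of_mem_C hg
  refine ⟨θ ⟨t, ht⟩ * l, ?_, ?_⟩
  · rw [map_mul, mul_mul_mul_comm, conj_mul F hv h0, one_mul]
  · rw [← rho_mul, hv.1 u' hu', ← rho_mul, hv.2 ⟨t, ht⟩, ← rho_mul, av_rho_app ρ hu, map_smul, map_smul, ← A_apply,
      hA, smul_smul]

/-- the parameter of an eigenvector is rational -/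
theorem eig_rat (F : Uni ρ) {i : Bool} {θ : D.T → ℂ} {v : V} (hv : v ∈ D.W ρ θ) (h0 : v ≠ 0) {l : ℂ}
    (hA : D.A ρ i v = l • v) : ∃ d : ℕ, (d : ℂ) * (1 + D.q i * (conj l * l)) = 1 + D.q i := by
  have := Fintype.ofFinite (D.Par i)
  obtain ⟨π, hπ⟩ : ∃ π : Module.End ℂ V, π = (F.B v).smulRight v := ⟨_, rfl⟩
  have hπa : ∀ w, π w = F.B v w • v := fun w => by rw [hπ, LinearMap.smulRight_apply]
  obtain ⟨Z, hZ⟩ : ∃ Z, Z = ∑ y : D.Par i, ρ y * π * ρ (y : G)⁻¹ := ⟨_, rfl⟩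
  have cZ : ∀ y ∈ D.Par i, ρ y * Z = Z * ρ y := fun y hy => hZ ▸ comm_sum _ _ hy
  have key : ∀ (g : G) (c : ℂ), av ρ D.U (ρ g v) = c • v →
      av ρ D.U ((ρ g * π * ρ g⁻¹) v) = (conj c * c * F.B v v) • v := by
    intro g c h
    rw [Module.End.mul_apply, Module.End.mul_apply, hπa, map_smul, map_smul, h, ← F.adj, smul_smul]
    nth_rewrite 2 [← av_fix ρ hv.1]
    rw [← F.av_adj, h, F.smul_left, mul_right_comm]
  have h1 : Z v = ((Nat.card D.P.B : ℂ) * (1 + D.q i * (conj l * l)) * F.B v v) • v := by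
    have h2 : Z v = av ρ D.U (Z v) := by
      rw [← Module.End.mul_apply, comm_av fun x hx => cZ x (D.B_le_Par i (D.UB hx)), Module.End.mul_apply,
        av_fix ρ hv.1]
    rw [h2, hZ, LinearMap.sum_apply, map_sum,
      D.sum_Par i (fun y => av ρ D.U ((ρ y * π * ρ y⁻¹) v)) (F.B v v • v) ((conj l * l * F.B v v) • v)
      (fun g hg => by
        obtain ⟨c, hc⟩ := B_apply hv hg
        rw [key g c (by rw [hc, map_smul, av_fix ρ hv.1]), F.eig h0 hc, one_mul])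
      (fun g hg => by
        obtain ⟨c, h3, h4⟩ := av_Par hv F h0 hA hg
        rw [key g c h4, h3]), ← Nat.cast_smul_eq_nsmul ℂ, ← Nat.cast_smul_eq_nsmul ℂ, Nat.cast_mul]
    module
  obtain ⟨κ, hκ⟩ : ∃ κ, κ = (Nat.card D.P.B : ℂ) * (1 + D.q i * (conj l * l)) * F.B v v := ⟨_, rfl⟩
  have hvv : F.B v v ≠ 0 := fun h => h0 (F.dfn v h)
  have hx : (1 : ℂ) + D.q i * (conj l * l) ≠ 0 := by
    rw [Complex.conj_mul']
    (clear * -; positivity)
  have hκ0 : κ ≠ 0 := hκ ▸ mul_ne_zero (mul_ne_zero (card_ne _) hx) hvv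
  rw [← hκ] at h1
  have h2 : Z * π = κ • π := LinearMap.ext fun w => by
    rw [Module.End.mul_apply, LinearMap.smul_apply, hπa, map_smul, h1, smul_comm]
  have h3 : Z * Z = κ • Z := by
    nth_rewrite 2 3 [hZ]
    rw [Finset.mul_sum, Finset.smul_sum]
    refine Finset.sum_congr rfl fun y _ => ?_
    rw [← mul_assoc, ← mul_assoc, ← cZ y y.2, mul_assoc (ρ y), h2, mul_smul_comm, smul_mul_assoc]
  have h4 : (κ⁻¹ • Z) * (κ⁻¹ • Z) = κ⁻¹ • Z := by
    rw [smul_mul_assoc, mul_smul_comm, h3, smul_smul κ⁻¹ κ, inv_mul_cancel₀ hκ0, one_smul]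
  have h5 : LinearMap.trace ℂ V Z = Nat.card (D.Par i) * F.B v v := by
    rw [hZ, map_sum, Finset.sum_congr rfl (g := fun _ => F.B v v), Finset.sum_const, Finset.card_univ,
      ← Nat.card_eq_fintype_card, nsmul_eq_mul]
    intro y _
    rw [LinearMap.trace_mul_comm, ← mul_assoc, ← map_mul, inv_mul_cancel, map_one, one_mul, hπ,
      LinearMap.trace_smulRight]
  have h6 := trace_idem h4
  refine ⟨finrank ℂ (LinearMap.range (κ⁻¹ • Z)), ?_⟩
  rw [← h6, map_smul, h5, D.card_Par, smul_eq_mul, hκ]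
  have := card_ne D.P.B
  generalize (1 : ℂ) + D.q i * (conj l * l) = y at hx
  push_cast
  field_simp

/-- the parameter of an eigenvector is a power of `p` -/
theorem eig_pow (F : Uni ρ) {i : Bool} {θ : D.T → ℂ} {v : V} (hv : v ∈ D.W ρ θ) (h0 : v ≠ 0) {l : ℂ}
    (hA : D.A ρ i v = l • v) {p f : ℕ} (hp : p.Prime) (hq : D.q i = p ^ f) :
    ∃ a : ℤ, |a| ≤ f ∧ D.q i * (conj l * l) = (p : ℂ) ^ a := by
  obtain ⟨d, hd⟩ := eig_rat F hv h0 hA
  obtain ⟨c, hc1, hc⟩ := quad (ρ := ρ) i θ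
  have hθ : ∀ t, IsIntegral ℤ (θ t) := fun t => eig_integral h0 (hv.2 t)
  have hq0 := q_ne (D := D) i
  have he : conj (D.eps i θ) * D.eps i θ = 1 := conj_mul F hv h0 _
  have hei : IsIntegral ℤ (D.eps i θ) := hθ _
  have hci := hc1 hθ
  have h1 : D.q i * (l * l) = D.eps i θ * (1 + c * l) := by
    have h2 := hc v hv
    rw [hA, map_smul, hA] at h2
    have h3 : (D.q i * (l * l) - D.eps i θ * (1 + c * l)) • v = 0 := by
      rw [sub_smul, mul_smul, mul_smul, h2]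
      module
    exact sub_eq_zero.1 ((smul_eq_zero.1 h3).resolve_right h0)
  have hτ : IsIntegral ℤ (D.q i * l) := by
    have h2 : IsIntegral (integralClosure ℤ ℂ) (D.q i * l) := by
      refine ⟨Polynomial.X ^ 2 - (Polynomial.C (⟨_, hei.mul hci⟩ : integralClosure ℤ ℂ) * Polynomial.X +
        Polynomial.C (⟨_, hei.mul (isIntegral_natCast (D.q i))⟩ : integralClosure ℤ ℂ)), ?_, ?_⟩
      · exact Polynomial.monic_X_pow_sub (lt_of_le_of_lt Polynomial.degree_linear_le (by decide))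
      · simp only [Polynomial.eval₂_sub, Polynomial.eval₂_add, Polynomial.eval₂_mul, Polynomial.eval₂_X_pow,
          Polynomial.eval₂_C, Polynomial.eval₂_X]
        show (D.q i * l) ^ 2 - (D.eps i θ * c * (D.q i * l) + D.eps i θ * D.q i) = 0
        linear_combination (D.q i : ℂ) * h1
    exact isIntegral_trans _ h2
  have hτ' : IsIntegral ℤ (D.eps i θ * c - D.q i * l) := (hei.mul hci).sub hτ
  have hcj : ∀ z : ℂ, IsIntegral ℤ z → IsIntegral ℤ (conj z * z) := fun z hz =>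
    (hz.map (starRingEnd ℂ).toIntAlgHom).mul hz
  have hpr : D.q i * l * (D.eps i θ * c - D.q i * l) = -(D.eps i θ * D.q i) := by
    linear_combination (-(D.q i : ℂ)) * h1
  have hN : conj (D.q i * l) * (D.q i * l) * (conj (D.eps i θ * c - D.q i * l) * (D.eps i θ * c - D.q i * l)) =
      (D.q i : ℂ) ^ 2 := by
    rw [mul_mul_mul_comm, ← map_mul, hpr, map_neg, map_mul, Complex.conj_natCast]
    linear_combination (D.q i : ℂ) ^ 2 * he
  have hd0 : (d : ℂ) ≠ 0 := by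
    intro h
    rw [h, zero_mul] at hd
    have h2 : ((1 + D.q i : ℕ) : ℂ) = 0 := by push_cast; exact hd.symm
    exact absurd (Nat.cast_eq_zero.1 h2) (by omega)
  have hr : conj (D.q i * l) * (D.q i * l) = ((D.q i * (1 + D.q i - d) / d : ℚ) : ℂ) := by
    rw [map_mul, Complex.conj_natCast]
    push_cast
    field_simp
    linear_combination hd
  have hint : ∀ r : ℚ, IsIntegral ℤ (r : ℂ) → ∃ z : ℤ, (z : ℂ) = r := fun r h => by
    obtain ⟨z, hz⟩ := IsIntegrallyClosed.isIntegral_iff.1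
      ((isIntegral_algebraMap_iff (R := ℤ) (algebraMap ℚ ℂ).injective).1 h)
    exact ⟨z, by rw [← hz]; simp⟩
  obtain ⟨z, hz⟩ := hint _ (hr ▸ hcj _ hτ)
  rw [← hr] at hz
  have hz0 : (z : ℂ) ≠ 0 := by
    rw [hz]
    exact left_ne_zero_of_mul (hN ▸ pow_ne_zero 2 hq0)
  obtain ⟨z', hz'⟩ := hint ((D.q i : ℚ) ^ 2 / z) (by
    have h2 := hcj _ hτ'
    have h3 : conj (D.eps i θ * c - D.q i * l) * (D.eps i θ * c - D.q i * l) = (((D.q i : ℚ) ^ 2 / z : ℚ) : ℂ) := by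
      push_cast
      rw [eq_div_iff hz0, hz, mul_comm, hN]
    rwa [h3] at h2)
  have hzz : z * z' = (p : ℤ) ^ (2 * f) := by
    have h2 : ((z * z' : ℤ) : ℂ) = ((p : ℤ) ^ (2 * f) : ℤ) := by
      push_cast at hz' ⊢
      rw [hz', mul_div_cancel₀ _ hz0, hq, Nat.cast_pow, ← pow_mul, mul_comm]
    exact_mod_cast h2
  have hzpos : 0 ≤ z := by
    have h2 : (0 : ℂ) ≤ z := by
      rw [hz, Complex.conj_mul']
      (clear * -; positivity)
    exact_mod_cast h2
  obtain ⟨k, rfl⟩ := Int.eq_ofNat_of_zero_le hzpos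
  have hdv : k ∣ p ^ (2 * f) := by
    have h2 : (k : ℤ) ∣ ((p ^ (2 * f) : ℕ) : ℤ) := ⟨z', by rw [hzz]; push_cast; rfl⟩
    exact_mod_cast h2
  obtain ⟨a, ha, rfl⟩ := (Nat.dvd_prime_pow hp).1 hdv
  refine ⟨a - f, by rw [abs_le]; omega, ?_⟩
  have hp0 : (p : ℂ) ≠ 0 := Nat.cast_ne_zero.2 hp.ne_zero
  rw [zpow_sub₀ hp0, zpow_natCast, zpow_natCast, eq_div_iff (pow_ne_zero _ hp0), ← Nat.cast_pow p f, ← hq]
  rw [map_mul, Complex.conj_natCast] at hz
  push_cast at hz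
  rw [hz]
  ring

end R2

end Cfsg.Agent.VAN.Rk
end

-- part: VAN/Rk/Path
section
/-!
# S4942, rank two: the degree of a character that does not vanish at an elliptic element (helper77)
-/

set_option autoImplicit false

namespace Cfsg.Agent.VAN.Rk

open Module Cfsg Cfsg.Agent.LieExceptional.BNPairCore Cfsg.Agent.Characters
open scoped ComplexConjugate ComplexOrder

universe u

theorem sum_period (ν : ℕ → ℂ) (d : ℕ) (z : ℂ) (h : ∀ j, ν (j + d) = z * ν j) (t r : ℕ) :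
    ∑ j ∈ Finset.range (d * t + r), ν j =
      (∑ s ∈ Finset.range t, z ^ s) * ∑ j ∈ Finset.range d, ν j + z ^ t * ∑ j ∈ Finset.range r, ν j := by
  have h1 : ∀ t j, ν (d * t + j) = z ^ t * ν j := by
    intro t j
    induction t with
    | zero => simp
    | succ t ih => rw [show d * (t + 1) + j = d * t + j + d by ring, h, ih, pow_succ', mul_assoc]
  have h2 : ∀ t r, ∑ j ∈ Finset.range (d * t + r), ν j =
      ∑ j ∈ Finset.range (d * t), ν j + z ^ t * ∑ j ∈ Finset.range r, ν j := fun t r => by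
    rw [Finset.sum_range_add, Finset.mul_sum, Finset.sum_congr rfl fun j _ => h1 t j]
  rw [h2]
  congr 1
  induction t with
  | zero => simp
  | succ t ih => rw [mul_add, mul_one, h2, ih, Finset.sum_range_succ, add_mul]

namespace R2

variable {G : Type u} [Group G] (D : R2 G) {V : Type} [AddCommGroup V] [Module ℂ V] (ρ : Representation ℂ G V)

/-- the weights along an alternating word -/
def th (i : Bool) (θ : D.T → ℂ) (j : ℕ) : D.T → ℂ := D.act (alt D.n i j) (D.altN i j) θ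

theorem th_zero (i : Bool) (θ : D.T → ℂ) : D.th i θ 0 = θ := by
  funext t
  show θ _ = θ t
  congr 1
  apply Subtype.ext
  show (1 : G)⁻¹ * t * 1 = t
  group

theorem th_succ (i : Bool) (θ : D.T → ℂ) (j : ℕ) : D.th i θ (j + 1) = D.s (lt i j) (D.th i θ j) := by
  funext t
  show θ _ = θ _
  congr 1
  apply Subtype.ext
  show (D.n (lt i j) * alt D.n i j)⁻¹ * t * (D.n (lt i j) * alt D.n i j) =
    (alt D.n i j)⁻¹ * ((D.n (lt i j))⁻¹ * t * D.n (lt i j)) * alt D.n i j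
  group

theorem th_loop {i : Bool} {θ : D.T → ℂ} (hs : D.s i θ = θ) {j : ℕ} (hj : j + 1 = D.m) :
    D.th (!i) θ (j + 1) = D.th (!i) θ j := by
  funext t
  have h1 := D.braid' i
  rw [← hj, alt_succ'] at h1
  have h2 := congrFun hs ⟨_, D.NT (D.altN (!i) j) t.2⟩
  refine Eq.trans ?_ h2
  show θ _ = θ _
  congr 1
  apply Subtype.ext
  show (alt D.n (!i) (j + 1))⁻¹ * t * alt D.n (!i) (j + 1) =
    (D.n i)⁻¹ * ((alt D.n (!i) j)⁻¹ * t * alt D.n (!i) j) * D.n i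
  have h3 := D.comm _ h1 _ (D.NT (D.nN i) (D.NT (D.altN (!i) j) t.2))
  calc _ = ((alt D.n (!i) j * D.n i)⁻¹ * alt D.n (!i) (j + 1))⁻¹ *
        ((D.n i)⁻¹ * ((alt D.n (!i) j)⁻¹ * t * alt D.n (!i) j) * D.n i *
          ((alt D.n (!i) j * D.n i)⁻¹ * alt D.n (!i) (j + 1))) := by group
    _ = _ := by rw [← h3]; group

theorem th_ne {i : Bool} {θ : D.T → ℂ} (hs : D.s i θ = θ) {k : ℕ}
    (hk : ∀ j < k, D.th (!i) θ (j + 1) ≠ D.th (!i) θ j) {j : ℕ} (h0 : 0 < j) (hj : j ≤ k) : D.th (!i) θ j ≠ θ := by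
  have odd : ∀ r, 2 * r + 1 ≤ k → D.th (!i) θ (2 * r + 1) ≠ θ := by
    intro r hr h
    have key : ∀ a b, a + b = r → D.th (!i) θ (a + 2 * b + 1) = D.th (!i) θ a := by
      intro a
      induction a with
      | zero =>
        intro b hb
        rw [zero_add] at hb
        rw [zero_add, hb, h, th_zero]
      | succ a ih =>
        intro b hb
        have h1 := ih (b + 1) (by omega)
        rw [th_succ, lt_add_two_mul] at h1
        rw [th_succ D _ _ a, ← h1, s_s]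
        congr 1
        omega
    exact hk r (by omega) (key r 0 rfl)
  rcases Nat.even_or_odd' j with ⟨r, rfl | rfl⟩
  · obtain ⟨r, rfl⟩ : ∃ r', r = r' + 1 := ⟨r - 1, by omega⟩
    intro h
    apply odd r (by omega)
    rw [show 2 * (r + 1) = 2 * r + 1 + 1 by ring, th_succ, lt_odd _ ⟨r, rfl⟩, Bool.not_not] at h
    rw [← D.s_s i (D.th (!i) θ (2 * r + 1)), h, hs]
  · exact odd r hj

theorem Q_add (i : Bool) (j k : ℕ) : D.Q i (j + 2 * k) = D.Q i j * D.Q i (2 * k) := by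
  induction j with
  | zero => rw [zero_add, Q_zero, one_mul]
  | succ j ih => rw [show j + 1 + 2 * k = j + 2 * k + 1 by ring, Q_succ, Q_succ, ih, lt_add_two_mul, mul_assoc]

variable [Finite G]

/-- the operators of the alternating words -/
noncomputable def Pth (i : Bool) : ℕ → Module.End ℂ V
  | 0 => 1
  | j + 1 => D.A ρ (lt i j) * Pth i j

theorem Pth_zero (i : Bool) (v : V) : D.Pth ρ i 0 v = v := rfl

theorem Pth_succ (i : Bool) (j : ℕ) (v : V) : D.Pth ρ i (j + 1) v = D.A ρ (lt i j) (D.Pth ρ i j v) := rfl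

theorem Pth_add (i : Bool) (j k : ℕ) (v : V) : D.Pth ρ i (j + 2 * k) v = D.Pth ρ i j (D.Pth ρ i (2 * k) v) := by
  induction j with
  | zero => rw [zero_add, Pth_zero]
  | succ j ih => rw [show j + 1 + 2 * k = j + 2 * k + 1 by ring, Pth_succ, Pth_succ, ih, lt_add_two_mul]

variable {D ρ}

theorem Pth_mem (i : Bool) {θ : D.T → ℂ} {v : V} (hv : v ∈ D.W ρ θ) (j : ℕ) : D.Pth ρ i j v ∈ D.W ρ (D.th i θ j) := by
  induction j with
  | zero => rwa [th_zero]
  | succ j ih =>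
    rw [th_succ]
    exact A_mem _ ih

theorem av_alt (i : Bool) {v : V} (hv : ∀ u ∈ D.U, ρ u v = v) {j : ℕ} (hj : j ≤ D.m) :
    av ρ D.U (ρ (alt D.n i j) v) = D.Pth ρ i j v := by
  induction j with
  | zero => rw [alt_zero, map_one, Module.End.one_apply, av_fix ρ hv, Pth_zero]
  | succ j ih =>
    rw [Pth_succ, ← ih (by omega), ← Module.End.mul_apply (D.A ρ _), A_av, Module.End.mul_apply, alt_succ, ← rho_mul,
      ← A_apply]
    refine (app_av ρ _ fun x hx => ?_).symm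
    rw [rho_mul, show x * alt D.n i j = alt D.n i j * ((alt D.n i j)⁻¹ * x * alt D.n i j) by group, ← rho_mul,
      hv _ (D.red i j (by omega) x hx)]

theorem av_alt_n (i : Bool) {v : V} (hv : ∀ u ∈ D.U, ρ u v = v) {l : ℂ} (hA : D.A ρ i v = l • v) {j : ℕ}
    (hj : j < D.m) : av ρ D.U (ρ (alt D.n (!i) j * D.n i) v) = l • D.Pth ρ (!i) j v := by
  have key : ∀ j, j < D.m → D.Pth ρ i (j + 1) v = D.Pth ρ (!i) j (D.A ρ i v) := by
    intro j hj
    induction j with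
    | zero => rfl
    | succ j ih => rw [Pth_succ, ih (by omega), Pth_succ, lt_succ, lt_not]
  rw [← alt_succ', av_alt i hv hj, key j hj, hA, map_smul]

/-- Schur's relation -/
theorem schur [FiniteDimensional ℂ V] [ρ.IsIrreducible] (F : Uni ρ) (i : Bool) {θ : D.T → ℂ} {v : V}
    (hv : v ∈ D.W ρ θ) (h0 : v ≠ 0) {l : ℂ} (hA : D.A ρ i v = l • v) :
    (Nat.card G : ℂ) * F.B v v ^ 2 = finrank ℂ V * Nat.card D.P.B * (1 + D.q i * (conj l * l)) *
      ∑ j ∈ Finset.range D.m, D.Q (!i) j * (conj (F.B v (D.Pth ρ (!i) j v)) * F.B v (D.Pth ρ (!i) j v)) := by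
  have := Fintype.ofFinite G
  have h1 := congrArg (fun f : Module.End ℂ V => F.B v (f v)) (Ito.sum_conj ρ ((F.B v).smulRight v))
  simp only [LinearMap.sum_apply, map_sum, LinearMap.trace_smulRight, LinearMap.smul_apply, Module.End.one_apply,
    Module.End.mul_apply, LinearMap.smulRight_apply, map_smul, smul_eq_mul] at h1
  have h2 : ∀ g, F.B v (ρ g⁻¹ v) = conj (F.B v (ρ g v)) := fun g => by rw [F.symm, F.adj]
  simp only [h2] at h1
  have hB : ∀ w, F.B v w = F.B v (av ρ D.U w) := fun w => by rw [← F.av_adj, av_fix ρ hv.1]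
  rw [D.sum_eq i (fun g => conj (F.B v (ρ g v)) * F.B v (ρ g v)) fun b hb b' hb' g => by
    obtain ⟨c, hc⟩ := B_apply hv (D.P.B.inv_mem hb)
    obtain ⟨d, hd⟩ := B_apply hv hb'
    rw [← rho_mul, ← rho_mul, hd, ← inv_inv b, ← F.adj, hc, F.smul_left, map_smul (ρ g), F.smul_right, map_mul, map_mul,
      Complex.conj_conj]
    have e1 := F.eig h0 hc
    have e2 := F.eig h0 hd
    linear_combination (conj d * d * (conj (F.B v (ρ g v)) * F.B v (ρ g v))) * e1 +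
      (conj (F.B v (ρ g v)) * F.B v (ρ g v)) * e2] at h1
  have hn : (finrank ℂ V : ℂ) ≠ 0 := Nat.cast_ne_zero.2 (Ito.finrank_pos_of_irreducible ρ).ne'
  have h3 : ∑ j ∈ Finset.range D.m, (D.Q (!i) j : ℂ) *
      (conj (F.B v (ρ (alt D.n (!i) j) v)) * F.B v (ρ (alt D.n (!i) j) v) +
        D.q i * (conj (F.B v (ρ (alt D.n (!i) j * D.n i) v)) * F.B v (ρ (alt D.n (!i) j * D.n i) v))) =
      (1 + D.q i * (conj l * l)) *
      ∑ j ∈ Finset.range D.m, D.Q (!i) j * (conj (F.B v (D.Pth ρ (!i) j v)) * F.B v (D.Pth ρ (!i) j v)) := by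
    rw [Finset.mul_sum]
    refine Finset.sum_congr rfl fun j hj => ?_
    have hj := Finset.mem_range.1 hj
    rw [hB (ρ (alt D.n (!i) j) v), hB (ρ (alt D.n (!i) j * D.n i) v), av_alt _ hv.1 hj.le, av_alt_n i hv.1 hA hj,
      F.smul_right, map_mul]
    ring
  rw [h3] at h1
  rw [Nat.card_eq_fintype_card, mul_assoc, mul_assoc, h1]
  field_simp

/-- **The degree.** -/
theorem deg [FiniteDimensional ℂ V] [ρ.IsIrreducible] (F : Uni ρ) (hm : Even D.m) (i : Bool) {θ : D.T → ℂ}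
    (hs : D.s i θ = θ) {l : ℂ} {S : Submodule ℂ V} (hS : S ≤ D.W ρ θ) (hd : finrank ℂ (D.W ρ θ) < 2 * finrank ℂ S)
    (hl : ∀ w ∈ S, D.A ρ i w = l • w) {p : ℕ} (hp : p.Prime) {f : Bool → ℕ} (hq : ∀ i, D.q i = p ^ f i) :
    ∃ (a b : ℤ) (k t : ℕ), |a| ≤ f i ∧ |b| ≤ f (lt (!i) k) ∧
      ((D.m = 2 * (k + 1) * t ∧ (Nat.card G : ℂ) = finrank ℂ V * Nat.card D.P.B * (1 + (p : ℂ) ^ a) *
          ((∑ s ∈ Finset.range t, ((p : ℂ) ^ a * p ^ b) ^ s) * (1 + (p : ℂ) ^ b))) ∨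
        (D.m = 2 * (k + 1) * t + (k + 1) ∧ (Nat.card G : ℂ) = finrank ℂ V * Nat.card D.P.B * (1 + (p : ℂ) ^ a) *
          ((∑ s ∈ Finset.range t, ((p : ℂ) ^ a * p ^ a) ^ s) * (1 + (p : ℂ) ^ a) + ((p : ℂ) ^ a * p ^ a) ^ t))) := by
  classical
  obtain ⟨m', hm'⟩ : ∃ m', m' + 1 = D.m := ⟨D.m - 1, by have := D.m_pos; omega⟩
  have hex : ∃ j, D.th (!i) θ (j + 1) = D.th (!i) θ j := ⟨m', D.th_loop hs hm'⟩
  obtain ⟨k, hk⟩ : ∃ k, k = Nat.find hex := ⟨_, rfl⟩
  have hk1 : D.th (!i) θ (k + 1) = D.th (!i) θ k := hk ▸ Nat.find_spec hex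
  have hk2 : ∀ j < k, D.th (!i) θ (j + 1) ≠ D.th (!i) θ j := fun j hj => Nat.find_min hex (hk ▸ hj)
  have hk3 : ∀ j < k, D.s (lt (!i) j) (D.th (!i) θ j) ≠ D.th (!i) θ j := fun j hj => D.th_succ _ _ _ ▸ hk2 j hj
  have hle : ∀ j, S.map (D.Pth ρ (!i) j) ≤ D.W ρ (D.th (!i) θ j) := fun j => by
    rintro _ ⟨v, hv, rfl⟩
    exact Pth_mem _ (hS hv) j
  have hbig : ∀ j ≤ k, finrank ℂ (D.W ρ (D.th (!i) θ j)) < 2 * finrank ℂ (S.map (D.Pth ρ (!i) j)) := by
    intro j hj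
    induction j with
    | zero =>
      rw [th_zero]
      exact hd.trans_eq (congrArg (fun T : Submodule ℂ V => 2 * finrank ℂ T) (Submodule.map_id S).symm)
    | succ j ih =>
      have h1 := large_map F (hk3 j hj) (hle j) (ih (by omega))
      rwa [← th_succ, ← Submodule.map_comp] at h1
  obtain ⟨c, -, hc⟩ := quad (ρ := ρ) (lt (!i) k) (D.th (!i) θ k)
  obtain ⟨_, ⟨v, hvS, rfl⟩, hw0, μ, hμ⟩ := exists_eig (hle k) (hbig k le_rfl) (D.A ρ (lt (!i) k))
    (fun w hw => by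
      have h1 := A_mem (lt (!i) k) hw
      rwa [← th_succ, hk1] at h1)
    (a := (D.q (lt (!i) k) : ℂ)⁻¹ * D.eps (lt (!i) k) (D.th (!i) θ k) * c)
    (b := (D.q (lt (!i) k) : ℂ)⁻¹ * D.eps (lt (!i) k) (D.th (!i) θ k)) (fun w hw => by
      apply smul_right_injective V (q_ne (D := D) (lt (!i) k))
      show (D.q (lt (!i) k) : ℂ) • _ = (D.q (lt (!i) k) : ℂ) • _
      rw [hc w hw]
      have := q_ne (D := D) (lt (!i) k)
      match_scalars <;> field_simp)
  have hv := hS hvS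
  have h0 : v ≠ 0 := by
    rintro rfl
    exact hw0 (map_zero _)
  have hA := hl v hvS
  have hvv : F.B v v ≠ 0 := fun h => h0 (F.dfn v h)
  obtain ⟨a, ha, hx⟩ := eig_pow F hv h0 hA hp (hq i)
  obtain ⟨b, hb, hy⟩ := eig_pow F (Pth_mem (!i) hv k) hw0 hμ hp (hq _)
  obtain ⟨w, hw⟩ : ∃ w : ℕ → V, w = fun j => D.Pth ρ (!i) j v := ⟨_, rfl⟩
  have hws : ∀ j, w (j + 1) = D.A ρ (lt (!i) j) (w j) := fun j => by rw [hw]; rfl
  have hwm : ∀ j, w j ∈ D.W ρ (D.th (!i) θ j) := fun j => by rw [hw]; exact Pth_mem _ hv j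
  have hw00 : w 0 = v := by rw [hw]; rfl
  have hμ' : w (k + 1) = μ • w k := by rw [hw]; exact hμ
  have n1 : ∀ j ≤ k, (D.Q (!i) j : ℂ) * F.B (w j) (w j) = F.B v v := by
    intro j hj
    induction j with
    | zero => rw [Q_zero, hw00, Nat.cast_one, one_mul]
    | succ j ih => rw [Q_succ, hws, Nat.cast_mul, mul_comm (D.q _ : ℂ), mul_assoc, norm_A F (hk3 j hj) (hwm j), ih (by omega)]
  have back : ∀ s r, s + r = k → ∃ c : ℂ, w (k + 1 + s) = c • w r ∧ D.th (!i) θ (k + 1 + s) = D.th (!i) θ r ∧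
      (D.Q (!i) (k + 1 + s) : ℂ) * F.B (w (k + 1 + s)) (w (k + 1 + s)) = (p : ℂ) ^ b * F.B v v := by
    intro s
    induction s with
    | zero =>
      intro r hr
      rw [zero_add] at hr
      subst hr
      refine ⟨μ, hμ', hk1, ?_⟩
      rw [add_zero, hμ', Q_succ, F.smul_left, F.smul_right, ← hy, ← n1 r le_rfl]
      push_cast
      ring
    | succ s ih =>
      intro r hr
      obtain ⟨c, h1, h2, h3⟩ := ih (r + 1) (by omega)
      have e : lt (!i) (k + 1 + s) = lt (!i) r := by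
        rw [show k + 1 + s = r + 2 * (s + 1) by omega, lt_add_two_mul]
      have hq0 := q_ne (D := D) (lt (!i) r)
      refine ⟨c * (D.q (lt (!i) r) : ℂ)⁻¹ * D.eps (lt (!i) r) (D.th (!i) θ r), ?_, ?_, ?_⟩
      · rw [← add_assoc, hws, e, h1, hws, map_smul, mul_smul, ← quad_ne (hk3 r (by omega)) (hwm r), smul_smul,
          mul_assoc, inv_mul_cancel₀ hq0, mul_one]
      · rw [← add_assoc, th_succ, e, h2, th_succ, s_s]
      · have h4 : D.s (lt (!i) r) (D.th (!i) θ (k + 1 + s)) ≠ D.th (!i) θ (k + 1 + s) := by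
          rw [h2, th_succ, s_s, ← th_succ]
          exact (hk2 r (by omega)).symm
        rw [← add_assoc, Q_succ, hws, e, Nat.cast_mul, mul_comm (D.q _ : ℂ), mul_assoc, norm_A F h4 (hwm _), h3]
  obtain ⟨c₀, b1, b2, b3⟩ := back k 0 rfl
  rw [hw00] at b1
  rw [th_zero] at b2
  rw [b1, F.smul_left, F.smul_right, ← mul_assoc, ← mul_assoc] at b3
  have b4 := mul_right_cancel₀ hvv b3
  have e2 : lt (!i) (k + 1 + k) = i := by rw [lt_odd _ ⟨k, by ring⟩, Bool.not_not]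
  have e3 : 2 * (k + 1) = k + 1 + k + 1 := by ring
  have p1 : w (2 * (k + 1)) = (c₀ * l) • v := by rw [e3, hws, e2, b1, map_smul, hA, smul_smul]
  have p2 : ∀ j, w (j + 2 * (k + 1)) = (c₀ * l) • w j := fun j => by
    have h1 : w (j + 2 * (k + 1)) = D.Pth ρ (!i) j (w (2 * (k + 1))) := by rw [hw]; exact D.Pth_add ρ _ _ _ _
    rw [h1, p1, map_smul, hw]
  have p3 : ∀ j, D.th (!i) θ (j + 2 * (k + 1)) = D.th (!i) θ j := by
    intro j
    induction j with
    | zero => rw [zero_add, e3, th_succ, e2, b2, hs, th_zero]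
    | succ j ih => rw [show j + 1 + 2 * (k + 1) = j + 2 * (k + 1) + 1 by ring, th_succ, ih, lt_add_two_mul, ← th_succ]
  have p4 : (D.Q (!i) (2 * (k + 1)) : ℂ) * (conj (c₀ * l) * (c₀ * l)) = (p : ℂ) ^ a * p ^ b := by
    rw [e3, Q_succ, e2, ← hx, ← b4, map_mul]
    push_cast
    ring
  obtain ⟨ν, hν⟩ : ∃ ν : ℕ → ℂ, ν = fun j => (D.Q (!i) j : ℂ) * (conj (F.B v (w j)) * F.B v (w j)) := ⟨_, rfl⟩
  have v0 : ν 0 = F.B v v ^ 2 := by
    rw [hν]
    show (D.Q (!i) 0 : ℂ) * (conj (F.B v (w 0)) * F.B v (w 0)) = _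
    rw [Q_zero, hw00, F.symm]
    push_cast
    ring
  have v1 : ∀ j, D.th (!i) θ j ≠ θ → ν j = 0 := fun j hj => by
    rw [hν]
    show (D.Q (!i) j : ℂ) * (conj (F.B v (w j)) * F.B v (w j)) = _
    rw [orth F hj.symm hv (hwm j), mul_zero, mul_zero]
  have v2 : ν (k + 1 + k) = (p : ℂ) ^ b * F.B v v ^ 2 := by
    rw [hν]
    show (D.Q (!i) _ : ℂ) * (conj (F.B v (w _)) * F.B v (w _)) = _
    rw [b1, F.smul_right, map_mul, F.symm, ← b4]
    ring
  have v3 : ∀ j, ν (j + 2 * (k + 1)) = (p : ℂ) ^ a * p ^ b * ν j := fun j => by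
    rw [hν]
    show (D.Q (!i) _ : ℂ) * (conj (F.B v (w _)) * F.B v (w _)) = _ * ((D.Q (!i) _ : ℂ) * (conj (F.B v (w _)) * F.B v (w _)))
    rw [p2, Q_add, ← p4, F.smul_right, map_mul]
    push_cast
    ring
  have s1 : ∑ j ∈ Finset.range (k + 1), ν j = F.B v v ^ 2 := by
    rw [Finset.sum_range_succ', v0, Finset.sum_eq_zero, zero_add]
    intro j hj
    exact v1 _ (D.th_ne hs hk2 (by omega) (Finset.mem_range.1 hj))
  have s2 : ∑ j ∈ Finset.range (2 * (k + 1)), ν j = (1 + (p : ℂ) ^ b) * F.B v v ^ 2 := by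
    rw [e3, Finset.sum_range_succ, Finset.sum_range_add, s1, v2, Finset.sum_eq_zero]
    · ring
    · intro j hj
      have hj := Finset.mem_range.1 hj
      obtain ⟨_, -, h1, -⟩ := back j (k - j) (by omega)
      exact v1 _ (h1 ▸ D.th_ne hs hk2 (by omega) (by omega))
  have hsch := schur F i hv h0 hA
  have hsum : ∑ j ∈ Finset.range D.m, D.Q (!i) j * (conj (F.B v (D.Pth ρ (!i) j v)) * F.B v (D.Pth ρ (!i) j v)) =
      ∑ j ∈ Finset.range D.m, ν j := by rw [hν, hw]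
  rw [hsum, hx] at hsch
  obtain ⟨t, r, hr, hmr⟩ : ∃ t r, r < 2 * (k + 1) ∧ m' = r + 2 * (k + 1) * t :=
    ⟨m' / (2 * (k + 1)), m' % (2 * (k + 1)), Nat.mod_lt _ (by omega), (Nat.mod_add_div _ _).symm⟩
  have p5 : ∀ t j, D.th (!i) θ (j + 2 * (k + 1) * t) = D.th (!i) θ j := by
    intro t j
    induction t with
    | zero => rfl
    | succ t ih => rw [mul_add, mul_one, ← add_assoc, p3, ih]
  have hloop : D.th (!i) θ (r + 1) = D.th (!i) θ r := by
    have h1 := D.th_loop hs hm'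
    rwa [hmr, add_right_comm, p5, p5] at h1
  have hvv2 : F.B v v ^ 2 ≠ 0 := pow_ne_zero 2 hvv
  by_cases h1 : r = k + 1 + k
  · have h2 : D.m = 2 * (k + 1) * (t + 1) := by rw [← hm', hmr, h1]; ring
    refine ⟨a, b, k, t + 1, ha, hb, Or.inl ⟨h2, mul_right_cancel₀ hvv2 ?_⟩⟩
    rw [hsch, h2, ← add_zero (2 * (k + 1) * (t + 1)), sum_period ν _ _ v3, s2, Finset.sum_range_zero]
    ring
  have h2 : r = k := by
    by_contra h2
    rcases lt_or_gt_of_ne h2 with h3 | h3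
    · exact hk2 r h3 hloop
    · obtain ⟨s, rfl⟩ : ∃ s, r = k + 1 + s := ⟨r - (k + 1), by omega⟩
      obtain ⟨r', hr'⟩ : ∃ r', s + 1 + r' = k := ⟨k - (s + 1), by omega⟩
      obtain ⟨_, -, h4, -⟩ := back s (r' + 1) (by omega)
      obtain ⟨_, -, h5, -⟩ := back (s + 1) r' hr'
      rw [add_assoc, h5, h4] at hloop
      exact hk2 r' (by omega) hloop.symm
  subst h2
  have h2 : D.m = 2 * (r + 1) * t + (r + 1) := by rw [← hm', hmr]; ring
  have p6 : ∀ t j, w (j + 2 * (r + 1) * t) = (c₀ * l) ^ t • w j := by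
    intro t j
    induction t with
    | zero => simp
    | succ t ih => rw [mul_add, mul_one, ← add_assoc, p2, ih, smul_smul, pow_succ']
  have hab : (p : ℂ) ^ b = (p : ℂ) ^ a := by
    have h3 := D.braid' i
    rw [← hm', alt_succ'] at h3
    have h4 : w (m' + 1) = (θ ⟨_, h3⟩ * l) • w m' := by
      rw [hw]
      show D.Pth ρ (!i) (m' + 1) v = _ • D.Pth ρ (!i) m' v
      rw [← av_alt (!i) hv.1 hm'.le, mul_smul, ← av_alt_n i hv.1 hA (by omega), ← map_smul, ← map_smul, ← hv.2,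
        rho_mul, mul_inv_cancel_left]
    have h9 := conj_mul F hv h0 ⟨_, h3⟩
    generalize θ ⟨_, h3⟩ = e at h4 h9
    rw [hmr, add_right_comm, p6, p6, hμ', smul_comm] at h4
    have hp0 : (p : ℂ) ≠ 0 := Nat.cast_ne_zero.2 hp.ne_zero
    have h5 : (c₀ * l) ^ t • w r ≠ 0 := by
      refine smul_ne_zero (pow_ne_zero _ fun h => ?_) (by rw [hw]; exact hw0)
      rw [h, mul_zero, mul_zero] at p4
      exact mul_ne_zero (zpow_ne_zero _ hp0) (zpow_ne_zero _ hp0) p4.symm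
    have h6 : μ = e * l := smul_left_injective ℂ h5 h4
    have h7 : lt (!i) r = i := by
      have h8 : Odd m' := by
        rw [← hm'] at hm
        exact Nat.not_even_iff_odd.1 (Nat.even_add_one.1 hm)
      rw [← lt_add_two_mul _ r ((r + 1) * t), ← mul_assoc, ← hmr, lt_odd _ h8, Bool.not_not]
    rw [← hx, ← hy, h7, h6, map_mul, mul_mul_mul_comm, h9, one_mul]
  refine ⟨a, b, r, t, ha, hb, Or.inr ⟨h2, mul_right_cancel₀ hvv2 ?_⟩⟩
  rw [hsch, h2, sum_period ν _ _ v3, s2, s1, hab]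
  ring

end R2

end Cfsg.Agent.VAN.Rk
end

-- part: VAN/Rk/Main
section
/-!
# S4942, rank two: the theorem for a split BN pair with dihedral Weyl group of order `4 h` (helper77)
-/

set_option autoImplicit false

namespace Cfsg.Agent.VAN.Rk

open Module Cfsg Cfsg.Agent.LieExceptional.BNPairCore Cfsg.Agent.Characters

universe u

/-- `l`-adic units -/
def Good (l : ℕ) (r : ℚ) : Prop := r ≠ 0 ∧ padicValRat l r = 0

namespace Good

variable {l : ℕ} [hl : Fact l.Prime]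

theorem mul {a b : ℚ} (ha : Good l a) (hb : Good l b) : Good l (a * b) :=
  ⟨mul_ne_zero ha.1 hb.1, by rw [padicValRat.mul ha.1 hb.1, ha.2, hb.2, add_zero]⟩

theorem of_mul {a b c : ℚ} (h : a * b = c) (hb : Good l b) (hc : Good l c) : Good l a := by
  have ha : a ≠ 0 := by
    rintro rfl
    exact hc.1 (by rw [← h, zero_mul])
  have h1 := hc.2
  rw [← h, padicValRat.mul ha hb.1, hb.2, add_zero] at h1
  exact ⟨ha, h1⟩

omit hl in
theorem nat {n : ℕ} (h : ¬ l ∣ n) : Good l n :=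
  ⟨Nat.cast_ne_zero.2 fun h0 => h (h0 ▸ dvd_zero l), by
    rw [padicValRat.of_nat, padicValNat.eq_zero_of_not_dvd h, Nat.cast_zero]⟩

omit hl in
theorem neg {a : ℚ} (ha : Good l a) : Good l (-a) := ⟨neg_ne_zero.2 ha.1, by rw [padicValRat.neg, ha.2]⟩

theorem sub {p N : ℕ} (hp : 0 < p) (hlp : ¬ l ∣ p) (hpr : ∀ k, 0 < k → k < N → ¬ l ∣ p ^ k - 1) {c : ℤ} (h0 : c ≠ 0)
    (hc : |c| < N) : Good l ((p : ℚ) ^ c - 1) := by
  have key : ∀ k : ℕ, 0 < k → k < N → Good l ((p : ℚ) ^ k - 1) := fun k h1 h2 => by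
    have h3 := nat (hpr k h1 h2)
    rwa [Nat.cast_sub (Nat.one_le_pow _ _ hp), Nat.cast_pow, Nat.cast_one] at h3
  rw [abs_lt] at hc
  obtain ⟨k, rfl | rfl⟩ := Int.eq_nat_or_neg c
  · rw [zpow_natCast]
    exact key k (by omega) (by omega)
  · have hp0 : (p : ℚ) ≠ 0 := Nat.cast_ne_zero.2 hp.ne'
    refine of_mul (b := ((p ^ k : ℕ) : ℚ)) ?_ (nat fun h => hlp (hl.out.dvd_of_dvd_pow h))
      (key k (by omega) (by omega)).neg
    rw [zpow_neg, zpow_natCast, Nat.cast_pow]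
    field_simp
    ring

theorem geom {p N : ℕ} (hp : 0 < p) (hlp : ¬ l ∣ p) (hpr : ∀ k, 0 < k → k < N → ¬ l ∣ p ^ k - 1) {c : ℤ} {t : ℕ}
    (h0 : 0 < t) (ht : t < l) (hc : t * |c| < N) : Good l (∑ s ∈ Finset.range t, ((p : ℚ) ^ c) ^ s) := by
  by_cases h1 : c = 0
  · subst h1
    simp only [zpow_zero, one_pow, Finset.sum_const, Finset.card_range, nsmul_eq_mul, mul_one]
    exact nat fun h => absurd (Nat.le_of_dvd h0 h) (by omega)
  · have h2 : |c| < N := lt_of_le_of_lt (le_mul_of_one_le_left (abs_nonneg c) (by exact_mod_cast h0)) hc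
    refine of_mul (geom_sum_mul _ t) (sub hp hlp hpr h1 h2) ?_
    rw [← zpow_natCast, ← zpow_mul]
    refine sub hp hlp hpr (mul_ne_zero h1 (by exact_mod_cast h0.ne')) ?_
    rwa [abs_mul, Nat.abs_cast, mul_comm]

theorem one_add {p N : ℕ} (hp : 0 < p) (hlp : ¬ l ∣ p) (hpr : ∀ k, 0 < k → k < N → ¬ l ∣ p ^ k - 1) {c : ℤ}
    (ht : 2 < l) (hc : 2 * |c| < N) : Good l (1 + (p : ℚ) ^ c) := by
  have h1 := geom hp hlp hpr (c := c) (t := 1 + 1) two_pos ht hc
  rwa [Finset.sum_range_succ, Finset.sum_range_one, pow_zero, pow_one] at h1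

theorem dvd {g n : ℕ} {r : ℚ} (hg : g ≠ 0) (h : (g : ℚ) = n * r) (hr : Good l r) (c : ℕ) (hc : l ^ c ∣ g) :
    l ^ c ∣ n := by
  have hn : n ≠ 0 := by
    rintro rfl
    rw [Nat.cast_zero, zero_mul] at h
    exact hg (Nat.cast_eq_zero.1 h)
  have h1 := congrArg (padicValRat l) h
  rw [padicValRat.mul (Nat.cast_ne_zero.2 hn) hr.1, hr.2, add_zero, padicValRat.of_nat, padicValRat.of_nat] at h1
  rw [padicValNat_dvd_iff_le hn, ← Nat.cast_injective h1, ← padicValNat_dvd_iff_le hg]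
  exact hc

end Good

namespace R2

variable {G : Type u} [Group G] [Finite G] (D : R2 G)

theorem card_G' (i : Bool) {h : ℕ} (hm : D.m = 2 * h) : Nat.card G = Nat.card D.P.B * (1 + D.q i) *
    ((∑ s ∈ Finset.range h, (D.q i * D.q (!i)) ^ s) * (1 + D.q (!i))) := by
  have h1 := sum_period (fun j => D.Q (!i) j) 2 (D.q i * D.q (!i)) (fun j => by
    have h2 := D.Q_add (!i) j 1
    rw [mul_one] at h2
    rw [h2, Q_succ, Q_succ, Q_zero, lt_succ, lt_zero, Bool.not_not]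
    push_cast
    ring) h 0
  rw [add_zero, ← hm, Finset.sum_range_zero, mul_zero, add_zero, Finset.sum_range_succ, Finset.sum_range_one, Q_succ,
    Q_zero, lt_zero, mul_one, Nat.cast_one] at h1
  have h2 : ∑ j ∈ Finset.range D.m, D.Q (!i) j = (∑ s ∈ Finset.range h, (D.q i * D.q (!i)) ^ s) * (1 + D.q (!i)) := by
    exact_mod_cast h1
  rw [D.card_G i, ← Finset.sum_mul, h2]
  ring

/-- the numerical data -/
structure Num (p l : ℕ) where
  /-- exponents -/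
  f : Bool → ℕ
  /-- half of `m` -/
  h : ℕ
  /-- the order of the torus -/
  b : ℕ
  hp : p.Prime
  hl : l.Prime
  hm : D.m = 2 * h
  h2 : 2 ≤ h
  hf : ∀ i, 0 < f i
  hq : ∀ i, D.q i = p ^ f i
  hB : Nat.card D.P.B = p ^ (h * (f true + f false)) * b
  pb : ¬ p ∣ b
  lb : ¬ l ∣ b
  hl1 : h < l
  ldvd : l ∣ p ^ (h * (f true + f false)) - 1
  prim : ∀ k, 0 < k → k < h * (f true + f false) → ¬ l ∣ p ^ k - 1

variable {D} {p l : ℕ}

omit [Finite G] in
theorem Num.add (E : D.Num p l) (i : Bool) : E.f i + E.f (!i) = E.f true + E.f false := by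
  cases i
  · exact add_comm _ _
  · rfl

omit [Finite G] in
theorem Num.lp (E : D.Num p l) : ¬ l ∣ p := fun h => by
  have h1 : 0 < E.h * (E.f true + E.f false) := Nat.mul_pos (by have := E.h2; omega) (by have := E.hf true; omega)
  have h2 : l ∣ p ^ (E.h * (E.f true + E.f false)) := h.trans (dvd_pow_self p h1.ne')
  have h3 := (Nat.dvd_sub_iff_right (Nat.one_le_pow _ _ E.hp.pos) h2).1 E.ldvd
  exact E.hl.one_lt.ne' (Nat.dvd_one.1 h3)

omit [Finite G] in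
theorem Num.lB (E : D.Num p l) : ¬ l ∣ Nat.card D.P.B := by
  rw [E.hB]
  intro h
  rcases (Nat.Prime.dvd_mul E.hl).1 h with h1 | h1
  · exact E.lp (E.hl.dvd_of_dvd_pow h1)
  · exact E.lb h1

theorem Num.l_dvd (E : D.Num p l) : l ∣ Nat.card G := by
  rw [D.card_G' true E.hm, E.hq, E.hq, ← pow_add, E.add]
  have h1 := Nat.geomSum_eq (m := p ^ (E.f true + E.f false))
    (Nat.one_lt_pow (by have := E.hf true; omega) E.hp.one_lt) E.h
  have h2 : (p ^ (E.f true + E.f false) - 1) * ∑ s ∈ Finset.range E.h, (p ^ (E.f true + E.f false)) ^ s =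
      p ^ (E.h * (E.f true + E.f false)) - 1 := by
    rw [h1, Nat.mul_div_cancel' (Nat.sub_one_dvd_pow_sub_one _ _), ← pow_mul, mul_comm]
  have h3 := E.ldvd
  rw [← h2] at h3
  have h4 := ((Nat.Prime.dvd_mul E.hl).1 h3).resolve_left (E.prim _ (by have := E.hf true; omega) (by
    have := E.h2
    have := E.hf true
    nlinarith))
  exact (h4.mul_right _).mul_left _

theorem Num.p_dvd (E : D.Num p l) (c : ℕ) (hc : p ^ c ∣ Nat.card G) : p ^ c ∣ p ^ (E.h * (E.f true + E.f false)) := by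
  rw [D.card_G' true E.hm, E.hB, mul_assoc, mul_assoc] at hc
  refine (Nat.Coprime.pow_left c ?_).dvd_of_dvd_mul_right hc
  have h1 : ∀ i, p ∣ D.q i := fun i => by rw [E.hq]; exact dvd_pow_self p (E.hf i).ne'
  have h2 : ∀ x, p ∣ x → p.Coprime (1 + x) := fun x hx => by
    rw [Nat.Prime.coprime_iff_not_dvd E.hp, Nat.dvd_add_left hx, Nat.dvd_one]
    exact E.hp.one_lt.ne'
  refine Nat.Coprime.mul_right ((Nat.Prime.coprime_iff_not_dvd E.hp).2 E.pb)
    (Nat.Coprime.mul_right (h2 _ (h1 _)) (Nat.Coprime.mul_right ?_ (h2 _ (h1 _))))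
  obtain ⟨k, hk⟩ : ∃ k, E.h = k + 1 := ⟨E.h - 1, by have := E.h2; omega⟩
  rw [hk, Finset.sum_range_succ', pow_zero, add_comm]
  exact h2 _ (Finset.dvd_sum fun s _ => ((h1 true).mul_right _).trans (dvd_pow_self _ s.succ_ne_zero))

/-- **The principal series.** -/
theorem ps_case (E : D.Num p l) {n : ℕ} (ρ : Representation ℂ G (Fin n → ℂ)) [ρ.IsIrreducible] (i : Bool)
    (hU : av ρ D.U ≠ 0) {g : G} (hg : g ∈ D.Par i) (hell : ∀ y ∈ D.Par i, y⁻¹ * g * y ∉ D.P.B)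
    (hfp : ∀ x ∈ D.V i, g * x = x * g → x = 1) (h0 : ρ.character g ≠ 0) :
    n = 1 ∨ (∀ c, l ^ c ∣ Nat.card G → l ^ c ∣ n) ∨ ∀ c, p ^ c ∣ Nat.card G → p ^ c ∣ n := by
  obtain ⟨F⟩ := exists_uni ρ
  have hl : Fact l.Prime := ⟨E.hl⟩
  have ht : LinearMap.trace ℂ _ (ρ g * av ρ (D.V i)) ≠ 0 := by
    rw [trace_fpf ρ (fun x hx => by
      have := D.ParV ((D.Par i).inv_mem hg) hx
      rwa [inv_inv] at this) hfp]
    exact h0
  obtain ⟨θ, hs, z, S, hS, hd, hz⟩ := exists_weight F i hU hg hell ht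
  obtain ⟨a, b, k, t, ha, hb, H⟩ := deg F ⟨E.h, by rw [E.hm, two_mul]⟩ i hs hS hd hz E.hp E.hq
  rw [Module.finrank_fin_fun] at H
  have hp := E.hp.pos
  have hp0 : (p : ℚ) ≠ 0 := Nat.cast_ne_zero.2 hp.ne'
  have h2 := E.h2
  have hl1 := E.hl1
  have hm := E.hm
  have hF : ∀ j, E.f j < E.f true + E.f false := fun j => by
    have := E.add j
    have := E.hf (!j)
    omega
  obtain ⟨φ, hφ⟩ : ∃ φ, φ = E.f true + E.f false := ⟨_, rfl⟩
  have prim := E.prim
  rw [← hφ] at prim hF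
  have ha' : |a| < φ := ha.trans_lt (by exact_mod_cast hF _)
  have hb' : |b| < φ := hb.trans_lt (by exact_mod_cast hF _)
  have h2' : (2 : ℤ) ≤ E.h := by exact_mod_cast h2
  have g1 : ∀ c : ℤ, |c| < φ → Good l (1 + (p : ℚ) ^ c) := fun c hc =>
    Good.one_add hp E.lp prim (by omega) (by
      push_cast
      have := abs_nonneg c
      nlinarith only [h2, hc])
  have gB : Good l (Nat.card D.P.B) := Good.nat E.lB
  have hG0 : Nat.card G ≠ 0 := Nat.card_pos.ne'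
  rcases H with ⟨h3, h4⟩ | ⟨h3, h4⟩
  · have h5 : (Nat.card G : ℚ) = n * (Nat.card D.P.B * (1 + (p : ℚ) ^ a) *
        ((∑ s ∈ Finset.range t, ((p : ℚ) ^ (a + b)) ^ s) * (1 + (p : ℚ) ^ b))) := by
      apply Rat.cast_injective (α := ℂ)
      rw [zpow_add₀ hp0]
      push_cast
      rw [h4]
      ring
    have h6 : E.h = (k + 1) * t := by linarith only [hm, h3]
    have ht0 : 0 < t := Nat.pos_of_ne_zero (by rintro rfl; omega)
    by_cases h7 : t * |a + b| < (E.h * φ : ℕ)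
    · exact Or.inr (Or.inl (Good.dvd hG0 h5 ((gB.mul (g1 a ha')).mul
        ((Good.geom hp E.lp prim ht0 (by nlinarith only [hl1, hm, h3]) h7).mul (g1 b hb')))))
    have h8 := abs_add_le a b
    have ht0' : (0 : ℤ) < t := by exact_mod_cast ht0
    have hk : k = 0 := by
      by_contra hk
      apply h7
      rw [h6]
      push_cast
      have h9 : (1 : ℤ) ≤ k := by exact_mod_cast Nat.pos_of_ne_zero hk
      have h10 : (0 : ℤ) ≤ φ := by (clear * -; positivity)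
      calc (t : ℤ) * |a + b| < t * (2 * φ) := mul_lt_mul_of_pos_left (by omega) ht0'
        _ ≤ t * ((k + 1) * φ) := mul_le_mul_of_nonneg_left (by nlinarith only [h9]) ht0'.le
        _ = _ := by ring
    subst hk
    rw [zero_add, one_mul] at h6
    subst h6
    rw [lt_zero] at hb
    have h9 : (φ : ℤ) ≤ |a + b| := by
      push_cast at h7
      exact le_of_mul_le_mul_left (not_lt.1 h7) ht0'
    have h10 : (φ : ℤ) = E.f i + E.f (!i) := by rw [hφ, ← E.add i]; push_cast; rfl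
    have h11 : (Nat.card G : ℚ) = Nat.card D.P.B * (1 + (p : ℚ) ^ E.f i) *
        ((∑ s ∈ Finset.range E.h, ((p : ℚ) ^ φ) ^ s) * (1 + (p : ℚ) ^ E.f (!i))) := by
      rw [D.card_G' i E.hm, E.hq, E.hq, ← pow_add, E.add, ← hφ]
      push_cast
      rfl
    have hG0' : (Nat.card G : ℚ) ≠ 0 := Nat.cast_ne_zero.2 hG0
    rw [abs_le] at ha hb
    rcases le_abs'.1 h9 with h12 | h12
    · have e1 : a = -(E.f i : ℤ) := by omega
      have e2 : b = -(E.f (!i) : ℤ) := by omega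
      have e3 : a + b = -(φ : ℤ) := by omega
      refine Or.inr (Or.inr fun c hc => ?_)
      have h13 : (n : ℚ) = (p : ℚ) ^ (E.h * φ) := by
        obtain ⟨r, hr⟩ : ∃ r, E.h = r + 1 := ⟨E.h - 1, by omega⟩
        have h14 : (∑ s ∈ Finset.range E.h, ((p : ℚ) ^ (-(φ : ℤ))) ^ s) * ((p : ℚ) ^ φ) ^ r =
            ∑ s ∈ Finset.range E.h, ((p : ℚ) ^ φ) ^ s := by
          rw [Finset.sum_mul, ← Finset.sum_range_reflect]
          refine Finset.sum_congr rfl fun s hs => ?_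
          have hs := Finset.mem_range.1 hs
          obtain ⟨s', hs'⟩ : ∃ s', r = s + s' := ⟨r - s, by omega⟩
          rw [show E.h - 1 - s = s' by omega, hs', zpow_neg, zpow_natCast, pow_add, inv_pow]
          field_simp
        have h15 : (p : ℚ) ^ φ = (p : ℚ) ^ E.f i * (p : ℚ) ^ E.f (!i) := by rw [← pow_add, E.add, hφ]
        apply mul_right_cancel₀ hG0'
        nth_rewrite 1 [h11]
        rw [h5, e3, e1, e2, ← h14, mul_comm E.h, pow_mul, hr, pow_succ ((p : ℚ) ^ φ) r, zpow_neg, zpow_neg,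
          zpow_neg, zpow_natCast, zpow_natCast, zpow_natCast, h15]
        field_simp
        ring
      have h14 : n = p ^ (E.h * φ) := by exact_mod_cast h13
      rw [h14, hφ]
      exact E.p_dvd c hc
    · have e1 : a = (E.f i : ℤ) := by omega
      have e2 : b = (E.f (!i) : ℤ) := by omega
      have e3 : a + b = (φ : ℤ) := by omega
      left
      rw [e3, e1, e2, zpow_natCast, zpow_natCast, zpow_natCast, ← h11] at h5
      have h13 : (n : ℚ) = 1 := mul_right_cancel₀ hG0' (h5.symm.trans (one_mul _).symm)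
      exact_mod_cast h13
  · have h5 : (Nat.card G : ℚ) = n * (Nat.card D.P.B * (1 + (p : ℚ) ^ a) *
        (∑ s ∈ Finset.range (2 * t + 1), ((p : ℚ) ^ a) ^ s)) := by
      apply Rat.cast_injective (α := ℂ)
      push_cast
      have h6 := sum_period (fun s => ((p : ℂ) ^ a) ^ s) 2 ((p : ℂ) ^ a * p ^ a) (fun j => by ring) t 1
      rw [h4, h6, Finset.sum_range_succ _ 1, Finset.sum_range_one]
      ring
    have hk : 1 ≤ k := by
      by_contra hk
      have : k = 0 := by omega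
      subst this
      omega
    have h6 : 2 * t + 1 ≤ E.h := by nlinarith only [hm, h3, hk]
    refine Or.inr (Or.inl (Good.dvd hG0 h5 ((gB.mul (g1 a ha')).mul
      (Good.geom hp E.lp prim (by omega) (by omega) ?_))))
    have h7 : ((2 * t + 1 : ℕ) : ℤ) ≤ E.h := by exact_mod_cast h6
    have h8 : (0 : ℤ) < (2 * t + 1 : ℕ) := by (clear * -; positivity)
    calc ((2 * t + 1 : ℕ) : ℤ) * |a| < (2 * t + 1 : ℕ) * φ := mul_lt_mul_of_pos_left ha' h8
      _ ≤ E.h * φ := mul_le_mul_of_nonneg_right h7 (by (clear * -; positivity))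
      _ = _ := by push_cast; rfl

/-- the theorem, with the characters outside the principal series as a hypothesis -/
theorem van3_of_cusp (E : D.Num p l) (hperf : commutator G = ⊤) (i : Bool) {g g' : G} (hg : g ∈ D.Par i)
    (hell : ∀ y ∈ D.Par i, y⁻¹ * g * y ∉ D.P.B) (hfp : ∀ x ∈ D.V i, g * x = x * g → x = 1) (hg' : p ∣ orderOf g')
    (hc : ∀ (n : ℕ) (ρ : Representation ℂ G (Fin n → ℂ)), ρ.IsIrreducible → av ρ D.U = 0 →
      LinearMap.trace ℂ _ (ρ g * av ρ (D.V i)) ≠ 0 → ρ.character g' = 0 ∨ ∀ c, l ^ c ∣ Nat.card G → l ^ c ∣ n) :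
    Van3 G := by
  have hl : Fact l.Prime := ⟨E.hl⟩
  obtain ⟨z, hz⟩ := exists_prime_orderOf_dvd_card' (G := G) l E.l_dvd
  refine ⟨z, g, g', fun χ hχ h1 => ?_⟩
  have hχ' := hχ
  obtain ⟨n, ρ, hρ, rfl⟩ := hχ'
  have hd : ρ.character 1 = n := by rw [Representation.char_one, Module.finrank_fin_fun]
  by_cases h0 : ρ.character g = 0
  · exact Or.inr (Or.inl h0)
  by_cases hU : av ρ D.U = 0
  · rcases hc n ρ hρ hU (by
      rw [trace_fpf ρ (fun x hx => by
        have := D.ParV ((D.Par i).inv_mem hg) hx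
        rwa [inv_inv] at this) hfp]
      exact h0) with h | h
    · exact Or.inr (Or.inr h)
    · exact Or.inl (zero_of_dvd hχ E.hl hd h (by rw [hz]))
  · rcases ps_case E ρ i hU hg hell hfp h0 with h | h | h
    · exact absurd (H956.OZ.Ree.eq_one_of_perfect hperf hχ (by rw [hd, h, Nat.cast_one])) h1
    · exact Or.inl (zero_of_dvd hχ E.hl hd h (by rw [hz]))
    · exact Or.inr (Or.inr (zero_of_dvd hχ E.hp hd h hg'))

/-- **Rank two.** -/
theorem van3 (E : D.Num p l) (hperf : commutator G = ⊤) (i : Bool) {g g' : G} (hg : g ∈ D.Par i)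
    (hell : ∀ y ∈ D.Par i, y⁻¹ * g * y ∉ D.P.B) (hfp : ∀ x ∈ D.V i, g * x = x * g → x = 1) (hp : p ∣ orderOf g')
    (hg' : g' ∈ D.Par (!i)) (hfp' : ∀ x ∈ D.V (!i), g' * x = x * g' → x = 1) : Van3 G := by
  refine van3_of_cusp E hperf i hg hell hfp hp fun n ρ hρ hU ht => Or.inl ?_
  have h1 := cross_zero (ρ := ρ) ⟨E.h, by rw [E.hm, two_mul]⟩ i hU (by
    intro h
    rw [h, mul_zero, map_zero] at ht
    exact ht rfl)
  have h2 := trace_fpf ρ (fun x hx => by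
    have := D.ParV ((D.Par (!i)).inv_mem hg') hx
    rwa [inv_inv] at this) hfp'
  rw [h1, mul_zero, map_zero] at h2
  exact h2.symm

end R2

end Cfsg.Agent.VAN.Rk
end

-- part: VAN/Rk/Rgd
section
/-!
# S4942, rank two: the numerical data, and the datum of a root group datum of rank two (helper77)
-/

set_option autoImplicit false
set_option linter.unusedSectionVars false

namespace Cfsg.Agent.VAN.Rk

open Cfsg Cfsg.Agent.LieExceptional.BNPairCore

universe u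

namespace R2

variable {G : Type u} [Group G] (D : R2 G)

/-- powers of elements of `B` -/
theorem pow_mem_U {e : ℕ} (hT : ∀ t ∈ D.T, t ^ e = 1) {b : G} (hb : b ∈ D.P.B) : b ^ e ∈ D.U := by
  obtain ⟨t, ht, v, hv, rfl⟩ := D.mem_B' hb
  have key : ∀ k : ℕ, ∃ u ∈ D.U, (t * v) ^ k = t ^ k * u := by
    intro k
    induction k with
    | zero => exact ⟨1, one_mem _, by simp⟩
    | succ k ih =>
      obtain ⟨u, hu, e⟩ := ih
      refine ⟨(t⁻¹ * u * t) * v, mul_mem (D.TU' ht hu) hv, ?_⟩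
      rw [pow_succ, e, pow_succ]
      group
  obtain ⟨u, hu, e⟩ := key e
  rw [e, hT t ht, one_mul]
  exact hu

/-- the orders of the elements of `B` -/
theorem exists_pow_eq_one {p e : ℕ} (hU : IsPGroup p D.U) (hT : ∀ t ∈ D.T, t ^ e = 1) {b : G} (hb : b ∈ D.P.B) :
    ∃ k, b ^ (e * p ^ k) = 1 := by
  obtain ⟨k, hk⟩ := hU ⟨_, D.pow_mem_U hT hb⟩
  exact ⟨k, by rw [pow_mul]; exact congrArg Subtype.val hk⟩

/-- ellipticity from the order -/
theorem ell_of_order {p e : ℕ} (hU : IsPGroup p D.U) (hT : ∀ t ∈ D.T, t ^ e = 1) {g : G}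
    (hg : ∀ k, ¬ orderOf g ∣ e * p ^ k) (y : G) : y⁻¹ * g * y ∉ D.P.B := by
  intro h
  obtain ⟨k, hk⟩ := D.exists_pow_eq_one hU hT h
  apply hg k
  apply orderOf_dvd_of_pow_eq_one
  have h1 : (y⁻¹ * g * y⁻¹⁻¹) ^ (e * p ^ k) = 1 := by rwa [inv_inv]
  rw [conj_pow, mul_inv_eq_one, mul_eq_left] at h1
  exact h1

/-- **the numerical data exist** -/
theorem exists_num [Finite G] {p h k c : ℕ} (f : Bool → ℕ) (hp : p.Prime) (hm : D.m = 2 * h) (h2 : 2 ≤ h)
    (hf : ∀ i, 0 < f i) (hq : ∀ i, D.q i = p ^ f i) (hU : IsPGroup p D.U) (hT : ∀ t ∈ D.T, t ^ (p ^ k - 1) = 1)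
    (hk0 : 0 < k) (hk : k < h * (f true + f false)) (hG : Nat.card G = p ^ (h * (f true + f false)) * c)
    (hc : ¬ p ∣ c) (h6 : ¬ (p = 2 ∧ h * (f true + f false) = 6)) : ∃ l, Nonempty (D.Num p l) := by
  have hN : 2 * h ≤ h * (f true + f false) := by
    have := hf true
    have := hf false
    nlinarith
  obtain ⟨l, hl, h1, h3, h4⟩ := Lib.Zsigmondy.exists_primitive (a := p) (n := h * (f true + f false)) hp.two_le
    (by omega) (by omega) h6
  have prim : ∀ k, 0 < k → k < h * (f true + f false) → ¬ l ∣ p ^ k - 1 := fun k a b hd =>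
    absurd (Nat.le_of_dvd a ((h1 k).1 hd)) (by omega)
  have hpq : ∀ i, p ∣ D.q i := fun i => by rw [hq]; exact dvd_pow_self p (hf i).ne'
  have hI : ¬ p ∣ (1 + D.q true) * ((∑ s ∈ Finset.range h, (D.q true * D.q (!true)) ^ s) * (1 + D.q (!true))) := by
    have a1 : ∀ i, ¬ p ∣ 1 + D.q i := fun i hd =>
      hp.one_lt.ne' (Nat.dvd_one.1 ((Nat.dvd_add_left (hpq i)).1 hd))
    intro hd
    rcases hp.dvd_mul.1 hd with hd | hd
    · exact a1 _ hd
    rcases hp.dvd_mul.1 hd with hd | hd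
    · obtain ⟨j, rfl⟩ : ∃ j, h = j + 1 := ⟨h - 1, by omega⟩
      rw [Finset.sum_range_succ', pow_zero] at hd
      refine hp.one_lt.ne' (Nat.dvd_one.1 ((Nat.dvd_add_right ?_).1 hd))
      exact Finset.dvd_sum fun s _ => ((hpq true).mul_right _).trans (dvd_pow_self _ (by omega))
    · exact a1 _ hd
  have hcG := D.card_G' true hm
  rw [mul_assoc] at hcG
  have hd : p ^ (h * (f true + f false)) ∣ Nat.card D.P.B :=
    (Nat.Coprime.pow_left _ (hp.coprime_iff_not_dvd.2 hI)).dvd_of_dvd_mul_right (by rw [← hcG, hG]; exact dvd_mul_right _ _)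
  obtain ⟨b, hb⟩ := hd
  refine ⟨l, ⟨⟨f, h, b, hp, hl, hm, h2, hf, hq, hb, fun hd => hc ?_, fun hd => ?_, ?_, (h1 _).2 dvd_rfl, prim⟩⟩⟩
  · rw [hb, hG, mul_assoc] at hcG
    rw [Nat.eq_of_mul_eq_mul_left (pow_pos hp.pos _) hcG]
    exact hd.mul_right _
  · have : Fact l.Prime := ⟨hl⟩
    obtain ⟨x, hx⟩ := exists_prime_orderOf_dvd_card' (G := D.P.B) l (by rw [hb]; exact hd.mul_left _)
    obtain ⟨j, hj⟩ := D.exists_pow_eq_one hU hT x.2
    have h5 := orderOf_dvd_of_pow_eq_one hj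
    rw [Subgroup.orderOf_coe, hx] at h5
    rcases hl.dvd_mul.1 h5 with h5 | h5
    · exact prim k hk0 hk h5
    · exact h4 (hl.dvd_of_dvd_pow h5)
  · have h5 := Nat.le_of_dvd (by have := hl.two_le; omega) h3
    omega

end R2

open CoxeterSystem Cfsg.Agent.ChevalleyStructure.CoxeterGeom Cfsg.Agent.Tits.Roots Cfsg.Agent.Tits.Core
  Cfsg.Agent.Nodes.Reps Cfsg.Agent.Nodes.BNOf Cfsg.Agent.Nodes.StabComb
  Cfsg.Agent.Nodes.Bruhat Cfsg.Agent.Nodes.LeviDec
open Cfsg.Agent.H985.VZ (gu ua rp_gu pos_ua ua_M mem_WJ_single Free Ell)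

variable {I W : Type*} {Y : Type u} [Fintype I] [DecidableEq I] [Group W] [Group Y] {M : CoxeterMatrix I}
  {cs : CoxeterSystem M W} {A : I → I → ℤ} {h : IsCartan M A} {p : ℕ} {T : Subgroup Y} {n : I → Y}
  {X : (I → ℤ) → Subgroup Y}

/-- A root group datum of rank two. -/
structure Two (cs : CoxeterSystem M W) (h : IsCartan M A) (p : ℕ) (T : Subgroup Y) (n : I → Y)
    (X : (I → ℤ) → Subgroup Y) (ι : Bool → I) : Prop where
  R : RGD cs h p T n X
  inj : ι true ≠ ι false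
  surj : ∀ i, i = ι true ∨ i = ι false
  top : GG cs h T X = ⊤
  comm : ∀ s ∈ T, ∀ t ∈ T, s * t = t * s
  pos : 0 < M (ι true) (ι false)

theorem notJ_single (i : I) : NotJ cs h {i} = RGD.PosNe cs h i := by
  ext x
  constructor
  · rintro ⟨h1, h2, k, hk, hk0⟩
    refine ⟨h1, h2, fun e => ?_⟩
    rw [e] at hk0
    have : sr i k = 0 := by
      unfold sr
      exact Pi.single_eq_of_ne hk 1
    omega
  · rintro ⟨h1, h2, h3⟩
    obtain ⟨k, hk, hk0⟩ := RGD.exists_coeff h1 h2 h3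
    exact ⟨h1, h2, k, hk, hk0⟩

theorem alt_eq_gu (ι : Bool → I) (i : Bool) (j : ℕ) :
    alt (fun i => n (ι i)) i j = gu n (ι (!(lt i j))) (ι (lt i j)) j := by
  induction j with
  | zero => rfl
  | succ j ih => rw [alt_succ, ih, lt_succ, Bool.not_not]; rfl

namespace Two

variable {ι : Bool → I} (H : Two cs h p T n X ι) [Finite W] [Finite Y]

include H

theorem ne (i : Bool) : ι i ≠ ι (!i) := by
  cases i
  · exact H.inj.symm
  · exact H.inj

theorem M_eq (i : Bool) : M (ι i) (ι (!i)) = M (ι true) (ι false) := by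
  cases i
  · exact M.symmetric _ _
  · rfl

theorem gen : RGD.B cs h T X ⊔ NN cs H.R.nsys = ⊤ := by
  rw [← top_le_iff, ← H.top]
  exact sup_le (RGD.T_le_B.trans le_sup_left) (Nodes.RGDLib.rgd_G1_le H.R)

/-- the datum -/
noncomputable def r2 : R2 Y where
  P := H.R.bnPair H.gen
  U := RGD.Sup X (RGD.Pos cs h)
  T := T
  X i := X (sr (ι i))
  V i := VJ cs h X {ι i}
  n i := n (ι i)
  m := M (ι true) (ι false)
  mem_B g := by
    constructor
    · intro hg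
      obtain ⟨t, ht, u, hu, rfl⟩ := H.R.mem_B.1 hg
      exact ⟨t * u * t⁻¹, (Subgroup.mem_normalizer_iff.1 (H.R.T_le_normalizer_U ht) u).1 hu, t, ht, by group⟩
    · rintro ⟨u, hu, t, ht, rfl⟩
      exact mul_mem (RGD.U_le_B hu) (RGD.T_le_B ht)
  S_eq := by
    ext g
    constructor
    · rintro ⟨i, rfl⟩
      rcases H.surj i with rfl | rfl
      · exact ⟨true, rfl⟩
      · exact ⟨false, rfl⟩
    · rintro ⟨i, rfl⟩
      exact ⟨ι i, rfl⟩
  TN := fun t ht => ⟨1, rp_of_mem ht⟩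
  BN := fun g h1 h2 => by
    rw [← H.R.B_inf_NN]
    exact ⟨h1, h2⟩
  comm := H.comm
  TU := fun t ht u hu => (Subgroup.mem_normalizer_iff.1 (H.R.T_le_normalizer_U ht) u).1 hu
  XU := fun i => RGD.le_Sup (S := RGD.Pos cs h) ⟨isRoot_sr cs h _, sr_nonneg _⟩
  VU := fun i => VJ_le_U _
  dec := fun i u hu => by
    have h1 : u⁻¹ ∈ ((X (sr (ι i)) ⊔ RGD.Sup X (RGD.PosNe cs h (ι i)) : Subgroup Y) : Set Y) := by
      rw [← H.R.Upos_eq]
      exact inv_mem hu
    rw [Subgroup.coe_mul_of_left_le_normalizer_right _ _ (H.R.X_le_normalizer_V (ι i)), Set.mem_mul] at h1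
    obtain ⟨x, hx, v, hv, e⟩ := h1
    refine ⟨v⁻¹, ?_, x⁻¹, inv_mem hx, by rw [← mul_inv_rev, e, inv_inv]⟩
    unfold VJ
    rw [notJ_single]
    exact inv_mem hv
  UV := fun i u hu v hv =>
    (Subgroup.mem_normalizer_iff.1 (PJ_le_normalizer_VJ H.R _ (B_le_PJ (RGD.U_le_B hu))) v).1 hv
  nV := fun i v hv => by
    unfold VJ at hv
    rw [notJ_single] at hv
    have h1 := conj_mem_cj (g := n (ι i)).2 hv
    rw [H.R.cj_n_V, ← notJ_single] at h1
    exact VJ_le_U _ h1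
  rk1 := fun i x hx h1 => by
    have h2 := H.R.conj_mem' (rp_simple cs H.R.nsys (ι i)) (isRoot_sr cs h (ι i)) hx
    rw [cs.inv_simple, rep_simple_sr] at h2
    obtain ⟨a, ha, t, ht, b, hb, e⟩ := H.R.rk1 _ _ h2 (fun e => h1 (by
      have : x = n (ι i) * ((n (ι i))⁻¹ * x * n (ι i)) * (n (ι i))⁻¹ := by group
      rw [this, e]
      group))
    have hX : X (sr (ι i)) ≤ RGD.Sup X (RGD.Pos cs h) := RGD.le_Sup (S := RGD.Pos cs h) ⟨isRoot_sr cs h _, sr_nonneg _⟩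
    exact ⟨a, hX ha, t, ht, b, hX hb, e⟩
  rk1' := fun i x hx h1 => by
    have h2 := H.R.conj_mem (rp_simple cs H.R.nsys (ι i)) (isRoot_sr cs h (ι i)) hx
    rw [rep_simple_sr] at h2
    obtain ⟨a, ha, t, ht, b, hb, e⟩ := H.R.rk1 _ _ h2 (fun e => h1 (by
      have : x = (n (ι i))⁻¹ * (n (ι i) * x * (n (ι i))⁻¹) * n (ι i) := by group
      rw [this, e]
      group))
    have hX : X (sr (ι i)) ≤ RGD.Sup X (RGD.Pos cs h) := RGD.le_Sup (S := RGD.Pos cs h) ⟨isRoot_sr cs h _, sr_nonneg _⟩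
    exact ⟨a, hX ha, t, ht, b, hX hb, e⟩
  m_pos := H.pos
  red := fun i j hj x hx => by
    rw [alt_eq_gu]
    have h1 := H.R.conj_mem' (rp_gu H.R (ι (!(lt i j))) (ι (lt i j)) j) (isRoot_sr cs h _) hx
    exact RGD.le_Sup (S := RGD.Pos cs h) ⟨(isRoot_sr cs h _).act _,
      pos_ua H.R (H.ne (lt i j)) (by rw [H.M_eq]; exact hj)⟩ h1
  braid := by
    rw [alt_eq_gu, alt_eq_gu, show false = !true from rfl, lt_not, Bool.not_not]
    have h1 := rp_gu H.R (ι (!(lt true (M (ι true) (ι false))))) (ι (lt true (M (ι true) (ι false)))) (M (ι true) (ι false))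
    have h2 := rp_gu H.R (ι (lt true (M (ι true) (ι false)))) (ι (!(lt true (M (ι true) (ι false))))) (M (ι true) (ι false))
    have h3 := ua_M cs (ι (lt true (M (ι true) (ι false)))) (ι (!(lt true (M (ι true) (ι false)))))
    rw [H.M_eq] at h3
    rw [h3] at h2
    exact h1.unique h2

theorem Par_eq (i : Bool) : H.r2.Par i = PJ cs h T X {ι i} := by
  ext g
  rw [R2.mem_Par, mem_PJ_iff_cell H.R]
  constructor
  · rintro (hg | hg)
    · exact ⟨1, one_mem _, cell_one_of_mem hg⟩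
    · obtain ⟨x, hx, y, hy, rfl⟩ := mem_C.1 hg
      exact ⟨cs.simple (ι i), Subgroup.subset_closure ⟨ι i, rfl, rfl⟩, x, hx, _, rp_simple cs H.R.nsys _, y, hy, rfl⟩
  · rintro ⟨w, hw, hc⟩
    rcases mem_WJ_single hw with rfl | rfl
    · exact Or.inl hc.mem_of_one
    · obtain ⟨x, hx, k, hk, y, hy, rfl⟩ := hc
      refine Or.inr (mem_C.2 ⟨x, hx, (n (ι i))⁻¹ * k * y,
        mul_mem (RGD.T_le_B ((rp_simple cs H.R.nsys _).unique hk)) hy, ?_⟩)
      show _ = x * n (ι i) * _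
      group

theorem mem_Par {i : Bool} {g : Y} (hg : g ∈ LJ cs h T X {ι i}) : g ∈ H.r2.Par i := by
  rw [H.Par_eq]
  exact LJ_le_PJ hg

theorem ell {i : Bool} {g : Y} (hg : Ell cs h T X {ι i} g) : ∀ y ∈ H.r2.Par i, y⁻¹ * g * y ∉ H.r2.P.B := by
  intro y hy hB
  rw [H.Par_eq] at hy
  exact hg.not_mem H.R (K := ∅) (Set.empty_ssubset.2 (Set.singleton_nonempty _)) hy (B_le_PJ hB)

theorem isPGroup : IsPGroup p H.r2.U := H.R.isPGroup_Upos

end Two

end Cfsg.Agent.VAN.Rk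
end

private theorem dce_64f0aeb3d861 : _root_.True := by
  try have : _root_.True := by simp only [_root_.Cfsg.Agent.VAN.Rk.R2.q.eq_1]
  try have : _root_.True := by simp only [_root_.Cfsg.Agent.VAN.Rk.R2.Pth.congr_simp]
  try have : _root_.True := by simp only [_root_.Cfsg.Agent.VAN.Rk.av.eq_1]
  try have : _root_.True := by simp only [_root_.Cfsg.Agent.VAN.Rk.lt.eq_def]
  try have : _root_.True := by simp only [_root_.Cfsg.Agent.VAN.Rk.R2.eps.eq_1]
  try have : _root_.True := by simp only [_root_.Cfsg.Agent.VAN.Rk.av.congr_simp]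
  try have : _root_.True := by simp only [_root_.Cfsg.Agent.VAN.Rk.R2.Pth.eq_def]
  try have : _root_.True := by simp only [_root_.Cfsg.Agent.VAN.Rk.R2.A.congr_simp]
  try have : _root_.True := by simp only [_root_.Cfsg.Agent.VAN.Rk.R2.A.eq_1]
  try have : _root_.True := by simp only [_root_.Cfsg.Agent.VAN.Rk.alt.eq_def]
  exact _root_.True.intro
end

-- part: VAN/Rk/Chev
section
prune_inst 0x2444010000000000000240004000400001000040000000020200020000220902a800040001120000000000040000001000200000000000800000000001000000000001000000000080000000600000000000000000000000000000000000000000000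
set_option linter.all false
open scoped Cfsg.Agent.FastGrp

-- part: VAN/Rk/Cusp
section
/-!
# S4942, rank two: the characters with cuspidal support in a Levi subgroup of rank one (helper77)
-/

set_option autoImplicit false

namespace Cfsg.Agent.VAN.Rk

open Module Cfsg Cfsg.Agent.LieExceptional.BNPairCore Cfsg.Agent.Characters

universe u

/-- a rational number `x` with `p ^ e (x - 1)² / x` integral -/
theorem rat_pow {x : ℚ} {p e : ℕ} (hp : p.Prime) {z : ℤ} (hz : z * x = (p : ℚ) ^ e * (x - 1) ^ 2) :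
    ∃ j : ℤ, |j| ≤ e ∧ (x = (p : ℚ) ^ j ∨ x = -(p : ℚ) ^ j) := by
  have hb : (x.den : ℚ) ≠ 0 := Nat.cast_ne_zero.2 x.den_nz
  have hx : x = x.num / x.den := (Rat.num_div_den x).symm
  have h1 : z * (x.num * x.den) = (p : ℤ) ^ e * (x.num - x.den) ^ 2 := by
    have h2 : (z : ℚ) * (x.num * x.den) = (p : ℚ) ^ e * (x.num - x.den) ^ 2 := by
      have h3 : (x.num : ℚ) = x * x.den := by rw [Rat.mul_den_eq_num]
      rw [h3]
      linear_combination (x.den : ℚ) ^ 2 * hz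
    exact_mod_cast h2
  have hc : IsCoprime x.num (x.den : ℤ) := Int.isCoprime_iff_gcd_eq_one.2 x.reduced
  have hc1 : IsCoprime x.num (x.num - x.den) := by
    have := hc.neg_right.add_mul_left_right 1
    rwa [mul_one, neg_add_eq_sub] at this
  have hc2 : IsCoprime (x.den : ℤ) (x.num - x.den) := by
    have := hc.symm.add_mul_left_right (-1)
    rwa [mul_neg_one, ← sub_eq_add_neg] at this
  have h4 : x.num * x.den ∣ (p : ℤ) ^ e :=
    ((hc1.mul_left hc2).pow_right (n := 2)).dvd_of_dvd_mul_right ⟨z, by rw [← h1, mul_comm]⟩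
  have h5 : x.num.natAbs * x.den ∣ p ^ e := by
    have := Int.natAbs_dvd_natAbs.2 h4
    rwa [Int.natAbs_mul, Int.natAbs_natCast, Int.natAbs_pow, Int.natAbs_natCast] at this
  obtain ⟨s, hs, es⟩ := (Nat.dvd_prime_pow hp).1 ((dvd_mul_right _ _).trans h5)
  obtain ⟨t, ht, et⟩ := (Nat.dvd_prime_pow hp).1 ((dvd_mul_left _ _).trans h5)
  have hp0 : (p : ℚ) ≠ 0 := Nat.cast_ne_zero.2 hp.ne_zero
  refine ⟨(s : ℤ) - t, by rw [abs_le]; constructor <;> omega, ?_⟩
  rw [zpow_sub₀ hp0, zpow_natCast, zpow_natCast]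
  rcases Int.natAbs_eq x.num with h | h
  · left
    rw [hx, h, es, et]
    push_cast
    rfl
  · right
    rw [hx, h, es, et]
    push_cast
    rw [neg_div]

/-- eigenvalues of sums of group elements -/
theorem eig_sum {G : Type u} [Group G] [Finite G] {V : Type} [AddCommGroup V] [Module ℂ V]
    (ρ : Representation ℂ G V) {A : Module.End ℂ V} (hA : A ∈ Submodule.span ℤ (Set.range ρ)) {v : V} (hv : v ≠ 0)
    {c : ℂ} (h : A v = c • v) : IsIntegral ℤ c := by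
  have h1 : (Algebra.adjoin ℤ (Set.range ρ)).toSubmodule = Submodule.span ℤ (Set.range ρ) := by
    rw [Algebra.adjoin_eq_span]
    congr 1
    exact congrArg _ (Submonoid.closure_eq (MonoidHom.mrange ρ))
  have h2 : IsIntegral ℤ A := IsIntegral.of_mem_of_fg (Algebra.adjoin ℤ (Set.range ρ))
    (by rw [h1]; exact Submodule.fg_span (Set.finite_range _)) A (by
      rw [← Subalgebra.mem_toSubmodule, h1]
      exact hA)
  obtain ⟨f, hf, h3⟩ := h2
  refine ⟨f, hf, ?_⟩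
  have h4 := Module.End.aeval_apply_of_hasEigenvector (f := A) (p := f.map (algebraMap ℤ ℂ)) (μ := c) (x := v)
    ⟨Module.End.mem_eigenspace_iff.2 h, hv⟩
  rw [Polynomial.aeval_map_algebraMap, Polynomial.aeval_def, h3, LinearMap.zero_apply, Polynomial.eval_map] at h4
  exact (smul_eq_zero.1 h4.symm).resolve_right hv

namespace R2

variable {G : Type u} [Group G] (D : R2 G)

/-- the element normalising the Levi subgroup -/
def n0 (i : Bool) : G := alt D.n (!i) (D.m - 1)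

/-- a Levi subgroup -/
def Lv (i : Bool) : Subgroup G := D.Par i ⊓ (D.Par i).comap (MulAut.conj (D.n0 i)).toMonoidHom

theorem mem_Lv {i : Bool} {l : G} : l ∈ D.Lv i ↔ l ∈ D.Par i ∧ D.n0 i * l * (D.n0 i)⁻¹ ∈ D.Par i := Iff.rfl

theorem n0N (i : Bool) : D.n0 i ∈ D.P.N := D.altN _ _

theorem T_le_Lv (i : Bool) : D.T ≤ D.Lv i := fun _ ht =>
  ⟨D.B_le_Par i (D.TB ht), D.B_le_Par i (D.TB (D.NT' (D.n0N i) ht))⟩

theorem X_le_Lv (i : Bool) : D.X i ≤ D.Lv i := fun _ hx =>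
  ⟨D.B_le_Par i (D.UB (D.XU i hx)), D.B_le_Par i (D.UB (D.red' i (by have := D.m_pos; omega) hx))⟩

theorem odd_pred (hm : Even D.m) : Odd (D.m - 1) := Nat.Even.sub_odd D.m_pos hm odd_one

theorem n_mem_Lv (hm : Even D.m) (i : Bool) : D.n i ∈ D.Lv i := by
  refine ⟨D.n_mem_Par i, ?_⟩
  have h1 := D.braid' i
  have e : D.m = D.m - 1 + 1 := by have := D.m_pos; omega
  rw [e, alt_succ', alt_succ, lt_odd _ (D.odd_pred hm), Bool.not_not] at h1
  have h2 := D.NT' (D.n0N i) (D.T.inv_mem h1)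
  show D.n0 i * D.n i * (D.n0 i)⁻¹ ∈ D.Par i
  have h3 : D.n0 i * D.n i * (D.n0 i)⁻¹ =
      D.n i * (D.n0 i * ((D.n0 i * D.n i)⁻¹ * (D.n i * D.n0 i))⁻¹ * (D.n0 i)⁻¹) := by group
  rw [h3]
  exact mul_mem (D.n_mem_Par i) (D.B_le_Par i (D.TB h2))

theorem Par_form (hm : Even D.m) {i : Bool} {y : G} (hy : y ∈ D.Par i) : ∃ l ∈ D.Lv i, ∃ v ∈ D.V i, y = l * v := by
  have hB : ∀ b ∈ D.P.B, ∃ l ∈ D.Lv i, ∃ v ∈ D.V i, b = l * v := by
    intro b hb
    obtain ⟨t, ht, u, hu, rfl⟩ := D.mem_B' hb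
    obtain ⟨x, hx, v, hv, rfl⟩ := D.dec' i hu
    exact ⟨t * x, mul_mem (D.T_le_Lv i ht) (D.X_le_Lv i hx), v, hv, by group⟩
  rcases hy with hy | hy
  · exact hB y hy
  · obtain ⟨a, ha, b, hb, rfl⟩ := mem_C.1 hy
    obtain ⟨l, hl, v, hv, rfl⟩ := hB a ha
    obtain ⟨l', hl', v', hv', rfl⟩ := hB b hb
    refine ⟨l * D.n i * l', mul_mem (mul_mem hl (D.n_mem_Lv hm i)) hl', (D.n i * l')⁻¹ * v * (D.n i * l')⁻¹⁻¹ * v',
      mul_mem (D.ParV (inv_mem (mul_mem (D.n_mem_Par i) hl'.1)) hv) hv', by group⟩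

theorem n0_inv (hm : Even D.m) (i : Bool) : ∃ t ∈ D.T, (D.n0 i)⁻¹ = D.n0 i * t := by
  obtain ⟨t, ht, e⟩ := D.alt_inv (!i) (D.m - 1)
  rw [show D.m - 1 + 1 = D.m by have := D.m_pos; omega, lt_even _ hm] at e
  exact ⟨t, ht, e⟩

theorem Lv_conj (hm : Even D.m) {i : Bool} {l : G} (hl : l ∈ D.Lv i) : (D.n0 i)⁻¹ * l * D.n0 i ∈ D.Lv i := by
  obtain ⟨t, ht, e⟩ := D.n0_inv hm i
  refine ⟨?_, ?_⟩
  · have h1 := (mul_mem (mul_mem (D.T_le_Lv i ht) hl) (inv_mem (D.T_le_Lv i ht))).2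
    have h2 : (D.n0 i)⁻¹ * l * D.n0 i = D.n0 i * (t * l * t⁻¹) * (D.n0 i)⁻¹ := by
      calc (D.n0 i)⁻¹ * l * D.n0 i = (D.n0 i)⁻¹ * l * ((D.n0 i)⁻¹)⁻¹ := by rw [inv_inv]
        _ = (D.n0 i * t) * l * (D.n0 i * t)⁻¹ := by rw [← e]
        _ = _ := by group
    rw [h2]
    exact h1
  · show D.n0 i * ((D.n0 i)⁻¹ * l * D.n0 i) * (D.n0 i)⁻¹ ∈ D.Par i
    rw [show D.n0 i * ((D.n0 i)⁻¹ * l * D.n0 i) * (D.n0 i)⁻¹ = l by group]
    exact hl.1

variable [Finite G]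

/-- the big double coset -/
theorem inj_V (hm : Even D.m) (i : Bool) (hV : Nat.card (D.V i) = D.Q (!i) (D.m - 1)) {v : G} (hv : v ∈ D.V i)
    (h : (D.n0 i)⁻¹ * v * D.n0 i ∈ D.Par i) : v = 1 := by
  have hm0 := D.m_pos
  let f : D.V i × D.Par i → G := fun a => a.1 * D.n0 i * a.2
  have e : D.rp i (D.m - 1, true) = D.n0 i * D.n i := by rw [rp_true, alt_succ']; rfl
  have key : ∀ b ∈ D.P.B, ∃ v ∈ D.V i, ∃ y ∈ D.P.B, b * D.n0 i = v * D.n0 i * y := by
    intro b hb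
    obtain ⟨u, hu, t, ht, rfl⟩ := (D.mem_B b).1 hb
    obtain ⟨v, hv, x, hx, rfl⟩ := D.dec i u hu
    refine ⟨v, hv, (D.n0 i)⁻¹ * x * D.n0 i * ((D.n0 i)⁻¹ * t * D.n0 i), mul_mem (D.UB ?_) (D.TB (D.NT (D.n0N i) ht)),
      by group⟩
    exact D.red (!i) (D.m - 1) (by omega) x (by rwa [lt_odd _ (D.odd_pred hm), Bool.not_not])
  have h1 : C D.P (D.rp i (D.m - 1, false)) ∪ C D.P (D.rp i (D.m - 1, true)) ⊆ Set.range f := by
    rintro g (hg | hg)
    · obtain ⟨a, ha, b, hb, rfl⟩ := mem_C.1 hg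
      obtain ⟨v, hv, y, hy, e1⟩ := key a ha
      exact ⟨(⟨v, hv⟩, ⟨y * b, D.B_le_Par i (mul_mem hy hb)⟩), by
        show v * D.n0 i * (y * b) = _
        rw [← mul_assoc, ← e1]; rfl⟩
    · rw [e] at hg
      obtain ⟨a, ha, b, hb, rfl⟩ := mem_C.1 hg
      obtain ⟨v, hv, y, hy, e1⟩ := key a ha
      exact ⟨(⟨v, hv⟩, ⟨y * D.n i * b, mul_mem (mul_mem (D.B_le_Par i hy) (D.n_mem_Par i)) (D.B_le_Par i hb)⟩), by
        show v * D.n0 i * (y * D.n i * b) = _
        rw [← mul_assoc, ← mul_assoc, ← mul_assoc, ← e1]⟩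
  have h2 : Disjoint (C D.P (D.rp i (D.m - 1, false))) (C D.P (D.rp i (D.m - 1, true))) := by
    rw [Set.disjoint_left]
    intro g a b
    have := D.rp_inj i (a := (D.m - 1, false)) (b := (D.m - 1, true)) (by show D.m - 1 < _; omega)
      (by show D.m - 1 < _; omega) (C_eq_of_mem_mem a b)
    simp at this
  have h3 := Set.ncard_le_ncard h1 (Set.toFinite _)
  rw [Set.ncard_union_eq h2 (Set.toFinite _) (Set.toFinite _), ← Nat.card_coe_set_eq, ← Nat.card_coe_set_eq,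
    ← Nat.card_coe_set_eq, rp_true, rp_false, D.card_C_alt _ (by omega), D.card_C_alt _ (by omega), Q_succ'] at h3
  have h4 := (Set.rangeFactorization_surjective (f := f)).bijective_of_nat_card_le (by
    rw [Nat.card_prod, hV, D.card_Par]
    refine le_trans (le_of_eq ?_) h3
    ring)
  have h5 : (⟨⟨v, hv⟩, 1⟩ : D.V i × D.Par i) = ⟨1, ⟨_, h⟩⟩ := h4.1 (Subtype.ext (by
    show v * D.n0 i * 1 = 1 * D.n0 i * ((D.n0 i)⁻¹ * v * D.n0 i)
    group))
  exact congrArg (fun a : D.V i × D.Par i => (a.1 : G)) h5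

/-- the order of the unipotent radicals -/
theorem Num.card_V {p l : ℕ} {D : R2 G} (E : D.Num p l) (hU : IsPGroup p D.U) (hT : ¬ p ∣ Nat.card D.T) (i : Bool) :
    Nat.card (D.V i) = D.Q (!i) (D.m - 1) ∧ Nat.card (D.V i) = p ^ (E.h * (E.f true + E.f false) - E.f i) := by
  have hp : Fact p.Prime := ⟨E.hp⟩
  have h1 : Nat.card D.U = Nat.card (D.V i) * D.q i :=
    Nodes.CardSup.card_mul_of_disjoint (D.VU i) (D.XU i) (D.dec i) (by
      rw [eq_bot_iff]
      exact fun x hx => D.eq_one_of_conj' hx.2 (D.UB (D.nV i x hx.1)))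
  have h2 : Nat.card D.P.B = Nat.card D.U * Nat.card D.T :=
    Nodes.CardSup.card_mul_of_disjoint D.UB D.TB (fun g hg => (D.mem_B g).1 hg) (by
      rw [eq_bot_iff]
      intro x hx
      obtain ⟨k, hk⟩ := hU ⟨x, hx.1⟩
      have a1 : orderOf x ∣ p ^ k := orderOf_dvd_of_pow_eq_one (congrArg Subtype.val hk)
      have a2 : orderOf x ∣ Nat.card D.T := by
        have := orderOf_dvd_natCard (⟨x, hx.2⟩ : D.T)
        rwa [Subgroup.orderOf_mk] at this
      exact orderOf_eq_one_iff.1 (Nat.eq_one_of_dvd_coprimes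
        (Nat.Coprime.pow_left k (E.hp.coprime_iff_not_dvd.2 hT)) a1 a2))
  obtain ⟨a, ha⟩ := IsPGroup.iff_card.1 hU
  have h3 : a = E.h * (E.f true + E.f false) := by
    have h4 := E.hB
    rw [h2, ha] at h4
    have h5 := congrArg (padicValNat p) h4
    rw [padicValNat.mul (pow_ne_zero _ E.hp.ne_zero) Nat.card_pos.ne', padicValNat.mul (pow_ne_zero _ E.hp.ne_zero)
      (fun h : E.b = 0 => E.pb (h ▸ dvd_zero p)), padicValNat.prime_pow, padicValNat.prime_pow,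
      padicValNat.eq_zero_of_not_dvd hT, padicValNat.eq_zero_of_not_dvd E.pb] at h5
    exact h5
  have hq0 : 0 < D.q i := Nat.card_pos
  have h6 : ∀ k, D.Q i (2 * k) = p ^ (k * (E.f true + E.f false)) := by
    intro k
    induction k with
    | zero => rw [mul_zero, Q_zero, zero_mul, pow_zero]
    | succ k ih =>
      rw [show 2 * (k + 1) = 2 * k + 1 + 1 by ring, Q_succ, Q_succ, ih, lt_succ, lt_even i (even_two_mul k), E.hq, E.hq,
        ← pow_add, ← pow_add, ← E.add i]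
      congr 1
      ring
  have h7 : D.Q (!i) (D.m - 1) * D.q i = p ^ a := by
    rw [← Q_succ', show D.m - 1 + 1 = D.m by have := D.m_pos; omega, E.hm, h6, h3]
  refine ⟨Nat.eq_of_mul_eq_mul_right hq0 (by rw [← h1, ha, h7]), Nat.eq_of_mul_eq_mul_right hq0 ?_⟩
  rw [← h1, ha, h3, E.hq, ← pow_add]
  congr 1
  have := E.add i
  have := E.h2
  have : E.f true + E.f false ≤ E.h * (E.f true + E.f false) := Nat.le_mul_of_pos_left _ (by omega)
  omega

variable {D} {V : Type} [AddCommGroup V] [Module ℂ V] (ρ : Representation ℂ G V)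

theorem mid_zero (i : Bool) (hU : av ρ D.U = 0) {j : ℕ} (h0 : j ≠ 0) (hj : j + 1 < D.m) :
    av ρ (D.V i) * ρ (alt D.n (!i) j) * av ρ (D.V i) = 0 := by
  have hodd : ∀ j, Odd j → j + 1 < D.m → av ρ (D.V i) * ρ (alt D.n (!i) j) * av ρ (D.V i) = 0 := by
    intro j ho hj
    have h2 : av ρ (D.V i) * ρ (alt D.n (!i) j) * av ρ (D.X i) = av ρ (D.V i) * ρ (alt D.n (!i) j) :=
      mul_av_of ρ fun x hx => by
        have h3 : alt D.n (!i) j * x * (alt D.n (!i) j)⁻¹ ∈ D.V i := by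
          refine D.mem_V (D.red' i (by omega) hx) ?_
          have h4 := D.red' i hj hx
          rw [alt_succ, lt_odd _ ho, Bool.not_not] at h4
          rwa [show D.n i * (alt D.n (!i) j * x * (alt D.n (!i) j)⁻¹) * (D.n i)⁻¹ =
            D.n i * alt D.n (!i) j * x * (D.n i * alt D.n (!i) j)⁻¹ by group]
        rw [mul_assoc, ← map_mul, show alt D.n (!i) j * x = alt D.n (!i) j * x * (alt D.n (!i) j)⁻¹ * alt D.n (!i) j by
          group, map_mul, ← mul_assoc, av_rho ρ h3]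
    rw [← h2, mul_assoc, D.av_X_V ρ i, hU, mul_zero]
  rcases Nat.even_or_odd j with h | h
  · obtain ⟨k, rfl⟩ : ∃ k, j = k + 1 := ⟨j - 1, by omega⟩
    have hk : Odd k := by
      rw [Nat.even_add_one, Nat.not_even_iff_odd] at h
      exact h
    rw [alt_succ, lt_odd _ hk, Bool.not_not, map_mul, ← mul_assoc, ← D.Par_av ρ (D.n_mem_Par i), mul_assoc (ρ _),
      mul_assoc (ρ _), hodd k hk (by omega), mul_zero]
  · exact hodd j h hj

/-- the double cosets of the parabolic subgroup -/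
theorem cases3 (i : Bool) (hU : av ρ D.U = 0) (g : G) : g ∈ D.Par i ∨ (∃ a ∈ D.Par i, ∃ b ∈ D.Par i, g = a * D.n0 i * b) ∨
    av ρ (D.V i) * ρ g * av ρ (D.V i) = 0 := by
  obtain ⟨j, hj, b, hb, y, hy, rfl⟩ := D.exists_alt_Par i g
  by_cases h0 : j = 0
  · subst h0
    left
    rw [alt_zero, mul_one]
    exact mul_mem (D.B_le_Par i hb) hy
  by_cases h1 : j = D.m - 1
  · subst h1
    exact Or.inr (Or.inl ⟨b, D.B_le_Par i hb, y, hy, rfl⟩)
  have h3 := mid_zero ρ i hU h0 (by omega)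
  refine Or.inr (Or.inr ?_)
  rw [map_mul, map_mul, mul_assoc _ _ (av ρ (D.V i)), mul_assoc _ (ρ y), D.Par_av ρ hy, ← mul_assoc, ← mul_assoc,
    ← mul_assoc, ← D.Par_av ρ (D.B_le_Par i hb), mul_assoc (ρ b), mul_assoc (ρ b), h3, mul_zero, zero_mul]

variable (D)

/-- the intertwining operator -/
noncomputable def K (i : Bool) : Module.End ℂ V := av ρ (D.V i) * ρ (D.n0 i) * av ρ (D.V i)

variable {D}

theorem av_K (i : Bool) : av ρ (D.V i) * D.K ρ i = D.K ρ i := by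
  rw [K, ← mul_assoc, ← mul_assoc, av_av ρ le_rfl]

theorem K_av (i : Bool) : D.K ρ i * av ρ (D.V i) = D.K ρ i := by
  rw [K, mul_assoc, av_av ρ le_rfl]

theorem K_Lv {i : Bool} {l : G} (hl : l ∈ D.Lv i) : D.K ρ i * ρ l = ρ (D.n0 i * l * (D.n0 i)⁻¹) * D.K ρ i := by
  rw [K, mul_assoc, ← D.Par_av ρ hl.1, ← mul_assoc, ← mul_assoc, ← mul_assoc, D.Par_av ρ (D.mem_Lv.1 hl).2, mul_assoc _ (ρ _) (ρ l),
    mul_assoc _ (ρ _) (ρ (D.n0 i)), ← map_mul, ← map_mul, inv_mul_cancel_right]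

theorem Lv_K (hm : Even D.m) {i : Bool} {l : G} (hl : l ∈ D.Lv i) :
    ρ l * D.K ρ i = D.K ρ i * ρ ((D.n0 i)⁻¹ * l * D.n0 i) := by
  rw [K_Lv ρ (D.Lv_conj hm hl)]
  congr 2
  group

theorem K_Par (hm : Even D.m) {i : Bool} {y : G} (hy : y ∈ D.Par i) :
    ∃ y' ∈ D.Par i, D.K ρ i * ρ y = ρ y' * D.K ρ i := by
  obtain ⟨l, hl, v, hv, rfl⟩ := D.Par_form hm hy
  refine ⟨_, (D.mem_Lv.1 hl).2, ?_⟩
  rw [← K_Lv ρ hl, ← K_av, mul_assoc, mul_assoc, ← D.Par_av ρ hy, ← D.Par_av ρ hl.1, map_mul, mul_assoc, rho_av ρ hv]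

theorem Par_K (hm : Even D.m) {i : Bool} {y : G} (hy : y ∈ D.Par i) :
    ∃ y' ∈ D.Par i, ρ y * D.K ρ i = D.K ρ i * ρ y' := by
  obtain ⟨l, hl, v, hv, rfl⟩ := D.Par_form hm hy
  refine ⟨_, (D.Lv_conj hm hl).1, ?_⟩
  rw [← Lv_K ρ hm hl, ← av_K, map_mul, mul_assoc, ← mul_assoc (ρ v), rho_av ρ hv]

theorem big (i : Bool) {a b : G} (ha : a ∈ D.Par i) (hb : b ∈ D.Par i) :
    av ρ (D.V i) * ρ (a * D.n0 i * b) * av ρ (D.V i) = ρ a * D.K ρ i * ρ b := by
  rw [K, map_mul, map_mul, mul_assoc _ _ (av ρ (D.V i)), mul_assoc _ (ρ b), D.Par_av ρ hb, ← mul_assoc, ← mul_assoc,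
    ← mul_assoc, ← D.Par_av ρ ha, ← mul_assoc, ← mul_assoc]

variable (D)

/-- the compressed conjugates of the projection -/
noncomputable def Mg (i : Bool) (g : G) : Module.End ℂ V :=
  av ρ (D.V i) * ρ g * av ρ (D.V i) * ρ g⁻¹ * av ρ (D.V i)

variable {D}

theorem Mg_conj {i : Bool} {a b : G} (ha : a ∈ D.Par i) (hb : b ∈ D.Par i) (g : G) :
    D.Mg ρ i (a * g * b) = ρ a * D.Mg ρ i g * ρ a⁻¹ := by
  have h1 : ρ b * av ρ (D.V i) * ρ b⁻¹ = av ρ (D.V i) := by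
    rw [D.Par_av ρ hb, mul_assoc, ← map_mul, mul_inv_cancel, map_one, mul_one]
  have h2 : D.Mg ρ i (a * g * b) =
      (av ρ (D.V i) * ρ a) * ρ g * (ρ b * av ρ (D.V i) * ρ b⁻¹) * ρ g⁻¹ * (ρ a⁻¹ * av ρ (D.V i)) := by
    simp only [Mg, mul_inv_rev, map_mul, mul_assoc]
  rw [h2, h1, ← D.Par_av ρ ha, D.Par_av ρ (inv_mem ha)]
  simp only [Mg, mul_assoc]

theorem Mg_one (i : Bool) : D.Mg ρ i 1 = av ρ (D.V i) := by
  rw [Mg, inv_one, map_one, mul_one, mul_one, av_av ρ le_rfl, av_av ρ le_rfl]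

theorem Mg_n0 (hm : Even D.m) {i : Bool} {y : G} (hy : y ∈ D.Par i) :
    ρ y * D.Mg ρ i (D.n0 i) * ρ y⁻¹ = D.Mg ρ i (D.n0 i) := by
  obtain ⟨l, hl, v, hv, rfl⟩ := D.Par_form hm hy
  have h1 : ρ v * D.Mg ρ i (D.n0 i) * ρ v⁻¹ = D.Mg ρ i (D.n0 i) := by
    rw [Mg, ← mul_assoc, ← mul_assoc, ← mul_assoc, ← mul_assoc, rho_av ρ hv, mul_assoc, av_rho ρ (inv_mem hv)]
  have h2 := Mg_conj ρ hl.1 (inv_mem (D.Lv_conj hm hl).1) (D.n0 i)
  rw [show l * D.n0 i * ((D.n0 i)⁻¹ * l * D.n0 i)⁻¹ = D.n0 i by group] at h2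
  rw [mul_inv_rev, map_mul, map_mul, ← mul_assoc, mul_assoc (ρ l), mul_assoc (ρ l), h1, ← h2]

theorem Mg_inv (hm : Even D.m) {i : Bool} (hU : av ρ D.U = 0) {a b : G} (ha : a ∈ D.Par i) (hb : b ∈ D.Par i) (g : G) :
    D.Mg ρ i (a * g * b) = D.Mg ρ i g := by
  rw [Mg_conj ρ ha hb]
  rcases cases3 ρ i hU g with h | ⟨c, hc, d, hd, rfl⟩ | h
  · have h1 := Mg_conj ρ h (one_mem _) 1
    rw [mul_one, mul_one, Mg_one, D.Par_av ρ h, mul_assoc, ← map_mul, mul_inv_cancel, map_one, mul_one] at h1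
    rw [h1, D.Par_av ρ ha, mul_assoc, ← map_mul, mul_inv_cancel, map_one, mul_one]
  · rw [Mg_conj ρ hc hd, Mg_n0 ρ hm hc, Mg_n0 ρ hm ha]
  · rw [Mg, h, zero_mul, zero_mul, mul_zero, zero_mul]

/-- Schur's relation -/
theorem Mg_scalar [FiniteDimensional ℂ V] [ρ.IsIrreducible] (hm : Even D.m) (i : Bool) (hU : av ρ D.U = 0) :
    ((Nat.card G : ℂ) * finrank ℂ (LinearMap.range (av ρ (D.V i))) / finrank ℂ V) • av ρ (D.V i) =
      (Nat.card (D.Par i) : ℂ) • (av ρ (D.V i) + (D.Q (!i) (D.m - 1) : ℂ) • D.Mg ρ i (D.n0 i)) := by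
  have := Fintype.ofFinite G
  have h1 := congrArg (fun f => av ρ (D.V i) * f * av ρ (D.V i)) (Ito.sum_conj ρ (av ρ (D.V i)))
  simp only [Finset.mul_sum, Finset.sum_mul, mul_smul_comm, smul_mul_assoc, mul_one] at h1
  rw [av_av ρ le_rfl, trace_idem (av_av ρ le_rfl), ← Nat.card_eq_fintype_card] at h1
  rw [← h1, ← sub_eq_zero, ← Module.forall_dual_apply_eq_zero_iff ℂ]
  intro φ
  rw [map_sub, sub_eq_zero, map_sum]
  have h2 := D.sum_eq i (fun g => φ (D.Mg ρ i g)) fun b hb b' hb' g => by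
    rw [Mg_inv ρ hm hU (D.B_le_Par i hb) (D.B_le_Par i hb')]
  have h3 : ∀ g, D.Mg ρ i (g * D.n i) = D.Mg ρ i g := fun g => by
    have := Mg_inv ρ hm hU (one_mem _) (D.n_mem_Par i) g
    rwa [one_mul] at this
  obtain ⟨k, hk⟩ : ∃ k, D.m = k + 1 + 1 := ⟨D.m - 2, by
    have := D.m_pos
    obtain ⟨r, hr⟩ := hm
    omega⟩
  have h4 : ∑ j ∈ Finset.range D.m, (D.Q (!i) j : ℂ) *
      (φ (D.Mg ρ i (alt D.n (!i) j)) + D.q i * φ (D.Mg ρ i (alt D.n (!i) j * D.n i))) =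
      (1 + D.q i) * (φ (av ρ (D.V i)) + D.Q (!i) (D.m - 1) * φ (D.Mg ρ i (D.n0 i))) := by
    simp only [h3]
    unfold n0
    rw [hk, Finset.sum_range_succ, Finset.sum_range_succ', Finset.sum_eq_zero, alt_zero, Mg_one, Q_zero,
      Nat.add_sub_cancel]
    · push_cast
      ring
    · intro j hj
      rw [Mg, mid_zero ρ i hU (by omega) (by have := Finset.mem_range.1 hj; omega), zero_mul, zero_mul, map_zero]
      ring
  rw [h4] at h2
  rw [map_smul, map_add, map_smul, D.card_Par]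
  simp only [smul_eq_mul]
  push_cast
  rw [mul_right_comm, mul_comm _ (Nat.card D.P.B : ℂ), ← h2]
  refine Finset.sum_congr rfl fun g _ => ?_
  simp only [Mg, mul_assoc]

/-- the quadratic relation -/
theorem Mg_quad (hm : Even D.m) (i : Bool) (hV : Nat.card (D.V i) = D.Q (!i) (D.m - 1)) (hU : av ρ D.U = 0) :
    ∃ Z ∈ Submodule.span ℤ (ρ '' (D.Par i : Set G)), ∃ Z' ∈ Submodule.span ℤ (ρ '' (D.Par i : Set G)),
      (D.Q (!i) (D.m - 1) : ℂ) • D.Mg ρ i (D.n0 i) = av ρ (D.V i) + Z * D.K ρ i ∧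
      (D.Q (!i) (D.m - 1) : ℂ) • D.Mg ρ i (D.n0 i) = av ρ (D.V i) + D.K ρ i * Z' := by
  classical
  have := Fintype.ofFinite (D.V i)
  obtain ⟨t, ht, e⟩ := D.n0_inv hm i
  have h1 : ∀ v : D.V i, ∃ z ∈ Submodule.span ℤ (ρ '' (D.Par i : Set G)),
      ∃ z' ∈ Submodule.span ℤ (ρ '' (D.Par i : Set G)), v ≠ 1 →
      av ρ (D.V i) * ρ (D.n0 i * v * (D.n0 i)⁻¹) * av ρ (D.V i) = z * D.K ρ i ∧
      av ρ (D.V i) * ρ (D.n0 i * v * (D.n0 i)⁻¹) * av ρ (D.V i) = D.K ρ i * z' := by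
    intro v
    rcases cases3 ρ i hU (D.n0 i * v * (D.n0 i)⁻¹) with h | ⟨a, ha, b, hb, h⟩ | h
    · refine ⟨0, zero_mem _, 0, zero_mem _, fun hv => absurd (Subtype.ext ?_) hv⟩
      have h2 := D.inj_V hm i hV (D.TV (inv_mem ht) v.2) (by
        have h3 : (D.n0 i)⁻¹ * (t⁻¹ * v * t⁻¹⁻¹) * D.n0 i = D.n0 i * v * (D.n0 i)⁻¹ := by
          calc (D.n0 i)⁻¹ * (t⁻¹ * v * t⁻¹⁻¹) * D.n0 i = (D.n0 i)⁻¹ * (t⁻¹ * v * t⁻¹⁻¹) * ((D.n0 i)⁻¹)⁻¹ := by
                rw [inv_inv (D.n0 i)]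
            _ = (D.n0 i * t) * (t⁻¹ * v * t⁻¹⁻¹) * (D.n0 i * t)⁻¹ := by rw [← e]
            _ = _ := by group
        rwa [h3])
      rw [mul_inv_eq_one, mul_eq_left] at h2
      exact h2
    · obtain ⟨a', ha', e1⟩ := Par_K ρ hm ha
      obtain ⟨b', hb', e2⟩ := K_Par ρ hm hb
      refine ⟨ρ (a * b'), Submodule.subset_span ⟨_, mul_mem ha hb', rfl⟩, ρ (a' * b),
        Submodule.subset_span ⟨_, mul_mem ha' hb, rfl⟩, fun _ => ?_⟩
      rw [h, big ρ i ha hb]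
      exact ⟨by rw [mul_assoc, e2, map_mul, mul_assoc], by rw [e1, map_mul, mul_assoc]⟩
    · exact ⟨0, zero_mem _, 0, zero_mem _, fun _ => ⟨by rw [h, zero_mul], by rw [h, mul_zero]⟩⟩
  choose z hz z' hz' hzz using h1
  have h2 : (D.Q (!i) (D.m - 1) : ℂ) • D.Mg ρ i (D.n0 i) = av ρ (D.V i) +
      ∑ v ∈ Finset.univ.erase (1 : D.V i), av ρ (D.V i) * ρ (D.n0 i * v * (D.n0 i)⁻¹) * av ρ (D.V i) := by
    have h3 : D.Mg ρ i (D.n0 i) = (Nat.card (D.V i) : ℂ)⁻¹ •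
        ∑ v : D.V i, av ρ (D.V i) * ρ (D.n0 i * v * (D.n0 i)⁻¹) * av ρ (D.V i) := by
      unfold Mg
      nth_rewrite 2 [av_def]
      simp only [mul_smul_comm, smul_mul_assoc, Finset.mul_sum, Finset.sum_mul, map_mul, mul_assoc]
    rw [h3, ← hV, smul_smul, mul_inv_cancel₀ (card_ne _), one_smul,
      ← Finset.add_sum_erase _ _ (Finset.mem_univ (1 : D.V i)), Subgroup.coe_one, mul_one, mul_inv_cancel, map_one,
      mul_one, av_av ρ le_rfl]
  refine ⟨∑ v ∈ Finset.univ.erase (1 : D.V i), z v, sum_mem fun v _ => hz v,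
    ∑ v ∈ Finset.univ.erase (1 : D.V i), z' v, sum_mem fun v _ => hz' v, ?_, ?_⟩
  · rw [h2, Finset.sum_mul]
    congr 1
    exact Finset.sum_congr rfl fun v hv => (hzz v (Finset.ne_of_mem_erase hv)).1
  · rw [h2, Finset.mul_sum]
    congr 1
    exact Finset.sum_congr rfl fun v hv => (hzz v (Finset.ne_of_mem_erase hv)).2

/-- **The characters with cuspidal support in the Levi subgroup** -/
theorem cusp [FiniteDimensional ℂ V] [ρ.IsIrreducible] (hm : Even D.m) (i : Bool)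
    (hV : Nat.card (D.V i) = D.Q (!i) (D.m - 1)) {p e : ℕ} (hp : p.Prime) (he : Nat.card (D.V i) = p ^ e)
    (hU : av ρ D.U = 0) (h0 : av ρ (D.V i) ≠ 0) : ∃ x : ℚ,
      ((Nat.card G * finrank ℂ (LinearMap.range (av ρ (D.V i))) : ℕ) : ℚ) =
        (finrank ℂ V : ℕ) * ((1 + x) * Nat.card (D.Par i)) ∧
      (∃ j : ℤ, |j| ≤ e ∧ (x = (p : ℚ) ^ j ∨ x = -(p : ℚ) ^ j)) ∧
      (x ≠ 1 → ∀ g ∈ D.Lv i, LinearMap.trace ℂ V (ρ g * av ρ (D.V i)) =
        LinearMap.trace ℂ V (ρ ((D.n0 i)⁻¹ * g * D.n0 i) * av ρ (D.V i))) := by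
  have hn : (finrank ℂ V : ℂ) ≠ 0 := Nat.cast_ne_zero.2 (Ito.finrank_pos_of_irreducible ρ).ne'
  have hP := card_ne (D.Par i)
  obtain ⟨x, hx⟩ : ∃ x : ℚ, x = (Nat.card G * finrank ℂ (LinearMap.range (av ρ (D.V i))) : ℚ) /
    (finrank ℂ V * Nat.card (D.Par i)) - 1 := ⟨_, rfl⟩
  have hM : (D.Q (!i) (D.m - 1) : ℂ) • D.Mg ρ i (D.n0 i) = (x : ℂ) • av ρ (D.V i) := by
    have h1 := congrArg (fun f => (Nat.card (D.Par i) : ℂ)⁻¹ • f) (Mg_scalar ρ hm i hU)
    simp only [smul_smul, inv_mul_cancel₀ hP, one_smul] at h1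
    rw [← sub_eq_iff_eq_add'] at h1
    rw [← h1, hx]
    push_cast
    rw [sub_smul, one_smul]
    congr 2
    field_simp
  obtain ⟨Z, hZ, Z', hZ', e1, e2⟩ := Mg_quad ρ hm i hV hU
  rw [hM, ← sub_eq_iff_eq_add'] at e1 e2
  have e3 : Z * D.K ρ i = ((x : ℂ) - 1) • av ρ (D.V i) := by rw [← e1, sub_smul, one_smul]
  have e4 : D.K ρ i * Z' = ((x : ℂ) - 1) • av ρ (D.V i) := by rw [← e2, sub_smul, one_smul]
  have hspan : ∀ {A : Module.End ℂ V}, (∀ y ∈ D.Par i, ρ y * A = A * ρ y) →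
      ∀ {B : Module.End ℂ V}, B ∈ Submodule.span ℤ (ρ '' (D.Par i : Set G)) → B * A = A * B := by
    intro A hA B hB
    induction hB using Submodule.span_induction with
    | mem B hB =>
      obtain ⟨y, hy, rfl⟩ := hB
      exact hA y hy
    | zero => rw [zero_mul, mul_zero]
    | add B C _ _ h1 h2 => rw [add_mul, mul_add, h1, h2]
    | smul k B _ h1 => rw [smul_mul_assoc, mul_smul_comm, h1]
  refine ⟨x, ?_, ?_, fun hx1 g hg => ?_⟩
  · have hn' : (finrank ℂ V : ℚ) ≠ 0 := Nat.cast_ne_zero.2 (Ito.finrank_pos_of_irreducible ρ).ne'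
    have hP' : (Nat.card (D.Par i) : ℚ) ≠ 0 := Nat.cast_ne_zero.2 Nat.card_pos.ne'
    rw [hx]
    push_cast
    field_simp
    ring
  · obtain ⟨t, ht, et⟩ := D.n0_inv hm i
    have htP := D.B_le_Par i (D.TB ht)
    have e5 : D.Mg ρ i (D.n0 i) = D.K ρ i * (D.K ρ i * ρ t) := by
      have h1 := big ρ i (one_mem _) htP
      rw [one_mul, map_one, one_mul, ← et] at h1
      rw [← h1, Mg, K, mul_assoc _ (av ρ (D.V i)) (_ * _ * _), ← mul_assoc (av ρ (D.V i)) (_ * _),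
        ← mul_assoc (av ρ (D.V i)) (av ρ (D.V i)), av_av ρ le_rfl]
      simp only [mul_assoc]
    have e6 : (x : ℂ) • (Z * (ρ t⁻¹ * Z') * av ρ (D.V i)) =
        ((D.Q (!i) (D.m - 1) : ℂ) * ((x : ℂ) - 1) ^ 2) • av ρ (D.V i) := by
      have h1 : av ρ (D.V i) * (ρ t⁻¹ * Z') = ρ t⁻¹ * Z' * av ρ (D.V i) := by
        rw [← mul_assoc, ← D.Par_av ρ (inv_mem htP), mul_assoc, mul_assoc,
          hspan (fun y hy => D.Par_av ρ hy) hZ']
      rw [mul_assoc Z, ← h1, ← mul_smul_comm, ← smul_mul_assoc, ← hM, e5, smul_mul_assoc, mul_smul_comm, mul_assoc,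
        mul_assoc, ← mul_assoc (ρ t), ← map_mul, mul_inv_cancel, map_one, one_mul, e4, ← mul_assoc, e3,
        smul_mul_assoc, mul_smul_comm, av_av ρ le_rfl, smul_smul, smul_smul, pow_two, mul_assoc]
    obtain ⟨w, hw⟩ : ∃ w, av ρ (D.V i) w ≠ 0 := by
      by_contra hc
      push Not at hc
      exact h0 (LinearMap.ext hc)
    have hQ : (D.Q (!i) (D.m - 1) : ℂ) ≠ 0 := hV ▸ card_ne _
    have hx0 : (x : ℂ) ≠ 0 := by
      intro h
      rw [h, zero_smul, eq_comm, smul_eq_zero] at e6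
      refine h0 (e6.resolve_left (mul_ne_zero hQ ?_))
      norm_num
    have hint : IsIntegral ℤ (((p : ℚ) ^ e * (x - 1) ^ 2 / x : ℚ) : ℂ) := by
      refine eig_sum ρ (A := Z * (ρ t⁻¹ * Z')) ?_ hw ?_
      · have hle : Submodule.span ℤ (ρ '' (D.Par i : Set G)) ≤ Submodule.span ℤ (Set.range ρ) :=
          Submodule.span_mono (Set.image_subset_range _ _)
        have hmul : ∀ {A B : Module.End ℂ V}, A ∈ Submodule.span ℤ (Set.range ρ) →
            B ∈ Submodule.span ℤ (Set.range ρ) → A * B ∈ Submodule.span ℤ (Set.range ρ) := by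
          intro A B hA hB
          have h1 := Submodule.mul_mem_mul hA hB
          rw [Submodule.span_mul_span] at h1
          refine Submodule.span_mono ?_ h1
          rintro _ ⟨_, ⟨a, rfl⟩, _, ⟨b, rfl⟩, rfl⟩
          exact ⟨a * b, map_mul ρ a b⟩
        exact hmul (hle hZ) (hmul (Submodule.subset_span ⟨_, rfl⟩) (hle hZ'))
      · have h1 := congrArg (fun f : Module.End ℂ V => (x : ℂ)⁻¹ • f w) e6
        simp only [LinearMap.smul_apply, smul_smul, inv_mul_cancel₀ hx0, one_smul] at h1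
        rw [← Module.End.mul_apply, h1, ← hV, he]
        congr 1
        push_cast
        field_simp
    obtain ⟨z, hz⟩ := IsIntegrallyClosed.isIntegral_iff.1
      ((isIntegral_algebraMap_iff (R := ℤ) (algebraMap ℚ ℂ).injective).1 hint)
    refine rat_pow hp (z := z) ?_
    have hx0' : x ≠ 0 := fun h => hx0 (by rw [h, Rat.cast_zero])
    have h1 : (z : ℚ) = (p : ℚ) ^ e * (x - 1) ^ 2 / x := hz
    rw [h1, div_mul_cancel₀ _ hx0']
  · have := Fintype.ofFinite (D.Lv i)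
    obtain ⟨A, hA⟩ : ∃ A, A = (∑ l : D.Lv i, ρ l * ρ g * ρ (l : G)⁻¹) * av ρ (D.V i) := ⟨_, rfl⟩
    obtain ⟨A', hA'⟩ : ∃ A', A' = ∑ l : D.Lv i, ρ ((D.n0 i)⁻¹ * (l * g * (l : G)⁻¹) * D.n0 i) := ⟨_, rfl⟩
    have hmem : ∀ l : D.Lv i, l * g * (l : G)⁻¹ ∈ D.Lv i := fun l => mul_mem (mul_mem l.2 hg) (inv_mem l.2)
    have c0 : (∑ l : D.Lv i, ρ l * ρ g * ρ (l : G)⁻¹) * av ρ (D.V i) =
        av ρ (D.V i) * ∑ l : D.Lv i, ρ l * ρ g * ρ (l : G)⁻¹ := by
      rw [Finset.sum_mul, Finset.mul_sum]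
      refine Finset.sum_congr rfl fun l _ => ?_
      rw [← map_mul, ← map_mul, D.Par_av ρ (hmem l).1]
    have c1 : ∀ y ∈ D.Par i, ρ y * A = A * ρ y := by
      intro y hy
      obtain ⟨l, hl, v, hv, rfl⟩ := D.Par_form hm hy
      rw [hA, mul_assoc _ (av ρ (D.V i)), ← D.Par_av ρ hy, map_mul, mul_assoc (ρ l) (ρ v) (av ρ (D.V i)), rho_av ρ hv,
        mul_assoc (ρ l), c0, ← mul_assoc (ρ v), rho_av ρ hv, ← c0, ← mul_assoc, comm_sum _ _ hl, mul_assoc]
    have c2 : A * D.K ρ i = D.K ρ i * A' := by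
      rw [hA, hA', mul_assoc, av_K, Finset.sum_mul, Finset.mul_sum]
      refine Finset.sum_congr rfl fun l _ => ?_
      rw [← map_mul, ← map_mul, Lv_K ρ hm (hmem l)]
    have c3 : A * av ρ (D.V i) = av ρ (D.V i) * A' := by
      have h1 : ((x : ℂ) - 1) • (A * av ρ (D.V i)) = ((x : ℂ) - 1) • (av ρ (D.V i) * A') := by
        rw [← mul_smul_comm, ← smul_mul_assoc, ← e3, ← mul_assoc, ← hspan c1 hZ, mul_assoc, c2, mul_assoc]
      exact smul_right_injective _ (sub_ne_zero.2 (by exact_mod_cast hx1)) h1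
    have c4 := congrArg (LinearMap.trace ℂ V) c3
    have tr : ∀ {y k : G}, y ∈ D.Par i → LinearMap.trace ℂ V (ρ (y * k * y⁻¹) * av ρ (D.V i)) =
        LinearMap.trace ℂ V (ρ k * av ρ (D.V i)) := by
      intro y k hy
      rw [map_mul ρ, map_mul ρ, mul_assoc, mul_assoc, LinearMap.trace_mul_comm, D.Par_av ρ (inv_mem hy), mul_assoc,
        mul_assoc, ← map_mul, inv_mul_cancel, map_one, mul_one]
    rw [hA, hA', mul_assoc, av_av ρ le_rfl, LinearMap.trace_mul_comm ℂ (av ρ (D.V i)), Finset.sum_mul, Finset.sum_mul,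
      map_sum, map_sum] at c4
    have t1 : ∀ l : D.Lv i, LinearMap.trace ℂ V (ρ l * ρ g * ρ (l : G)⁻¹ * av ρ (D.V i)) =
        LinearMap.trace ℂ V (ρ g * av ρ (D.V i)) := fun l => by rw [← map_mul, ← map_mul, tr l.2.1]
    have t2 : ∀ l : D.Lv i, LinearMap.trace ℂ V (ρ ((D.n0 i)⁻¹ * (l * g * (l : G)⁻¹) * D.n0 i) * av ρ (D.V i)) =
        LinearMap.trace ℂ V (ρ ((D.n0 i)⁻¹ * g * D.n0 i) * av ρ (D.V i)) := fun l => by
      rw [← tr (k := (D.n0 i)⁻¹ * g * D.n0 i) (D.Lv_conj hm l.2).1]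
      congr 3
      group
    simp only [t1, t2, Finset.sum_const, nsmul_eq_mul] at c4
    exact mul_left_cancel₀ (Nat.cast_ne_zero.2 (Finset.card_pos.2 ⟨1, Finset.mem_univ _⟩).ne') c4

/-- the consequence for the degree -/
theorem Num.dvd_of {p l : ℕ} (E : D.Num p l) (i : Bool) {d n : ℕ} {x : ℚ} (hd : d ≠ 0)
    (h : ((Nat.card G * d : ℕ) : ℚ) = n * ((1 + x) * Nat.card (D.Par i))) (hx : Good l (1 + x)) (c : ℕ)
    (hc : l ^ c ∣ Nat.card G) : l ^ c ∣ n := by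
  have : Fact l.Prime := ⟨E.hl⟩
  refine Good.dvd (mul_ne_zero Nat.card_pos.ne' hd) h (hx.mul ?_) c (hc.mul_right _)
  rw [D.card_Par, E.hq]
  push_cast
  refine Good.mul ?_ (Good.nat E.lB)
  have h1 := Good.one_add (l := l) E.hp.pos E.lp E.prim (c := E.f i) (by have := E.h2; have := E.hl1; omega) (by
    have := E.add i
    have := E.h2
    have := E.hf (!i)
    rw [abs_of_nonneg (by positivity)]
    have h3 : 2 * E.f i < E.h * (E.f true + E.f false) := by nlinarith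
    exact_mod_cast h3)
  rwa [zpow_natCast] at h1

end R2

end Cfsg.Agent.VAN.Rk
end

-- part: VAN/Rk/Co
section
/-!
# S4942, rank two: elliptic elements from coordinates, the degrees in the cuspidal case (helper77)
-/

set_option autoImplicit false
set_option linter.unusedSectionVars false

namespace Cfsg.Agent.VAN.Rk

open Module Cfsg Cfsg.Agent.LieExceptional.BNPairCore

universe u

theorem av_eq {G : Type u} [Group G] [Finite G] {V : Type} [AddCommGroup V] [Module ℂ V] (ρ : Representation ℂ G V)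
    (H : Subgroup G) : av ρ H = H866.OZ.av ρ H := by
  have h1 : H866.OZ.av ρ H * av ρ H = av ρ H := H866.OZ.av_of_left ρ fun _ hg => rho_av ρ hg
  have h2 : H866.OZ.av ρ H * av ρ H = H866.OZ.av ρ H := mul_av_of ρ fun _ hg => H866.OZ.av_mul ρ hg
  rw [← h1, h2]

namespace R2

variable {G : Type u} [Group G] {D : R2 G}

/-- ellipticity can be checked on representatives -/
theorem ell_of {i : Bool} {g : G} (hg : g ∉ D.P.B) (h : ∀ x ∈ D.X i, (x * D.n i)⁻¹ * g * (x * D.n i) ∉ D.P.B) :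
    ∀ y ∈ D.Par i, y⁻¹ * g * y ∉ D.P.B := by
  rintro y (hy | hy) hB
  · apply hg
    have := mul_mem (mul_mem hy hB) (inv_mem hy)
    rwa [show y * (y⁻¹ * g * y) * y⁻¹ = g by group] at this
  · obtain ⟨a, ha, b, hb, rfl⟩ := mem_C.1 hy
    obtain ⟨u, hu, t, ht, rfl⟩ := (D.mem_B a).1 ha
    obtain ⟨x, hx, v, hv, rfl⟩ := D.dec' i hu
    apply h x hx
    have h1 : (D.n i)⁻¹ * v * D.n i * ((D.n i)⁻¹ * t * D.n i) * b ∈ D.P.B :=
      mul_mem (mul_mem (D.UB (D.VU i (D.nV'' hv))) (D.TB (D.NT (D.nN i) ht))) hb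
    have := mul_mem (mul_mem h1 hB) (inv_mem h1)
    rwa [show (D.n i)⁻¹ * v * D.n i * ((D.n i)⁻¹ * t * D.n i) * b * ((x * v * t * D.n i * b)⁻¹ * g *
      (x * v * t * D.n i * b)) * ((D.n i)⁻¹ * v * D.n i * ((D.n i)⁻¹ * t * D.n i) * b)⁻¹ =
      (x * D.n i)⁻¹ * g * (x * D.n i) by group] at this

variable {p l : ℕ}

theorem Num.not_dvd_add (E : D.Num p l) {k : ℕ} (hk : k < E.h * (E.f true + E.f false))
    (h2 : 2 * k ≠ E.h * (E.f true + E.f false)) : ¬ l ∣ p ^ k + 1 := by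
  intro h
  rcases Nat.eq_zero_or_pos k with rfl | h0
  · rw [pow_zero] at h
    have := Nat.le_of_dvd (by norm_num) h
    have := E.h2
    have := E.hl1
    omega
  have h1 : l ∣ p ^ (2 * k) - 1 := by
    rw [mul_comm, pow_mul, ← one_pow 2, Nat.sq_sub_sq]
    exact h.mul_right _
  rcases Nat.lt_or_ge (2 * k) (E.h * (E.f true + E.f false)) with h3 | h3
  · exact E.prim _ (by omega) h3 h1
  · obtain ⟨r, hr⟩ := Nat.exists_eq_add_of_le h3
    refine E.prim r (by omega) (by omega) ?_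
    have a1 := Nat.one_le_pow (E.h * (E.f true + E.f false)) p E.hp.pos
    have a2 := Nat.one_le_pow r p E.hp.pos
    have e : p ^ (2 * k) - 1 = p ^ r * (p ^ (E.h * (E.f true + E.f false)) - 1) + (p ^ r - 1) := by
      rw [hr, pow_add, Nat.mul_sub, mul_one, mul_comm]
      have := Nat.le_mul_of_pos_right (p ^ r) (show 0 < p ^ (E.h * (E.f true + E.f false)) from a1)
      omega
    rw [e] at h1
    exact (Nat.dvd_add_right (E.ldvd.mul_left _)).1 h1

variable [Finite G] {V : Type} [AddCommGroup V] [Module ℂ V] [FiniteDimensional ℂ V] (ρ : Representation ℂ G V)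

/-- defect zero in the cuspidal case -/
theorem Num.cusp_dvd (E : D.Num p l) (hU : IsPGroup p D.U) (hT : ¬ p ∣ Nat.card D.T) [ρ.IsIrreducible] (i : Bool)
    (h0 : av ρ D.U = 0) (hV : av ρ (D.V i) ≠ 0) (hex : ∀ k, 2 * k = E.h * (E.f true + E.f false) →
      ¬ p ^ k + 1 ∣ Nat.card G * finrank ℂ (LinearMap.range (av ρ (D.V i)))) (c : ℕ) (hc : l ^ c ∣ Nat.card G) :
    l ^ c ∣ finrank ℂ V := by
  have : Fact l.Prime := ⟨E.hl⟩
  obtain ⟨h1, h2⟩ := E.card_V hU hT i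
  obtain ⟨x, hx, ⟨j, hj, hxj⟩, -⟩ := cusp ρ ⟨E.h, by rw [E.hm, two_mul]⟩ i h1 E.hp h2 h0 hV
  have hd : finrank ℂ (LinearMap.range (av ρ (D.V i))) ≠ 0 := fun h =>
    hV (LinearMap.range_eq_bot.1 (Submodule.finrank_eq_zero.1 h))
  have hlt : |j| < (E.h * (E.f true + E.f false) : ℕ) := by
    have := E.hf i
    have := E.add i
    have := E.h2
    have : E.f true + E.f false ≤ E.h * (E.f true + E.f false) := Nat.le_mul_of_pos_left _ (by omega)
    omega
  have hp0 : (p : ℚ) ≠ 0 := Nat.cast_ne_zero.2 E.hp.ne_zero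
  refine E.dvd_of i hd hx ?_ c hc
  rcases hxj with rfl | rfl
  · obtain ⟨k, rfl | rfl⟩ := Int.eq_nat_or_neg j
    · rw [zpow_natCast] at hx ⊢
      have h3 : ¬ l ∣ p ^ k + 1 := E.not_dvd_add (by rw [Nat.abs_cast] at hlt; exact_mod_cast hlt) fun h =>
        hex k h ⟨finrank ℂ V * Nat.card (D.Par i), by
          have h4 : Nat.card G * finrank ℂ (LinearMap.range (av ρ (D.V i))) =
            finrank ℂ V * ((1 + p ^ k) * Nat.card (D.Par i)) := by exact_mod_cast hx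
          rw [h4]
          ring⟩
      have h4 := Good.nat h3
      push_cast at h4
      rwa [add_comm] at h4
    · have h3 : ¬ l ∣ p ^ k + 1 := E.not_dvd_add (by rw [abs_neg, Nat.abs_cast] at hlt; exact_mod_cast hlt) fun h => by
        refine hex k h (Nat.Coprime.dvd_of_dvd_mul_right (n := p ^ k) (by simp) ⟨finrank ℂ V * Nat.card (D.Par i), ?_⟩)
        have h4 : ((Nat.card G * finrank ℂ (LinearMap.range (av ρ (D.V i))) * p ^ k : ℕ) : ℚ) =
            ((p ^ k + 1) * (finrank ℂ V * Nat.card (D.Par i)) : ℕ) := by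
          rw [Nat.cast_mul, hx, zpow_neg, zpow_natCast]
          push_cast
          field_simp
        exact_mod_cast h4
      refine Good.of_mul (b := ((p ^ k : ℕ) : ℚ)) (c := ((p ^ k + 1 : ℕ) : ℚ)) ?_
        (Good.nat fun h => E.lp (E.hl.dvd_of_dvd_pow h)) (Good.nat h3)
      rw [zpow_neg, zpow_natCast]
      push_cast
      field_simp
  · have hj0 : j ≠ 0 := by
      rintro rfl
      rw [zpow_zero, add_neg_cancel, zero_mul, mul_zero, Nat.cast_eq_zero] at hx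
      exact mul_ne_zero Nat.card_pos.ne' hd hx
    have h3 := (Good.sub E.hp.pos E.lp E.prim hj0 hlt).neg
    rwa [neg_sub, sub_eq_add_neg] at h3

end R2

open CoxeterSystem Cfsg.Agent.ChevalleyStructure.CoxeterGeom Cfsg.Agent.Tits.Roots Cfsg.Agent.Tits.Core
  Cfsg.Agent.Nodes.Reps Cfsg.Agent.Nodes.BNOf Cfsg.Agent.Nodes.StabComb
  Cfsg.Agent.Nodes.Bruhat Cfsg.Agent.Nodes.LeviDec Cfsg.Agent.Nodes.RGDFoldSL
open Cfsg.Agent.ChevalleyStructure.SL2Hom (up lo)
open Cfsg.Agent.H866.OZ (Co Ellip)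

variable {I W : Type*} {Y : Type u} [Fintype I] [DecidableEq I] [Group W] [Group Y] {M : CoxeterMatrix I}
  {cs : CoxeterSystem M W} {A : I → I → ℤ} {h : IsCartan M A} {p : ℕ} {T : Subgroup Y} {n : I → Y}
  {X : (I → ℤ) → Subgroup Y} {ι : Bool → I} (H : Two cs h p T n X ι) [Finite W] [Finite Y]
  {F : Type*} [Field F] [Fintype F] [DecidableEq F] {Φ : Matrix.SpecialLinearGroup (Fin 2) F →* Y}

namespace Two

theorem not_dvd_T [Fact p.Prime] : ¬ p ∣ Nat.card H.r2.T :=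
  (Nat.Prime.coprime_iff_not_dvd Fact.out).1 H.R.tcop.symm

theorem co_not_mem {i : Bool} (C : Co T n X (ι i) Φ) {B : Matrix.SpecialLinearGroup (Fin 2) F} (hB : B.1 1 0 ≠ 0) :
    Φ B ∉ H.r2.P.B := by
  intro h1
  have e := Cfsg.Agent.KFacts.TwESix.NodeCoord.eq_of_ne_zero hB
  have hT : Φ (hS (-(B.1 1 0)⁻¹)) ∈ H.r2.P.B := H.r2.TB (C.tor _ (neg_ne_zero.2 (inv_ne_zero hB)))
  have hup : ∀ a, Φ (up a) ∈ H.r2.P.B := fun a => H.r2.UB (H.r2.XU i ((C.mem _).2 ⟨a, rfl⟩))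
  apply not_mem_B (H.r2.nS i)
  rw [e, map_mul, map_mul, map_mul, C.w] at h1
  have h2 := mul_mem (mul_mem (inv_mem hT) (mul_mem (inv_mem (hup (B.1 0 0 / B.1 1 0))) h1))
    (inv_mem (hup (B.1 1 1 / B.1 1 0)))
  have h3 : ∀ a b c d : Y, b⁻¹ * (a⁻¹ * (a * (b * c) * d)) * d⁻¹ = c := fun a b c d => by group
  rwa [h3] at h2

theorem co_mem {i : Bool} (C : Co T n X (ι i) Φ) (B : Matrix.SpecialLinearGroup (Fin 2) F) : Φ B ∈ H.r2.Par i :=
  H.mem_Par (C.mem_LJ H.R B)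

/-- elliptic elements -/
theorem co_ell {i : Bool} (C : Co T n X (ι i) Φ) {t : Y} (ht : t ∈ T) (hc : ∀ B, t * Φ B = Φ B * t)
    {B : Matrix.SpecialLinearGroup (Fin 2) F} (hB : Ellip B) : ∀ y ∈ H.r2.Par i, y⁻¹ * (t * Φ B) * y ∉ H.r2.P.B := by
  have key : ∀ E, (Φ E)⁻¹ * (t * Φ B) * Φ E ∉ H.r2.P.B := by
    intro E h1
    apply H.co_not_mem C (hB E)
    rw [← map_inv, ← mul_assoc, ← hc, mul_assoc, mul_assoc, ← map_mul, ← map_mul, ← mul_assoc] at h1
    exact (Subgroup.mul_mem_cancel_left _ (H.r2.TB ht)).1 h1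
  refine R2.ell_of (by simpa using key 1) fun x hx => ?_
  obtain ⟨a, rfl⟩ := (C.mem x).1 hx
  have := key (up a * wS 1)
  rwa [map_mul, C.w] at this

end Two

end Cfsg.Agent.VAN.Rk
end

-- part: VAN/Rk/Chev
section
/-!
# S4942, rank two: tools for the Chevalley groups of rank two (helper77)
-/

set_option autoImplicit false
set_option linter.unusedSectionVars false

namespace Cfsg.Agent.VAN.Rk

open Cfsg Cfsg.Agent.LieExceptional.BNPairCore

universe u

/-- elliptic elements have no fixed points on a natural module -/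
theorem R2.nat_layer {G : Type u} [Group G] {D : R2 G} {i : Bool} {g : G} (hg : g ∈ D.Par i)
    (hell : ∀ y ∈ D.Par i, y⁻¹ * g * y ∉ D.P.B) {Z : Subgroup G} (hB : ∀ b ∈ D.P.B, ∀ z ∈ Z, b * z * b⁻¹ ∈ Z)
    (hn : ∀ z ∈ Z, D.n i * z * (D.n i)⁻¹ ∈ Z → z = 1) {v y : G} (hy : y ∈ D.Par i) (hz : y⁻¹ * v * y ∈ Z)
    (h : g * v = v * g) : v = 1 := by
  have h1 : y⁻¹ * g * y ∈ D.Par i := mul_mem (mul_mem (inv_mem hy) hg) hy
  obtain ⟨a, ha, b, hb, e⟩ := mem_C.1 (h1.resolve_left (hell y hy))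
  have h2 : D.n i * (b * (y⁻¹ * v * y) * b⁻¹) * (D.n i)⁻¹ = a⁻¹ * (y⁻¹ * v * y) * a⁻¹⁻¹ := by
    have h3 : y⁻¹ * g * y * (y⁻¹ * v * y) * (y⁻¹ * g * y)⁻¹ = y⁻¹ * v * y := by
      calc _ = y⁻¹ * (g * v) * g⁻¹ * y := by group
        _ = _ := by rw [h]; group
    rw [e] at h3
    nth_rewrite 2 [← h3]
    group
  have h4 := hn _ (hB b hb _ hz) (h2 ▸ hB _ (inv_mem ha) _ hz)
  calc v = y * b⁻¹ * (b * (y⁻¹ * v * y) * b⁻¹) * b * y⁻¹ := by group
    _ = 1 := by rw [h4]; group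

open Cfsg.Agent.ChevalleyStructure.SL2Hom (up lo)
open Cfsg.Agent.H866.OZ (Co Ellip)

theorem exists_ellip_pow (F : Type u) [Field F] [Fintype F] :
    ∃ B : Matrix.SpecialLinearGroup (Fin 2) F, Ellip B ∧ B ^ (Fintype.card F + 1) = 1 := by
  obtain ⟨g, N, h1, h2, h3, -⟩ := H120.OZ.exists_elt F
  obtain ⟨q, hq⟩ : ∃ q, q = Fintype.card F := ⟨_, rfl⟩
  have hq2 : 1 < q := hq ▸ Fintype.one_lt_card
  rw [← hq] at h1 h2 ⊢
  have e : q ^ 2 - 1 = (q - 1) * (q + 1) := by rw [mul_comm, ← Nat.sq_sub_sq, one_pow]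
  let B : Matrix.SpecialLinearGroup (Fin 2) F := ⟨(g ^ (q - 1)).1, by
    rw [← H120.OZ.coe_det, map_pow, h3, ← h2, pow_orderOf_eq_one, Units.val_one]⟩
  have hB : orderOf B = q + 1 := by
    rw [← orderOf_injective Matrix.SpecialLinearGroup.toGL Matrix.SpecialLinearGroup.toGL_injective,
      show Matrix.SpecialLinearGroup.toGL B = g ^ (q - 1) from Units.ext rfl, orderOf_pow_of_dvd (by omega)
      (by rw [h1, e]; exact dvd_mul_right _ _), h1, e, Nat.mul_div_cancel_left _ (by omega)]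
  refine ⟨B, fun C hC => ?_, by rw [← hB, pow_orderOf_eq_one]⟩
  obtain ⟨A, hA⟩ : ∃ A, A = C⁻¹ * B * C := ⟨_, rfl⟩
  rw [← hA] at hC
  have m : ∀ (X Y : Matrix.SpecialLinearGroup (Fin 2) F) i j, (X * Y).1 i j = X.1 i 0 * Y.1 0 j + X.1 i 1 * Y.1 1 j :=
    fun X Y i j => by rw [Matrix.SpecialLinearGroup.coe_mul, Matrix.mul_apply, Fin.sum_univ_two]
  have k1 : ∀ k : ℕ, (A ^ k).1 1 0 = 0 ∧ (A ^ k).1 0 0 = A.1 0 0 ^ k ∧ (A ^ k).1 1 1 = A.1 1 1 ^ k := by
    intro k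
    induction k with
    | zero => simp only [_root_.pow_zero, _root_.Fin.isValue, _root_.Matrix.SpecialLinearGroup.coe_one, _root_.ne_eq, _root_.one_ne_zero, _root_.not_false_eq_true, _root_.Matrix.one_apply_ne, _root_.Matrix.one_apply_eq, _root_.and_self]
    | succ k ih =>
      rw [pow_succ, m, m, m, ih.1, ih.2.1, ih.2.2, hC]
      refine ⟨?_, ?_, ?_⟩ <;> ring
  have hd := A.2
  rw [Matrix.det_fin_two, hC, mul_zero, sub_zero] at hd
  obtain ⟨a1, a2, a3⟩ := k1 (q - 1)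
  rw [hq, FiniteField.pow_card_sub_one_eq_one _ (left_ne_zero_of_mul_eq_one hd), ← hq] at a2
  rw [hq, FiniteField.pow_card_sub_one_eq_one _ (right_ne_zero_of_mul_eq_one hd), ← hq] at a3
  have k2 : ∀ k : ℕ, ((A ^ (q - 1)) ^ k).1 = !![1, k * (A ^ (q - 1)).1 0 1; 0, 1] := by
    intro k
    induction k with
    | zero => rw [pow_zero, Nat.cast_zero, zero_mul]; exact Matrix.one_fin_two
    | succ k ih =>
      rw [Matrix.eta_fin_two ((A ^ (q - 1)) ^ (k + 1)).1, pow_succ, m, m, m, m, ih, a1, a2, a3]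
      simp only [add_mul, add_comm, _root_.Fin.isValue, _root_.Matrix.SpecialLinearGroup.coe_pow, _root_.Matrix.of_apply, _root_.Matrix.cons_val', _root_.Matrix.cons_val_zero, _root_.Matrix.cons_val_fin_one, _root_.mul_one, _root_.Matrix.cons_val_one, _root_.MulZeroClass.mul_zero, _root_.zero_add, _root_.one_mul, _root_.add_zero, _root_.MulZeroClass.zero_mul, _root_.Nat.cast_add, _root_.Nat.cast_one]
  have k3 : A ^ ((q - 1) * q) = 1 := by
    rw [pow_mul]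
    apply Subtype.ext
    rw [k2, hq, Nat.cast_card_eq_zero, zero_mul]
    exact Matrix.one_fin_two.symm
  rw [hA, show C⁻¹ * B * C = C⁻¹ * B * C⁻¹⁻¹ by rw [inv_inv], conj_pow, mul_inv_eq_one, mul_eq_left] at k3
  have k4 := orderOf_dvd_of_pow_eq_one k3
  rw [hB] at k4
  have k5 := Nat.le_of_dvd (by omega) (Nat.Coprime.dvd_of_dvd_mul_right (by simp) k4)
  omega

open CoxeterSystem Cfsg.Agent.ChevalleyStructure.CoxeterGeom Cfsg.Agent.Tits.Roots Cfsg.Agent.Tits.Core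
  Cfsg.Agent.Nodes.Reps Cfsg.Agent.Nodes.BNOf Cfsg.Agent.Nodes.StabComb Cfsg.Agent.Nodes.Bruhat
  Cfsg.Agent.Nodes.LeviDec Cfsg.Agent.Nodes.OppDec Cfsg.Agent.Nodes.RGDChev Cfsg.Agent.KFacts.RgdChevCoord
open Cfsg.Lie Cfsg.Agent.ChevalleyStructure Cfsg.Agent.ChevalleyStructure.Elts
  Cfsg.Agent.ChevalleyStructure.RootVec Cfsg.Agent.ChevalleyStructure.RootVecTab
  Cfsg.Agent.ChevalleyStructure.NPerm Cfsg.Agent.ChevalleyStructure.CoxeterGeomTypes
open Cfsg.Agent.H934.PQR.TorGen (tau)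
open Cfsg.Agent.H120.OZ
open scoped commutatorElement

namespace Chev

variable {D : ChevalleyDatum} {M : CoxeterMatrix (Fin 2)} (hp : IsType D 2 M) {F : Type u} [Field F]

/-- the homomorphism of a node -/
structure IsPs (i : Fin 2) (Ψ : Matrix.SpecialLinearGroup (Fin 2) F →* ↥(D.group F)) : Prop where
  up : ∀ s, Ψ (up s) = xr hp (D.simple i) s
  lo : ∀ s, Ψ (lo s) = xr hp (D.neg (D.simple i)) s
  tau : ∀ c : Fˣ, Ψ (tau c) = hc hp i (c : F)

theorem exists_ps (F : Type u) [Field F] (i : Fin 2) : ∃ Ψ, IsPs (F := F) hp i Ψ := by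
  obtain ⟨Ψ, h1, h2, h3⟩ := exists_psi (K := F) hp i
  exact ⟨Ψ, h1, h2, h3⟩

include hp in
theorem slt (i : Fin 2) : D.simple i < D.nroots := _root_.Cfsg.Agent.ChevalleyStructure.NPerm.simple_lt hp.inList (lt_rank hp i)

theorem conj_xr {t : ↥(D.group F)} (ht : t ∈ TT D F) {r : ℕ} (hr : r < D.nroots) (a : F) :
    t * xr hp r a * t⁻¹ = xr hp r (ch hp (vec D 2 r) t * a) := by
  rw [← xc_vec hp hr, (act hp hr ht).2, xc_vec hp hr]

theorem comm_of_ch {t : ↥(D.group F)} (ht : t ∈ TT D F) {r : ℕ} (hr : r < D.nroots) (h : ch hp (vec D 2 r) t = 1) (a : F) :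
    t * xr hp r a = xr hp r a * t := by
  rw [← mul_inv_eq_iff_eq_mul, conj_xr hp ht hr, h, one_mul]

theorem n_xr (i : Fin 2) {r : ℕ} (hr : r < D.nroots) : ∃ c : F, c ≠ 0 ∧ ∀ a,
    nc hp F i * xr hp r a * (nc hp F i)⁻¹ = xr hp (D.reflectRoot i r) (c * a) := by
  obtain ⟨c, h1, h2⟩ := nact hp (K := F) (i := i) hr
  refine ⟨c, h1, fun a => ?_⟩
  rw [← xc_vec hp hr, h2, xc_vec hp (reflectRoot_lt hp.inList (lt_rank hp i) hr)]

theorem xr_pow' (r : ℕ) (a : F) (k : ℕ) : xr hp r a ^ k = xr hp r (k * a) := by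
  induction k with
  | zero => rw [pow_zero, Nat.cast_zero, zero_mul, xr_zero]
  | succ k ih => rw [pow_succ, ih, xr_add, Nat.cast_succ, add_mul, one_mul]

/-- the commutator formula -/
theorem comm_eq {r s : ℕ} (hr : r < D.nroots) (hs : s < D.nroots) (hrs : s ≠ r) (hneg : s ≠ D.neg r) (a b : F) :
    ⁅xr hp s a, xr hp r b⁆ = ((D.commTerms r s).map fun c => xr hp c.1 ((c.2.1 : F) * b ^ c.2.2.1 * (-a) ^ c.2.2.2)).prod := by
  have e : ⁅xG hp.inList s a, xG hp.inList r b⁆ = wordG hp.inList (D.commWord F r s (-b) (-a)) := by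
    rw [← comm_xG hp hr hs hrs hneg, xG_inv, xG_inv, _root_.neg_neg, _root_.neg_neg]
  have key : ∀ w : List (ℕ × ℤ × ℕ × ℕ), (((w.map fun c => xr hp c.1 ((c.2.1 : F) * b ^ c.2.2.1 * (-a) ^ c.2.2.2)).prod :
      ↥(D.group F)) : GL D.Idx F) = wordG hp.inList (w.map fun c => (c.1, (c.2.1 : F) * (- -b) ^ c.2.2.1 * (-a) ^ c.2.2.2)) := by
    intro w
    induction w with
    | nil => rfl
    | cons c w ih => rw [List.map_cons, List.map_cons, List.prod_cons, wordG_cons, Subgroup.coe_mul, ih, coe_xr, _root_.neg_neg]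
  apply Subtype.ext
  rw [key]
  exact e

/-- torus elements -/
noncomputable def tt (s : F) (a b : ℕ) : ↥(D.group F) := hc hp 0 (s ^ a) * hc hp 1 (s ^ b)

theorem tt_mem {s : F} (hs : s ≠ 0) (a b : ℕ) : tt hp s a b ∈ TT D F :=
  mul_mem (hc_mem hp 0 (pow_ne_zero _ hs)) (hc_mem hp 1 (pow_ne_zero _ hs))

theorem ch_tt {s : F} (hs : s ≠ 0) (a b : ℕ) {r : ℕ} (hr : r < D.nroots) {e : ℕ}
    (he : a * D.cartan 0 r + b * D.cartan 1 r = e) : ch hp (vec D 2 r) (tt hp s a b) = s ^ e := by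
  rw [tt, ch_mul hp hr (hc_mem hp 0 (pow_ne_zero _ hs)) (hc_mem hp 1 (pow_ne_zero _ hs)), ch_hc hp 0 (pow_ne_zero _ hs) hr,
    ch_hc hp 1 (pow_ne_zero _ hs) hr, ← zpow_natCast s e, ← he, zpow_add₀ hs, zpow_mul, zpow_mul, zpow_natCast, zpow_natCast]
  rfl

theorem mem_X (i : Fin 2) {g : ↥(D.group F)} : g ∈ XX D 2 F (sr i) ↔ ∃ a, g = xr hp (D.simple i) a := by
  rw [← vec_simple hp i, mem_XX_vec hp (slt hp i)]

theorem xr_mem_U {W : Type*} [Group W] (cs : CoxeterSystem M W) {r : ℕ} (hr : r < D.nroots) (h : ∀ k, 0 ≤ vec D 2 r k) (a : F) :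
    xr hp r a ∈ RGD.Sup (XX D 2 F) (RGD.Pos cs hp.isCartan) :=
  RGD.le_Sup (S := RGD.Pos cs hp.isCartan) ⟨(isRoot_iff hp cs _).2 ⟨r, hr, rfl⟩, h⟩ ((mem_XX_vec hp hr).2 ⟨a, rfl⟩)

theorem VJ_le {W : Type*} [Group W] (cs : CoxeterSystem M W) (i : Fin 2) {L : List ℕ}
    (h : ∀ k : Fin 2, k ≠ i → ∀ r < D.nroots, 0 < vec D 2 r k → r ∈ L) :
    VJ cs hp.isCartan (XX D 2 F) {i} ≤ GS hp F L := by
  refine RGD.Sup_le fun x hx => ?_
  obtain ⟨h1, h2, k, hk, hk0⟩ := hx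
  obtain ⟨r, hr, rfl⟩ := (isRoot_iff hp cs x).1 h1
  intro g hg
  obtain ⟨a, rfl⟩ := (mem_XX_vec hp hr).1 hg
  exact xr_mem_GS hp (h k (fun h => hk h) r hr hk0) a

theorem U_le {W : Type*} [Group W] (cs : CoxeterSystem M W) {L : List ℕ}
    (h : ∀ r < D.nroots, (∀ k : Fin 2, 0 ≤ vec D 2 r k) → r ∈ L) :
    RGD.Sup (XX D 2 F) (RGD.Pos cs hp.isCartan) ≤ GS hp F L := by
  refine RGD.Sup_le fun x hx => ?_
  obtain ⟨h1, h2⟩ := hx
  obtain ⟨r, hr, rfl⟩ := (isRoot_iff hp cs x).1 h1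
  intro g hg
  obtain ⟨a, rfl⟩ := (mem_XX_vec hp hr).1 hg
  exact xr_mem_GS hp (h r hr h2) a

theorem comm_of_GS {L : List ℕ} {z : ↥(D.group F)} (h : ∀ r ∈ L, ∀ a : F, xr hp r a * z = z * xr hp r a)
    {v : ↥(D.group F)} (hv : v ∈ GS hp F L) : v * z = z * v := by
  have h1 : GS hp F L ≤ Subgroup.centralizer {z} := by
    refine (Subgroup.closure_le _).2 ?_
    rintro _ ⟨r, hr, a, rfl⟩
    exact Subgroup.mem_centralizer_singleton_iff.2 (h r hr a)
  exact Subgroup.mem_centralizer_singleton_iff.1 (h1 hv)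

variable {hp} {i : Fin 2} {Ψ : Matrix.SpecialLinearGroup (Fin 2) F →* ↥(D.group F)}

theorem IsPs.co (h : IsPs hp i Ψ) : Co (TT D F) (nc hp F) (XX D 2 F) i Ψ := by
  refine ⟨fun x => ?_, fun a b e => ?_, ?_, fun c hc => ?_⟩
  · rw [mem_X hp]
    simp only [h.up]
  · rw [h.up, h.up] at e
    exact xr_inj hp (slt hp i) e
  · apply Subtype.ext
    show _ = nG hp.inList (D.simple i) 1
    unfold Cfsg.Agent.Nodes.RGDFoldSL.wS
    rw [map_mul, map_mul, h.up, h.lo, nG_def]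
    rfl
  · have h1 := h.tau (Units.mk0 c hc)
    rw [Cfsg.Agent.H934.PQR.TorGen.tau_eq] at h1
    rw [show c = ((Units.mk0 c hc : Fˣ) : F) from rfl, h1]
    exact hc_mem hp i hc

theorem IsPs.mem (h : IsPs hp i Ψ) {K : Subgroup ↥(D.group F)} (h1 : ∀ a, xr hp (D.simple i) a ∈ K)
    (h2 : ∀ a, xr hp (D.neg (D.simple i)) a ∈ K) (B : Matrix.SpecialLinearGroup (Fin 2) F) : Ψ B ∈ K := by
  have h4 : Subgroup.closure (Set.range (SL2Hom.up (F := F)) ∪ Set.range (SL2Hom.lo (F := F))) ≤ K.comap Ψ := by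
    rw [Subgroup.closure_le]
    rintro _ (⟨t, rfl⟩ | ⟨t, rfl⟩)
    · show Ψ _ ∈ K
      rw [h.up]
      exact h1 t
    · show Ψ _ ∈ K
      rw [h.lo]
      exact h2 t
  exact h4 (SL2Hom.mem_closure_SL2 B)

theorem IsPs.comm (h : IsPs hp i Ψ) {z : ↥(D.group F)} (h1 : ∀ a, z * xr hp (D.simple i) a = xr hp (D.simple i) a * z)
    (h2 : ∀ a, z * xr hp (D.neg (D.simple i)) a = xr hp (D.neg (D.simple i)) a * z)
    (B : Matrix.SpecialLinearGroup (Fin 2) F) : z * Ψ B = Ψ B * z :=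
  (Subgroup.mem_centralizer_singleton_iff.1 (h.mem (K := Subgroup.centralizer {z})
    (fun a => Subgroup.mem_centralizer_singleton_iff.2 (h1 a).symm)
    (fun a => Subgroup.mem_centralizer_singleton_iff.2 (h2 a).symm) B)).symm

theorem IsPs.conj [Finite ↥(D.group F)] (h : IsPs hp i Ψ) {L : List ℕ} (h1 : chk D L (D.simple i))
    (h2 : chk D L (D.neg (D.simple i))) (B : Matrix.SpecialLinearGroup (Fin 2) F) {v : ↥(D.group F)}
    (hv : v ∈ GS hp F L) : Ψ B * v * (Ψ B)⁻¹ ∈ GS hp F L :=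
  (Subgroup.mem_normalizer_iff.1 (h.mem (K := Subgroup.normalizer (GS hp F L : Set ↥(D.group F)))
    (fun a => Subgroup.mem_normalizer_fintype fun _ hx => conj_mem hp (slt hp i) h1 a hx)
    (fun a => Subgroup.mem_normalizer_fintype fun _ hx => conj_mem hp (_root_.Cfsg.Agent.ChevalleyStructure.NPerm.neg_lt hp.inList (slt hp i)) h2 a hx) B) v).1 hv

/-- the step for the elements `t Ψ(B)` -/
theorem IsPs.step [Finite F] [Finite ↥(D.group F)] (h : IsPs hp i Ψ) {L : List ℕ} {r : ℕ} (hr : r < D.nroots) (hc : chk D L r)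
    (h1 : chk D L (D.simple i)) (h2 : chk D L (D.neg (D.simple i)))
    (h3 : r ≠ D.simple i ∧ r ≠ D.neg (D.simple i) ∧ D.commTerms (D.simple i) r = [])
    (h4 : r ≠ D.neg (D.simple i) ∧ r ≠ D.neg (D.neg (D.simple i)) ∧ D.commTerms (D.neg (D.simple i)) r = [])
    {t : ↥(D.group F)} (ht : t ∈ TT D F) (h5 : ch hp (vec D 2 r) t ≠ 1) (B : Matrix.SpecialLinearGroup (Fin 2) F)
    {v : ↥(D.group F)} (hv : v ∈ GS hp F (r :: L)) (e : t * Ψ B * v = v * (t * Ψ B)) : v ∈ GS hp F L := by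
  refine H120.OZ.step hp hr hc h5 (fun a => ?_) (fun w hw => ?_) hv e
  · have h6 := h.comm (fun b => commute_xr hp (slt hp i) hr h3.1 h3.2.1 h3.2.2 a b)
      (fun b => commute_xr hp (_root_.Cfsg.Agent.ChevalleyStructure.NPerm.neg_lt hp.inList (slt hp i)) hr h4.1 h4.2.1 h4.2.2 a b) B
    rw [← conj_xr hp ht hr, mul_assoc t, ← h6]
    group
  · have h6 := tconj_mem hp (fun r hr => (h1 r hr).1) ht (h.conj h1 h2 B hw)
    rwa [show t * (Ψ B * w * (Ψ B)⁻¹) * t⁻¹ = t * Ψ B * w * (t * Ψ B)⁻¹ by group] at h6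

variable (hp) [Fintype F] (p : ℕ) [Fact p.Prime] [CharP F p]

theorem two (hM : 0 < M 0 1) : Two M.toCoxeterSystem hp.isCartan p (TT D F) (nc hp F) (XX D 2 F) (fun b => cond b 0 1) :=
  ⟨rgd (K := F) hp _ p, by decide, by decide, by
    rw [eq_top_iff, ← G1_eq_top hp M.toCoxeterSystem (K := F)]
    exact le_sup_right, fun s hs t ht => TT_comm hp hs ht, hM⟩

include hp in
theorem card_X (i : Fin 2) : Nat.card (XX D 2 F (sr i)) = Fintype.card F := by
  rw [← Nat.card_eq_fintype_card]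
  symm
  refine Nat.card_congr (Equiv.ofBijective (fun a : F => (⟨xr hp (D.simple i) a, (mem_X hp i).2 ⟨a, rfl⟩⟩ :
    XX D 2 F (sr i))) ⟨fun a b e => xr_inj hp (slt hp i) (congrArg Subtype.val e), ?_⟩)
  rintro ⟨g, hg⟩
  obtain ⟨a, rfl⟩ := (mem_X hp i).1 hg
  exact ⟨a, rfl⟩

theorem num [Finite M.Group] [Finite ↥(D.group F)] (hM : 0 < M 0 1) {h c : ℕ} (hm : M 0 1 = 2 * h) (h2 : 2 ≤ h)
    (hG : Nat.card ↥(D.group F) = Fintype.card F ^ (2 * h) * c) (hc : ¬ p ∣ c) (h6 : Fintype.card F ^ (2 * h) ≠ 64) :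
    ∃ l, Nonempty ((two (F := F) hp p hM).r2.Num p l) := by
  obtain ⟨a, hpp, ha⟩ := FiniteField.card F p
  have h0 := a.pos
  have e : Fintype.card F ^ (2 * h) = p ^ (h * (a + a)) := by rw [ha, ← pow_mul]; congr 1; ring
  refine R2.exists_num _ (p := p) (h := h) (k := a) (c := c) (fun _ => a) hpp hm h2 (fun _ => h0)
    (fun b => (card_X hp _).trans ha) (Two.isPGroup _) (fun t ht => ha ▸ TT_pow hp ht) h0 (by nlinarith only [h2, h0]) (by rw [hG, e]) hc ?_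
  rintro ⟨h3, h4⟩
  apply h6
  rw [e, h4, h3]
  norm_num

/-- the elements `t x` -/
theorem unip {t : ↥(D.group F)} (ht : t ∈ TT D F) {r : ℕ} (hr : r < D.nroots) (h : ch hp (vec D 2 r) t = 1) :
    p ∣ orderOf (t * xr hp r 1) ∧ (t * xr hp r 1) ^ Fintype.card F = t := by
  have hc : Commute t (xr hp r 1) := comm_of_ch hp ht hr h 1
  have hq : 1 < Fintype.card F := Fintype.one_lt_card
  constructor
  · have h1 : (t * xr hp r 1) ^ (Fintype.card F - 1) = xr hp r (-1) := by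
      rw [hc.mul_pow, TT_pow hp ht, one_mul, xr_pow', Nat.cast_sub hq.le, Nat.cast_one, Nat.cast_card_eq_zero, zero_sub, mul_one]
    have h2 : orderOf (xr hp r (-1 : F)) = p := orderOf_eq_prime
      (by rw [xr_pow', CharP.cast_eq_zero, zero_mul, xr_zero]) fun e =>
        neg_ne_zero.2 one_ne_zero (xr_inj hp hr (e.trans (xr_zero hp r).symm))
    rw [← h2, ← h1]
    exact orderOf_pow_dvd _
  · rw [hc.mul_pow, xr_pow', Nat.cast_card_eq_zero, zero_mul, xr_zero, mul_one]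
    obtain ⟨k, hk⟩ : ∃ k, Fintype.card F = k + 1 := ⟨_, (Nat.sub_add_cancel hq.le).symm⟩
    have h1 := TT_pow hp ht
    rw [hk, Nat.add_sub_cancel] at h1
    rw [hk, pow_succ, h1, one_mul]

theorem not_dvd_sub {k : ℕ} (hk : 0 < k) : ¬ p ∣ Fintype.card F ^ k - 1 := fun hd => by
  obtain ⟨a, hpp, ha⟩ := FiniteField.card F p
  have h1 : p ∣ Fintype.card F ^ k := (ha ▸ dvd_pow_self p a.ne_zero : p ∣ Fintype.card F).trans (dvd_pow_self _ hk.ne')
  exact hpp.one_lt.ne' (Nat.dvd_one.1 ((Nat.dvd_sub_iff_right (Nat.one_le_pow _ _ Fintype.card_pos) h1).1 hd))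

end Chev

end Cfsg.Agent.VAN.Rk
end

private theorem dce_6e738d6e71ae : _root_.True := by
  try have : _root_.True := by simp only [_root_.Cfsg.Agent.VAN.Rk.Chev.tt.eq_1]
  try have : _root_.True := by simp only [_root_.Cfsg.Agent.VAN.Rk.R2.Mg.eq_1]
  try have : _root_.True := by simp only [_root_.Cfsg.Agent.VAN.Rk.R2.Mg.congr_simp]
  try have : _root_.True := by simp only [_root_.Cfsg.Agent.VAN.Rk.R2.K.eq_1]
  try have : _root_.True := by simp only [_root_.Cfsg.Agent.VAN.Rk.Two.r2.congr_simp]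
  exact _root_.True.intro
end
end
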